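import Mathlib.GroupTheory.Nilpotent
import Mathlib.GroupTheory.Sylow
import Mathlib.GroupTheory.Solvable
import Mathlib.GroupTheory.PGroup
import Mathlib.GroupTheory.Commutator.Basic
import Mathlib.Tactic

/-!
Finite groups with a fixed-point-free automorphism `σ` with `σ ^ 4 = 1`:
the subgroup generated by the elements `g⁻¹ * σ² g` is nilpotent, and so is the derived subgroup.
-/

set_option autoImplicit false

namespace Cfsg.Agent.H72

open Subgroup
open scoped commutatorElement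

variable {G : Type*} [Group G]

/-- For a group of odd order, an element fixed and inverted is trivial. -/
theorem eq_one_of_sq_eq_one_of_odd [Finite G] (h : Odd (Nat.card G)) {x : G} (hx : x * x = 1) :
    x = 1 := by
  have h1 : orderOf x ∣ 2 := orderOf_dvd_of_pow_eq_one (by rw [pow_two]; exact hx)
  have h2 : orderOf x ∣ Nat.card G := orderOf_dvd_natCard x
  rcases (Nat.dvd_prime Nat.prime_two).1 h1 with h3 | h3
  · exact orderOf_eq_one_iff.1 h3
  · rw [h3] at h2
    exact absurd h2 (by rw [Nat.two_dvd_ne_zero]; exact Nat.odd_iff.1 h)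

/-- A bijection criterion: fixed-point-free automorphisms give a surjective displacement map. -/
theorem displace_surjective [Finite G] (σ : G ≃* G) (hfpf : ∀ g, σ g = g → g = 1) :
    Function.Surjective (fun g => g⁻¹ * σ g) := by
  refine Finite.injective_iff_surjective.1 ?_
  intro a b hab
  simp only at hab
  have : σ (a * b⁻¹) = a * b⁻¹ := by
    rw [map_mul, map_inv]
    rw [eq_inv_mul_iff_mul_eq] at hab
    rw [← hab]
    group
  exact mul_inv_eq_one.1 (hfpf _ this)

/-- A fixed-point-free automorphism induces one on an equivariant image. -/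
theorem fpf_of_surjective [Finite G] {H : Type*} [Group H] (φ : G →* H)
    (hφ : Function.Surjective φ) (σ : G ≃* G) (s : H → H) (hs : ∀ g, φ (σ g) = s (φ g))
    (hfpf : ∀ g, σ g = g → g = 1) : ∀ x, s x = x → x = 1 := by
  intro x hx
  obtain ⟨g, rfl⟩ := hφ x
  have hk : φ (g⁻¹ * σ g) = 1 := by rw [map_mul, map_inv, hs, hx, inv_mul_cancel]
  have hinj : Function.Injective (fun k : φ.ker => (k : G)⁻¹ * σ k) :=
    (Finite.injective_iff_surjective.2 (displace_surjective σ hfpf)).comp Subtype.val_injective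
  have hmem : ∀ k : φ.ker, (k : G)⁻¹ * σ k ∈ φ.ker := by
    intro k
    rw [MonoidHom.mem_ker, map_mul, map_inv, hs, MonoidHom.mem_ker.1 k.2, inv_one, one_mul]
    have h1 : s 1 = 1 := by rw [← map_one φ, ← hs, map_one]
    exact h1
  let f : φ.ker → φ.ker := fun k => ⟨(k : G)⁻¹ * σ k, hmem k⟩
  have hf : Function.Injective f := fun a b hab => hinj (congrArg Subtype.val hab)
  obtain ⟨k, hk'⟩ := Finite.injective_iff_surjective.1 hf ⟨g⁻¹ * σ g, hk⟩
  have hk2 : (k : G)⁻¹ * σ k = g⁻¹ * σ g := congrArg Subtype.val hk'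
  have : (k : G) = g := (Finite.injective_iff_surjective.2 (displace_surjective σ hfpf)) hk2
  rw [← this]
  exact MonoidHom.mem_ker.1 k.2

/-- A group with a fixed-point-free automorphism of `2`-power order has odd order. -/
theorem odd_card_of_fpf [Finite G] (σ : MulAut G) (h4 : σ ^ 4 = 1)
    (hfpf : ∀ g, σ g = g → g = 1) : Odd (Nat.card G) := by
  have hp : IsPGroup 2 (zpowers σ) := by
    intro x
    refine ⟨2, ?_⟩
    obtain ⟨k, hk⟩ := mem_zpowers_iff.1 x.2
    apply Subtype.ext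
    rw [SubmonoidClass.coe_pow, ← hk, OneMemClass.coe_one, ← zpow_natCast, ← zpow_mul,
      mul_comm, zpow_mul, zpow_natCast]
    norm_num [h4]
  have : Fact (Nat.Prime 2) := ⟨Nat.prime_two⟩
  have h := hp.card_modEq_card_fixedPoints G
  have hfix : MulAction.fixedPoints (zpowers σ) G = {1} := by
    ext g
    simp only [MulAction.mem_fixedPoints, Set.mem_singleton_iff]
    constructor
    · intro hg
      exact hfpf g (hg ⟨σ, mem_zpowers σ⟩)
    · rintro rfl x
      exact map_one (x : MulAut G)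
  rw [hfix] at h
  simp only [Nat.card_eq_fintype_card, Fintype.card_unique, Nat.ModEq] at h
  rw [Nat.odd_iff]
  simpa using h

/-- The norm trick. If `s` has order dividing `4` and acts fixed-point-freely on `V` and on the
group `Q` of automorphisms of `V`, with `s ^ 2` fixed-point-free on `Q`, then `Q` is trivial when
`|Q|` is prime to the exponent of `V`. -/
theorem norm_trick {V : Type*} [CommGroup V] [Finite V] (s : MulAut V) (h4 : s ^ 4 = 1)
    (hV : ∀ v, s v = v → v = 1) (Q : Subgroup (MulAut V)) [Finite Q]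
    (hnorm : ∀ x ∈ Q, s * x * s⁻¹ ∈ Q)
    (h1 : ∀ x ∈ Q, s * x * s⁻¹ = x → x = 1)
    (h2 : ∀ x ∈ Q, s ^ 2 * x * (s ^ 2)⁻¹ = x → x = 1)
    {p : ℕ} (hexp : ∀ v : V, v ^ p = 1) (hcop : p.Coprime (Nat.card Q)) : Q = ⊥ := by
  classical
  have := Fintype.ofFinite Q
  have hpow : ∀ (n : ℕ) (x : MulAut V), x ∈ Q → s ^ n * x * (s ^ n)⁻¹ ∈ Q := by
    intro n
    induction n with
    | zero => intro x hx; simpa using hx
    | succ n ih =>
      intro x hx
      have h := hnorm _ (ih x hx)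
      rw [pow_succ']
      simpa [mul_assoc] using h
  have h3 : ∀ x ∈ Q, s ^ 3 * x * (s ^ 3)⁻¹ = x → x = 1 := by
    intro x hx hxe
    have hs : s ^ 3 = s⁻¹ := eq_inv_of_mul_eq_one_left (by rw [← pow_succ]; exact h4)
    rw [hs, inv_inv] at hxe
    refine h1 x hx ?_
    nth_rewrite 1 [← hxe]
    group
  -- norm over `⟨s⟩` vanishes
  have hN : ∀ v : V, v * (s v * ((s ^ 2) v * (s ^ 3) v)) = 1 := by
    intro v
    refine hV _ ?_
    have e1 : s ((s ^ 2) v) = (s ^ 3) v := by rw [pow_succ' s 2]; rfl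
    have e2 : s ((s ^ 3) v) = v := by
      have : (s ^ 4) v = v := by rw [h4]; rfl
      rw [pow_succ' s 3] at this
      exact this
    have e3 : s (s v) = (s ^ 2) v := by rw [pow_two]; rfl
    simp only [map_mul, e1, e2, e3]
    simp [mul_comm, mul_left_comm]
  have key : ∀ (n : ℕ), (∀ x ∈ Q, s ^ n * x * (s ^ n)⁻¹ = x → x = 1) → ∀ v : V,
      (∏ x : Q, (x : MulAut V) ((s ^ n) ((x : MulAut V)⁻¹ v))) =
        ∏ y : Q, (y : MulAut V) ((s ^ n) v) := by
    intro n hn v
    let f : Q → Q := fun x => x * ⟨s ^ n * (x : MulAut V)⁻¹ * (s ^ n)⁻¹, hpow n _ (inv_mem x.2)⟩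
    have hf : Function.Injective f := by
      intro a b hab
      have hab' : (a : MulAut V) * (s ^ n * (a : MulAut V)⁻¹ * (s ^ n)⁻¹) =
          (b : MulAut V) * (s ^ n * (b : MulAut V)⁻¹ * (s ^ n)⁻¹) := congrArg Subtype.val hab
      have hc : ((b⁻¹ * a : Q) : MulAut V) = 1 := by
        refine hn _ (b⁻¹ * a).2 ?_
        simp only [Subgroup.coe_mul, Subgroup.coe_inv]
        calc s ^ n * ((b : MulAut V)⁻¹ * a) * (s ^ n)⁻¹
            = (s ^ n * (b : MulAut V)⁻¹ * (s ^ n)⁻¹) *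
              (s ^ n * (a : MulAut V)⁻¹ * (s ^ n)⁻¹)⁻¹ := by group
          _ = (b : MulAut V)⁻¹ * ((b : MulAut V) * (s ^ n * (b : MulAut V)⁻¹ * (s ^ n)⁻¹)) *
              (s ^ n * (a : MulAut V)⁻¹ * (s ^ n)⁻¹)⁻¹ := by group
          _ = _ := by rw [← hab']; group
      exact (inv_mul_eq_one.1 (Subtype.ext hc : b⁻¹ * a = (1 : Q))).symm
    refine Fintype.prod_bijective f (Finite.injective_iff_bijective.1 hf) _ _ (fun x => ?_)
    simp [f, MulAut.mul_apply]
  have main : ∀ v : V, ∀ x ∈ Q, x v = v := by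
    intro v x hx
    have hprod : (∏ x : Q, (x : MulAut V) ((x : MulAut V)⁻¹ v)) *
        ((∏ x : Q, (x : MulAut V) ((s ^ 1) ((x : MulAut V)⁻¹ v))) *
        ((∏ x : Q, (x : MulAut V) ((s ^ 2) ((x : MulAut V)⁻¹ v))) *
        (∏ x : Q, (x : MulAut V) ((s ^ 3) ((x : MulAut V)⁻¹ v))))) = 1 := by
      rw [← Finset.prod_mul_distrib, ← Finset.prod_mul_distrib, ← Finset.prod_mul_distrib]
      refine Finset.prod_eq_one (fun x _ => ?_)
      rw [← map_mul, ← map_mul, ← map_mul, pow_one, hN, map_one]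
    rw [key 1 (by simpa using h1), key 2 h2, key 3 h3] at hprod
    have hc : (∏ x : Q, (x : MulAut V) ((x : MulAut V)⁻¹ v)) = v ^ Nat.card Q := by
      simp [Nat.card_eq_fintype_card]
    rw [hc] at hprod
    have hinv : ∀ w : V, x (∏ y : Q, (y : MulAut V) w) = ∏ y : Q, (y : MulAut V) w := by
      intro w
      rw [map_prod]
      exact Fintype.prod_bijective (fun y : Q => (⟨x, hx⟩ : Q) * y)
        (Group.mulLeft_bijective _) _ _ (fun y => rfl)
    have hfix : x (v ^ Nat.card Q) = v ^ Nat.card Q := by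
      rw [eq_inv_of_mul_eq_one_left hprod, map_inv, map_mul, map_mul, hinv, hinv, hinv]
    rw [map_pow] at hfix
    have hroot : ∀ w : V, ∃ m : ℕ, (w ^ Nat.card Q) ^ m = w := fun w =>
      exists_pow_eq_self_of_coprime
        (Nat.Coprime.coprime_dvd_right (orderOf_dvd_of_pow_eq_one (hexp w)) hcop.symm)
    obtain ⟨m, hm⟩ := hroot ((x v) * v⁻¹)
    have hq : (x v * v⁻¹) ^ Nat.card Q = 1 := by
      rw [mul_pow, hfix, inv_pow, mul_inv_cancel]
    rw [hq, one_pow] at hm
    exact mul_inv_eq_one.1 hm.symm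
  rw [Subgroup.eq_bot_iff_forall]
  intro x hx
  exact MulEquiv.ext (fun v => main v x hx)

/-- Subgroup generated by the elements `g⁻¹ * τ g`. -/
def displaceSubgroup (τ : G ≃* G) : Subgroup G :=
  closure (Set.range fun g => g⁻¹ * τ g)

theorem displace_mem (τ : G ≃* G) (g : G) : g⁻¹ * τ g ∈ displaceSubgroup τ :=
  subset_closure ⟨g, rfl⟩

theorem displaceSubgroup_normal (τ : G ≃* G) : (displaceSubgroup τ).Normal := by
  refine ⟨fun n hn g => ?_⟩
  unfold displaceSubgroup at hn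
  induction hn using Subgroup.closure_induction with
  | mem x hx =>
    obtain ⟨a, rfl⟩ := hx
    have : g * (a⁻¹ * τ a) * g⁻¹ =
        ((a * g⁻¹)⁻¹ * τ (a * g⁻¹)) * ((g⁻¹)⁻¹ * τ g⁻¹)⁻¹ := by
      simp [map_mul, mul_assoc]
    rw [this]
    exact mul_mem (displace_mem τ _) (inv_mem (displace_mem τ _))
  | one => simp
  | mul a b _ _ ha hb => simpa [mul_assoc] using mul_mem ha hb
  | inv a _ ha => simpa [mul_assoc] using inv_mem ha

theorem map_displaceSubgroup {H : Type*} [Group H] (f : G →* H) (hf : Function.Surjective f)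
    (τ : G ≃* G) (τ' : H ≃* H) (h : ∀ g, f (τ g) = τ' (f g)) :
    (displaceSubgroup τ).map f = displaceSubgroup τ' := by
  rw [displaceSubgroup, MonoidHom.map_closure, ← Set.range_comp]
  congr 1
  ext x
  constructor
  · rintro ⟨g, rfl⟩
    exact ⟨f g, by simp [h]⟩
  · rintro ⟨y, rfl⟩
    obtain ⟨g, rfl⟩ := hf y
    exact ⟨g, by simp [h]⟩

/-- A group of automorphisms that is a `q`-group, normalized by a fixed-point-free `s`, is
centralized by `s ^ 2`. -/
theorem sq_centralizes_qGroup {V : Type*} [CommGroup V] [Finite V] (s : MulAut V) (h4 : s ^ 4 = 1)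
    (hV : ∀ v, s v = v → v = 1) {p : ℕ} (hexp : ∀ v : V, v ^ p = 1)
    {q : ℕ} [Fact q.Prime] (hq2 : q ≠ 2) (hqp : p.Coprime q) :
    ∀ (n : ℕ) (Q : Subgroup (MulAut V)), Nat.card Q = n → IsPGroup q Q →
      (∀ x ∈ Q, s * x * s⁻¹ ∈ Q) → (∀ x ∈ Q, s * x * s⁻¹ = x → x = 1) →
      ∀ x ∈ Q, s ^ 2 * x * (s ^ 2)⁻¹ = x := by
  intro n
  induction n using Nat.strong_induction_on with
  | _ n ih =>
  intro Q hn hQ hnorm h1
  by_contra hne
  push Not at hne
  obtain ⟨x₀, hx₀Q, hx₀⟩ := hne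
  have hfin : Finite (MulAut V) := Finite.of_injective (fun e : MulAut V => (⇑e : V → V))
    DFunLike.coe_injective
  -- smaller invariant subgroups are centralized
  have small : ∀ R : Subgroup (MulAut V), R < Q → (∀ x ∈ R, s * x * s⁻¹ ∈ R) →
      ∀ x ∈ R, s ^ 2 * x * (s ^ 2)⁻¹ = x := by
    intro R hR hRn
    refine ih (Nat.card R) ?_ R rfl (hQ.to_le hR.le) hRn (fun x hx => h1 x (hR.le hx))
    rw [← hn]
    exact lt_of_not_ge fun hle => hR.ne (Subgroup.eq_of_le_of_card_ge hR.le hle)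
  set t := s ^ 2 with ht
  have hcs : ∀ x, t * (s * x * s⁻¹) * t⁻¹ = s * (t * x * t⁻¹) * s⁻¹ := by
    intro x
    simp only [ht]
    group
  have htQ : ∀ x ∈ Q, t * x * t⁻¹ ∈ Q := by
    intro x hx
    have := hnorm _ (hnorm x hx)
    simpa [ht, pow_two, mul_assoc] using this
  have hcomm : ⁅Q, Q⁆ < Q := by
    have : Group.IsNilpotent Q := hQ.isNilpotent
    have hQne : Q ≠ ⊥ := fun h => hx₀ (by
      rw [h, Subgroup.mem_bot] at hx₀Q
      simp [hx₀Q])
    have : Nontrivial Q := Subgroup.nontrivial_iff_ne_bot Q |>.2 hQne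
    rw [← Q.range_subtype, MonoidHom.range_eq_map, ← map_commutator, map_subtype_lt_map_subtype]
    exact Group.IsSolvable.commutator_lt_top_of_nontrivial Q
  have hinvt : ∀ g, t * (g⁻¹ * (t * g * t⁻¹)) * t⁻¹ = (g⁻¹ * (t * g * t⁻¹))⁻¹ := by
    intro g
    have ht2 : t * t = 1 := by rw [ht, ← pow_add]; exact h4
    have hti : t⁻¹ = t := inv_eq_of_mul_eq_one_right ht2
    simp only [mul_inv_rev, inv_inv, hti, mul_assoc, ht2, mul_one]
  set D := ⁅Q, Q⁆ with hD
  have hDn : ∀ x ∈ D, s * x * s⁻¹ ∈ D := by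
    intro x hx
    have : (⁅Q, Q⁆).map (MulAut.conj s).toMonoidHom ≤ ⁅Q, Q⁆ := by
      rw [map_commutator]
      refine commutator_mono ?_ ?_ <;>
      · rintro _ ⟨y, hy, rfl⟩
        exact hnorm y hy
    exact this ⟨x, hx, rfl⟩
  have hDfix := small D hcomm hDn
  -- `Q` is generated by displacements
  let C : Subgroup (MulAut V) := closure {y | ∃ g ∈ Q, y = g⁻¹ * (t * g * t⁻¹)}
  have hCQ : C = Q := by
    have hle : C ≤ Q := (closure_le _).2 (by
      rintro _ ⟨g, hg, rfl⟩
      exact mul_mem (inv_mem hg) (htQ g hg))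
    rcases hle.lt_or_eq with hlt | heq
    · exfalso
      have hCn : ∀ x ∈ C, s * x * s⁻¹ ∈ C := by
        intro x hx
        have : C.map (MulAut.conj s).toMonoidHom ≤ C := by
          rw [MonoidHom.map_closure, closure_le]
          rintro _ ⟨_, ⟨g, hg, rfl⟩, rfl⟩
          refine subset_closure ⟨s * g * s⁻¹, hnorm g hg, ?_⟩
          rw [hcs]
          simp [mul_assoc]
        exact this ⟨x, hx, rfl⟩
      have hy := small C hlt hCn _ (subset_closure ⟨x₀, hx₀Q, rfl⟩)
      refine hx₀ ?_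
      have hyQ : x₀⁻¹ * (t * x₀ * t⁻¹) ∈ Q := mul_mem (inv_mem hx₀Q) (htQ _ hx₀Q)
      have ht2 : t * t = 1 := by rw [ht, ← pow_add]; exact h4
      have hti : t⁻¹ = t := inv_eq_of_mul_eq_one_right ht2
      have hyy : (x₀⁻¹ * (t * x₀ * t⁻¹)) * (x₀⁻¹ * (t * x₀ * t⁻¹)) = 1 := by
        nth_rewrite 1 [← hy]
        rw [hinvt, inv_mul_cancel]
      have hodd : Odd (Nat.card Q) := by
        obtain ⟨k, hk⟩ := IsPGroup.iff_card.1 hQ
        rw [hk]
        exact ((Fact.out : q.Prime).odd_of_ne_two hq2).pow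
      have h1' := eq_one_of_sq_eq_one_of_odd hodd
        (x := (⟨_, hyQ⟩ : Q)) (Subtype.ext hyy)
      exact (inv_mul_eq_one.1 (congrArg Subtype.val h1')).symm
    · exact heq
  have hDQ : ∀ d ∈ D, ∀ g ∈ Q, d * g = g * d := by
    intro d hd g hg
    rw [← hCQ] at hg
    induction hg using Subgroup.closure_induction with
    | mem y hy =>
      obtain ⟨a, ha, rfl⟩ := hy
      have hd' : a * d * a⁻¹ ∈ D := by
        have : a * d * a⁻¹ * d⁻¹ ∈ D := by
          rw [← commutatorElement_def]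
          exact commutator_mem_commutator ha (hcomm.le hd)
        simpa using mul_mem this hd
      have e1 := hDfix _ hd'
      have e2 := hDfix _ hd
      have e3 : t * (a * d * a⁻¹) * t⁻¹ =
          (t * a * t⁻¹) * (t * d * t⁻¹) * (t * a * t⁻¹)⁻¹ := by group
      rw [e1, e2] at e3
      calc d * (a⁻¹ * (t * a * t⁻¹)) = a⁻¹ * (a * d * a⁻¹) * (t * a * t⁻¹) := by group
        _ = a⁻¹ * (t * a * t⁻¹) * d := by rw [e3]; group
    | one => simp
    | mul a b _ _ ha hb => rw [← mul_assoc, ha, mul_assoc, hb, ← mul_assoc]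
    | inv a _ ha => exact (Commute.inv_right (show Commute d a from ha))
  have hmodD : ∀ a ∈ Q, ∀ b ∈ Q, ∃ c ∈ D, b * a = a * b * c := by
    intro a ha b hb
    refine ⟨⁅b⁻¹, a⁻¹⁆, commutator_mem_commutator (inv_mem hb) (inv_mem ha), ?_⟩
    rw [commutatorElement_def]
    group
  have hinvD : ∀ g ∈ Q, ∃ c ∈ D, t * g * t⁻¹ = g⁻¹ * c := by
    intro g hg
    have ht2 : t * t = 1 := by rw [ht, ← pow_add]; exact h4
    have hti : t⁻¹ = t := inv_eq_of_mul_eq_one_right ht2
    rw [← hCQ] at hg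
    induction hg using Subgroup.closure_induction with
    | mem y hy =>
      obtain ⟨a, ha, rfl⟩ := hy
      exact ⟨1, one_mem _, by rw [mul_one]; exact hinvt a⟩
    | one => exact ⟨1, one_mem _, by simp⟩
    | mul a b ha hb iha ihb =>
      obtain ⟨c, hc, hca⟩ := iha
      obtain ⟨d, hd, hdb⟩ := ihb
      have haQ : a ∈ Q := by rw [← hCQ]; exact ha
      have hbQ : b ∈ Q := by rw [← hCQ]; exact hb
      obtain ⟨e, he, hee⟩ := hmodD b⁻¹ (inv_mem hbQ) a⁻¹ (inv_mem haQ)
      refine ⟨e * c * d, mul_mem (mul_mem he hc) hd, ?_⟩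
      calc t * (a * b) * t⁻¹ = (t * a * t⁻¹) * (t * b * t⁻¹) := by group
        _ = a⁻¹ * (c * b⁻¹) * d := by rw [hca, hdb]; group
        _ = (a⁻¹ * b⁻¹) * c * d := by rw [hDQ c hc _ (inv_mem hbQ)]; group
        _ = _ := by rw [hee]; group
    | inv a ha iha =>
      obtain ⟨c, hc, hca⟩ := iha
      have haQ : a ∈ Q := by rw [← hCQ]; exact ha
      refine ⟨c⁻¹, inv_mem hc, ?_⟩
      calc t * a⁻¹ * t⁻¹ = (t * a * t⁻¹)⁻¹ := by group
        _ = c⁻¹ * a := by rw [hca]; group
        _ = _ := by rw [hDQ _ (inv_mem hc) a haQ]; group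
  have hxsx : ∀ x ∈ Q, x * (s * x * s⁻¹) = (s * x * s⁻¹) * x := by
    intro x hx
    set y := s * x * s⁻¹ with hy
    have hyQ : y ∈ Q := hnorm x hx
    obtain ⟨c, hc, hcx⟩ := hinvD x hx
    have hsy : s * y * s⁻¹ = x⁻¹ * c := by
      rw [← hcx, hy, ht, pow_two]
      group
    have hK : ⁅x, y⁆ ∈ D := commutator_mem_commutator hx hyQ
    have hK' : s * ⁅x, y⁆ * s⁻¹ = ⁅x, y⁆ := by
      have hcc : c * y⁻¹ = y⁻¹ * c := hDQ c hc _ (inv_mem hyQ)
      calc s * ⁅x, y⁆ * s⁻¹ = ⁅s * x * s⁻¹, s * y * s⁻¹⁆ := by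
            simp [commutatorElement_def, mul_assoc]
        _ = y * x⁻¹ * (c * y⁻¹) * c⁻¹ * x := by
            rw [← hy, hsy, commutatorElement_def]; group
        _ = x⁻¹ * (⁅x, y⁆ * x) := by rw [hcc, commutatorElement_def]; group
        _ = _ := by rw [hDQ _ hK x hx]; group
    have h := h1 _ (hcomm.le hK) hK'
    exact commutatorElement_eq_one_iff_mul_comm.1 h
  -- some element generates `Q` modulo `D` together with its image
  have hex : ∃ x ∈ Q, closure ({x, s * x * s⁻¹} ∪ (D : Set (MulAut V))) = Q := by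
    by_contra hno
    push Not at hno
    refine hx₀ ?_
    set H := closure ({x₀, s * x₀ * s⁻¹} ∪ (D : Set (MulAut V))) with hH
    have hle : H ≤ Q := (closure_le _).2 (by
      rintro z (hz | hz)
      · rcases hz with rfl | rfl
        · exact hx₀Q
        · exact hnorm _ hx₀Q
      · exact hcomm.le hz)
    refine small H (hle.lt_of_ne (hno x₀ hx₀Q)) ?_ x₀ (subset_closure (Or.inl (Or.inl rfl)))
    intro z hz
    have : H.map (MulAut.conj s).toMonoidHom ≤ H := by
      rw [hH, MonoidHom.map_closure, closure_le]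
      rintro _ ⟨w, hw, rfl⟩
      rcases hw with hw | hw
      · rcases hw with rfl | rfl
        · exact subset_closure (Or.inl (Or.inr rfl))
        · obtain ⟨c, hc, hcx⟩ := hinvD x₀ hx₀Q
          have : (MulAut.conj s).toMonoidHom (s * x₀ * s⁻¹) = x₀⁻¹ * c := by
            rw [← hcx, ht, pow_two]; simp [mul_assoc]
          rw [this]
          exact mul_mem (inv_mem (subset_closure (Or.inl (Or.inl rfl))))
            (subset_closure (Or.inr hc))
      · exact subset_closure (Or.inr (hDn w hw))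
    exact this ⟨z, hz, rfl⟩
  obtain ⟨x, hxQ, hgen⟩ := hex
  have hab : ∀ a ∈ Q, ∀ b ∈ Q, a * b = b * a := by
    have hgencomm : ∀ a ∈ ({x, s * x * s⁻¹} ∪ (D : Set (MulAut V))),
        ∀ b ∈ ({x, s * x * s⁻¹} ∪ (D : Set (MulAut V))), a * b = b * a := by
      rintro a (ha | ha) b (hb | hb)
      · rcases ha with rfl | rfl <;> rcases hb with rfl | rfl
        · rfl
        · exact hxsx a hxQ
        · exact (hxsx b hxQ).symm
        · rfl
      · have : a ∈ Q := by rcases ha with rfl | rfl; exacts [hxQ, hnorm _ hxQ]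
        exact (hDQ b hb a this).symm
      · have : b ∈ Q := by rcases hb with rfl | rfl; exacts [hxQ, hnorm _ hxQ]
        exact hDQ a ha b this
      · exact hDQ a ha b (hcomm.le hb)
    set S := ({x, s * x * s⁻¹} ∪ (D : Set (MulAut V))) with hS
    have h1' : closure S ≤ centralizer S := (closure_le _).2 (fun w hw =>
      mem_centralizer_iff.2 (fun z hz => hgencomm z hz w hw))
    have h2' : closure S ≤ centralizer (closure S : Set (MulAut V)) := (closure_le _).2 (fun w hw =>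
      mem_centralizer_iff.2 (fun z hz => (mem_centralizer_iff.1 (h1' hz) w hw).symm))
    intro a ha b hb
    rw [← hgen] at ha hb
    exact mem_centralizer_iff.1 (h2' hb) a ha
  have hDbot : D = ⊥ := by
    rw [hD, commutator_eq_bot_iff_le_centralizer]
    exact fun a ha => Subgroup.mem_centralizer_iff.2 (fun b hb => hab b hb a ha)
  have h2 : ∀ z ∈ Q, t * z * t⁻¹ = z → z = 1 := by
    intro z hz hfix
    obtain ⟨c, hc, hcz⟩ := hinvD z hz
    rw [hDbot, Subgroup.mem_bot] at hc
    rw [hc, mul_one, hfix] at hcz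
    have hodd : Odd (Nat.card Q) := by
      obtain ⟨k, hk⟩ := IsPGroup.iff_card.1 hQ
      rw [hk]
      exact ((Fact.out : q.Prime).odd_of_ne_two hq2).pow
    exact congrArg Subtype.val (eq_one_of_sq_eq_one_of_odd hodd (x := (⟨z, hz⟩ : Q))
      (Subtype.ext (mul_eq_one_iff_eq_inv.2 hcz)))
  have hbot := norm_trick s h4 hV Q hnorm h1 h2 hexp (by
    obtain ⟨k, hk⟩ := IsPGroup.iff_card.1 hQ
    rw [hk]
    exact hqp.pow_right k)
  rw [hbot, Subgroup.mem_bot] at hx₀Q
  exact hx₀ (by simp [hx₀Q])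


end Cfsg.Agent.H72
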