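import Cfsg.Agent.Cores.UpperSeries
import Cfsg.Agent.Cores.Constrained

/-!
Groups of p-length one.
-/

set_option autoImplicit false
set_option linter.style.haveILetI false

namespace Cfsg.Agent.H72.PLengthOne

open Subgroup
open scoped commutatorElement

variable {G : Type*} [Group G] [Finite G] {p : ℕ} [Fact p.Prime]

theorem sup_eq_pPrimePCore (hpl : Cfsg.PLengthLE p 1 G) (S : Sylow p G) :
    (S : Subgroup G) ⊔ Cfsg.pPrimeCore p G = Cfsg.pPrimePCore p G := by
  set N := Cfsg.pPrimeCore p G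
  have hcop := Cores.pLengthLE_one_iff.1 hpl
  have hle : (S : Subgroup G) ≤ Cfsg.pPrimePCore p G := by
    have h1 : (S : Subgroup G).map (QuotientGroup.mk' (Cfsg.pPrimePCore p G)) = ⊥ := by
      rw [← Subgroup.card_eq_one]
      obtain ⟨k, hk⟩ := (S.2.map (QuotientGroup.mk' (Cfsg.pPrimePCore p G))).exists_card_eq
      refine Nat.eq_one_of_dvd_coprimes hcop (Subgroup.card_subgroup_dvd_card _) ?_
      rcases Nat.eq_zero_or_pos k with rfl | hk0
      · rw [hk, pow_zero]; exact one_dvd _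
      · exfalso
        have hp := (Fact.out : p.Prime)
        exact hp.one_lt.ne (Nat.eq_one_of_dvd_coprimes hcop
          ((hk ▸ dvd_pow_self p hk0.ne').trans (Subgroup.card_subgroup_dvd_card _)) dvd_rfl).symm
    rwa [Subgroup.map_eq_bot_iff, QuotientGroup.ker_mk'] at h1
  have hs := QuotientGroup.mk'_surjective N
  have hmap : Cfsg.pCore p (G ⧸ N) = (S : Subgroup G).map (QuotientGroup.mk' N) := by
    rw [← Sylow.coe_mapSurjective hs S]
    refine (S.mapSurjective hs).is_maximal' Cores.pCore_isPGroup ?_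
    rw [Sylow.coe_mapSurjective, Subgroup.map_le_iff_le_comap]
    exact hle
  show _ = (Cfsg.pCore p (G ⧸ N)).comap (QuotientGroup.mk' N)
  rw [hmap, Subgroup.comap_map_eq, QuotientGroup.ker_mk']

theorem exists_mul (hpl : Cfsg.PLengthLE p 1 G) (S : Sylow p G) (x : G) :
    ∃ g ∈ normalizer ((S : Subgroup G) : Set G), ∃ n ∈ Cfsg.pPrimeCore p G, g * n = x := by
  set N := Cfsg.pPrimeCore p G
  haveI : (Cfsg.pPrimePCore p G).Normal := inferInstance
  have hle : (S : Subgroup G) ≤ Cfsg.pPrimePCore p G := sup_eq_pPrimePCore hpl S ▸ le_sup_left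
  have h : normalizer ((S : Subgroup G) : Set G) ⊔ Cfsg.pPrimePCore p G = ⊤ :=
    Sylow.normalizer_sup_eq_top' S hle
  rw [← sup_eq_pPrimePCore hpl S, ← sup_assoc, sup_eq_left.2 (le_normalizer (H := (S : Subgroup G)))] at h
  obtain ⟨g, hg, n, hn, rfl⟩ := Subgroup.mem_sup_of_normal_right.1 (h ▸ mem_top x)
  exact ⟨g, hg, n, hn, rfl⟩

theorem eq_one_of_mem_mem (S : Sylow p G) {x : G} (h1 : x ∈ Cfsg.pPrimeCore p G) (h2 : x ∈ (S : Subgroup G)) :
    x = 1 := by
  have := Cores.disjoint_of_isPGroup_of_coprime (B := Cfsg.pPrimeCore p G) S.2 Cores.coprime_card_pPrimeCore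
  exact Subgroup.mem_bot.1 (this ▸ ⟨h2, h1⟩ : x ∈ (⊥ : Subgroup G))

theorem commute_of_conj_mem (S : Sylow p G) {n y : G} (hn : n ∈ Cfsg.pPrimeCore p G) (hy : y ∈ (S : Subgroup G))
    (h : n * y * n⁻¹ ∈ (S : Subgroup G)) : n * y = y * n := by
  have h2 := eq_one_of_mem_mem S (x := n * y * n⁻¹ * y⁻¹)
    (by
      have := (Cfsg.pPrimeCore p G).mul_mem hn
        ((inferInstance : (Cfsg.pPrimeCore p G).Normal).conj_mem n⁻¹ (inv_mem hn) y)
      simpa [mul_assoc] using this)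
    ((S : Subgroup G).mul_mem h (inv_mem hy))
  rw [mul_inv_eq_one, mul_inv_eq_iff_eq_mul] at h2
  exact h2

theorem fusion (hpl : Cfsg.PLengthLE p 1 G) (S : Sylow p G) (Y : Set G) (x : G) (hY : Y ⊆ (S : Subgroup G))
    (hxY : (fun y => x * y * x⁻¹) '' Y ⊆ (S : Subgroup G)) :
    ∃ g ∈ normalizer ((S : Subgroup G) : Set G), ∃ c ∈ centralizer Y, g * c = x := by
  obtain ⟨g, hg, n, hn, rfl⟩ := exists_mul hpl S x
  refine ⟨g, hg, n, Subgroup.mem_centralizer_iff.2 fun y hy => ?_, rfl⟩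
  refine (commute_of_conj_mem S hn (hY hy) ((mem_normalizer_iff.1 hg _).2 ?_)).symm
  have : g * n * y * (g * n)⁻¹ ∈ (S : Subgroup G) := hxY ⟨y, hy, rfl⟩
  simpa [mul_assoc] using this

theorem conj_pGroup (hpl : Cfsg.PLengthLE p 1 G) (S : Sylow p G) (Q : Subgroup G) (hQ : IsPGroup p Q) :
    ∃ x ∈ centralizer ((Q ⊓ (S : Subgroup G) : Subgroup G) : Set G),
      Q.map (MulAut.conj x).toMonoidHom ≤ (S : Subgroup G) := by
  obtain ⟨T, hT⟩ := hQ.exists_le_sylow
  obtain ⟨x0, hx0⟩ := MulAction.exists_smul_eq G T S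
  obtain ⟨g, hg, n, hn, rfl⟩ := exists_mul hpl S x0
  have hQn : ∀ q ∈ Q, n * q * n⁻¹ ∈ (S : Subgroup G) := by
    intro q hq
    refine (mem_normalizer_iff.1 hg _).2 ?_
    have h1 : g * n * q * (g * n)⁻¹ ∈ (S : Subgroup G) := by
      rw [← hx0]
      exact Subgroup.smul_mem_pointwise_smul q (MulAut.conj (g * n)) _ (hT hq)
    simpa [mul_assoc] using h1
  refine ⟨n, Subgroup.mem_centralizer_iff.2 fun q hq => (commute_of_conj_mem S hn hq.2 (hQn q hq.1)).symm, ?_⟩
  rintro _ ⟨q, hq, rfl⟩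
  exact hQn q hq

theorem focal (hpl : Cfsg.PLengthLE p 1 G) (S : Sylow p G) (h : (S : Subgroup G) ≤ commutator G) :
    (S : Subgroup G) ≤ ⁅normalizer ((S : Subgroup G) : Set G), normalizer ((S : Subgroup G) : Set G)⁆ := by
  set H := normalizer ((S : Subgroup G) : Set G) with hH
  set N := Cfsg.pPrimeCore p G
  have hG : commutator G ≤ ⁅H, H⁆ ⊔ N := by
    rw [commutator_def, Subgroup.commutator_le]
    intro a _ b _
    obtain ⟨g, hg, n, hn, rfl⟩ := exists_mul hpl S a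
    obtain ⟨g', hg', n', hn', rfl⟩ := exists_mul hpl S b
    have hq : ∀ (x m : G), m ∈ N → QuotientGroup.mk' N (x * m) = QuotientGroup.mk' N x := fun x m hm => by
      rw [map_mul, show QuotientGroup.mk' N m = 1 from (QuotientGroup.eq_one_iff m).2 hm, mul_one]
    have hc : QuotientGroup.mk' N ⁅g * n, g' * n'⁆ = QuotientGroup.mk' N ⁅g, g'⁆ := by
      rw [map_commutatorElement, map_commutatorElement, hq _ _ hn, hq _ _ hn']
    rw [QuotientGroup.mk'_eq_mk'] at hc
    obtain ⟨z, hz, hze⟩ := hc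
    have hze' : ⁅g * n, g' * n'⁆ = ⁅g, g'⁆ * z⁻¹ := by rw [← hze]; group
    rw [hze']
    exact Subgroup.mul_mem_sup (commutator_mem_commutator hg hg') (N.inv_mem hz)
  intro s hs
  obtain ⟨c, hc, n, hn, rfl⟩ := Subgroup.mem_sup_of_normal_right.1 (hG (h hs))
  have hcH : c ∈ H := (Subgroup.commutator_le.2 fun a ha b hb => by
    rw [commutatorElement_def]
    exact H.mul_mem (H.mul_mem (H.mul_mem ha hb) (H.inv_mem ha)) (H.inv_mem hb) : ⁅H, H⁆ ≤ H) hc
  have hsH : c * n ∈ H := le_normalizer hs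
  have hnH : n ∈ H := (H.mul_mem_cancel_left hcH).1 hsH
  -- compare the orders in the abelianization of `H`
  let s' : H := ⟨c * n, hsH⟩
  let n' : H := ⟨n, hnH⟩
  have hcomm : (commutator H).map H.subtype = ⁅H, H⁆ := Subgroup.map_subtype_commutator H
  have heq : (Abelianization.of s') = Abelianization.of n' := by
    have : s' = ⟨c, hcH⟩ * n' := Subtype.ext rfl
    rw [this, map_mul]
    have hc' : (⟨c, hcH⟩ : H) ∈ commutator H := by
      obtain ⟨y, hy, hye⟩ := Subgroup.mem_map.1 (hcomm.ge hc)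
      rwa [show y = ⟨c, hcH⟩ from Subtype.ext hye] at hy
    rw [show Abelianization.of (⟨c, hcH⟩ : H) = 1 from (QuotientGroup.eq_one_iff _).2 hc', one_mul]
  have hd1 : orderOf (Abelianization.of s') ∣ orderOf (c * n) :=
    (orderOf_map_dvd _ s').trans (dvd_of_eq (Subgroup.orderOf_mk (c * n) hsH))
  have hd2 : orderOf (Abelianization.of s') ∣ orderOf n := by
    rw [heq]; exact (orderOf_map_dvd _ n').trans (dvd_of_eq (Subgroup.orderOf_mk n hnH))
  obtain ⟨k, hk⟩ := S.2 ⟨c * n, hs⟩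
  have hpk : orderOf (c * n) ∣ p ^ k := orderOf_dvd_of_pow_eq_one (congrArg Subtype.val hk)
  have hnp : (orderOf n).Coprime (p ^ k) :=
    (Cores.coprime_card_pPrimeCore.coprime_dvd_left (N.orderOf_dvd_natCard hn)).pow_right k
  have h1 : Abelianization.of s' = 1 := orderOf_eq_one_iff.1
    (Nat.eq_one_of_dvd_coprimes hnp hd2 (hd1.trans hpk))
  rw [← hcomm]
  exact ⟨s', (QuotientGroup.eq_one_iff _).1 h1, rfl⟩

end Cfsg.Agent.H72.PLengthOne
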