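import Mathlib
import Cfsg.Prelude.Def_JordanBlocks
import Cfsg.Agent.Arith.JordanCent
import Cfsg.Agent.Aschbacher.Forms

/-!
Which unipotent Jordan types preserve a nondegenerate alternating or symmetric form.
-/

set_option autoImplicit false

namespace Cfsg.Agent.H72.UnipotentForm

open Matrix Cfsg.Agent.Arith.JordanCent

/-! ### An abstract unipotent isometry -/

section
variable {F : Type*} [Field F] {V : Type*} [AddCommGroup V] [Module F V]
  (B : LinearMap.BilinForm F V) (M N : Module.End F V)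

theorem apply_shift (hMN : M = 1 + N) (hB : ∀ x y, B (M x) (M y) = B x y) (x y : V) :
    B (N x) y = - B (M x) (N y) := by
  have h := hB x y
  have h1 : M x = x + N x := by rw [hMN]; rfl
  have h2 : M y = y + N y := by rw [hMN]; rfl
  rw [h2, map_add] at h
  have h3 : B (M x) y = B x y + B (N x) y := by rw [h1, map_add]; rfl
  rw [h3] at h
  linear_combination h

theorem comm_pow (hMN : M = 1 + N) (a b : ℕ) (x : V) : (M ^ a) ((N ^ b) x) = (N ^ b) ((M ^ a) x) := by
  have h : Commute M N := by rw [hMN]; exact (Commute.one_left N).add_left (Commute.refl N)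
  exact LinearMap.congr_fun (h.pow_pow a b) x

theorem apply_pow (hMN : M = 1 + N) (hB : ∀ x y, B (M x) (M y) = B x y) (a : ℕ) (x y : V) :
    B ((N ^ a) x) y = (-1) ^ a * B ((M ^ a) x) ((N ^ a) y) := by
  induction a generalizing x y with
  | zero => simp
  | succ a ih =>
    rw [pow_succ' N a, Module.End.mul_apply, apply_shift B M N hMN hB,
      show M ((N ^ a) x) = (N ^ a) (M x) by simpa using comm_pow M N hMN 1 a x, ih,
      ← Module.End.mul_apply (M ^ a) M, ← pow_succ, ← Module.End.mul_apply (N ^ a) N, ← pow_succ,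
      Module.End.mul_apply N, ← Module.End.mul_apply N, ← pow_succ']
    ring

theorem apply_eq_zero (hMN : M = 1 + N) (hB : ∀ x y, B (M x) (M y) = B x y) {a : ℕ} {x y : V}
    (hy : (N ^ a) y = 0) : B ((N ^ a) x) y = 0 := by
  rw [apply_pow B M N hMN hB, hy, map_zero, mul_zero]

theorem apply_eq_zero' (hMN : M = 1 + N) (hB : ∀ x y, B (M x) (M y) = B x y) {a : ℕ} {x y : V}
    (hx : (N ^ a) x = 0) : B x ((N ^ a) y) = 0 :=
  apply_eq_zero B.flip M N hMN (fun u v => hB v u) hx

theorem exists_root (hMN : M = 1 + N) {j : ℕ} {v : V} (hv : (N ^ j) v = 0) (i : ℕ) :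
    ∃ z, (N ^ j) z = 0 ∧ (M ^ i) (v + N z) = v := by
  induction i with
  | zero => exact ⟨0, map_zero _, by simp⟩
  | succ i ih =>
    obtain ⟨z, hz, he⟩ := ih
    let R : Module.End F V := ∑ a ∈ Finset.range j, (-N) ^ a
    have hMR : M * R = 1 - (-N) ^ j := by
      rw [hMN, show (1 : Module.End F V) + N = -(-N - 1) by abel, neg_mul, mul_geom_sum, neg_sub]
    have hRN : Commute R N := Commute.sum_left _ _ _ fun a _ => (Commute.refl N).neg_left.pow_left a
    have hy : ((-N) ^ j) (z - v) = 0 := by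
      rw [neg_pow, Module.End.mul_apply, map_sub, hz, hv, sub_self, map_zero]
    refine ⟨R (z - v), ?_, ?_⟩
    · rw [← Module.End.mul_apply, ← (hRN.pow_right j).eq, Module.End.mul_apply, map_sub, hz, hv,
        sub_self, map_zero]
    · have h1 : M (N (R (z - v))) = N (z - v) := by
        have hc := comm_pow M N hMN 1 1 (R (z - v))
        simp only [pow_one] at hc
        rw [hc]
        have := LinearMap.congr_fun hMR (z - v)
        rw [Module.End.mul_apply, LinearMap.sub_apply, Module.End.one_apply, hy, sub_zero] at this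
        rw [this]
      have h2 : M v = v + N v := by rw [hMN]; rfl
      rw [pow_succ, Module.End.mul_apply, map_add, h1, h2, map_sub, add_assoc, add_sub_cancel, he]

theorem alt_pairing (hMN : M = 1 + N) (hB : ∀ x y, B (M x) (M y) = B x y) (halt : ∀ x, B x x = 0)
    {i : ℕ} {v : V} (hv : (N ^ (2 * i + 1)) v = 0) : B v ((N ^ (2 * i)) v) = 0 := by
  obtain ⟨z, -, he⟩ := exists_root M N hMN hv i
  have h := apply_pow B M N hMN hB i (v + N z) ((N ^ i) v)
  rw [he, ← Module.End.mul_apply (N ^ i) (N ^ i), ← pow_add, ← two_mul] at h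
  have h2 : B ((N ^ (i + 1)) z) ((N ^ i) v) = 0 := by
    refine apply_eq_zero B M N hMN hB ?_
    rw [← Module.End.mul_apply, ← pow_add, show i + 1 + i = 2 * i + 1 by omega, hv]
  rw [map_add, map_add, LinearMap.add_apply, halt, zero_add, ← Module.End.mul_apply (N ^ i) N,
    ← pow_succ, h2] at h
  exact (mul_eq_zero.1 h.symm).resolve_left (pow_ne_zero _ (neg_ne_zero.2 one_ne_zero))

theorem sym_pairing (hMN : M = 1 + N) (hB : ∀ x y, B (M x) (M y) = B x y)
    (hsym : ∀ x y, B x y = B y x) (h2 : (2 : F) ≠ 0) {i : ℕ} {v : V}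
    (hv : (N ^ (2 * i + 2)) v = 0) : B v ((N ^ (2 * i + 1)) v) = 0 := by
  obtain ⟨z, -, he⟩ := exists_root M N hMN hv i
  have h := apply_pow B M N hMN hB i (v + N z) ((N ^ (i + 1)) v)
  rw [he, ← Module.End.mul_apply (N ^ i) (N ^ (i + 1)), ← pow_add,
    show i + (i + 1) = 2 * i + 1 by omega] at h
  have hz : B ((N ^ (i + 1)) z) ((N ^ (i + 1)) v) = 0 := by
    refine apply_eq_zero B M N hMN hB ?_
    rw [← Module.End.mul_apply, ← pow_add, show i + 1 + (i + 1) = 2 * i + 2 by omega, hv]
  have hw : B ((N ^ i) v) ((N ^ (i + 1)) v) = 0 := by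
    set w := (N ^ i) v
    have hNw : N w = (N ^ (i + 1)) v := by rw [pow_succ', Module.End.mul_apply]
    have hNN : B (N w) (N w) = 0 := by
      rw [hNw]
      refine apply_eq_zero B M N hMN hB ?_
      rw [← Module.End.mul_apply, ← pow_add, show i + 1 + (i + 1) = 2 * i + 2 by omega, hv]
    have hM : M w = w + N w := by rw [hMN]; rfl
    have h1 := hB w w
    rw [hM, map_add, map_add, LinearMap.add_apply, LinearMap.add_apply, hNN, hsym (N w) w] at h1
    rw [← hNw]
    exact (mul_eq_zero.1 (show (2 : F) * B w (N w) = 0 by linear_combination h1)).resolve_left h2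
  rw [map_add, map_add, LinearMap.add_apply, hw, zero_add, ← Module.End.mul_apply (N ^ i) N,
    ← pow_succ, hz] at h
  exact (mul_eq_zero.1 h.symm).resolve_left (pow_ne_zero _ (neg_ne_zero.2 one_ne_zero))

end

/-! ### Necessity -/

variable {F : Type*} [Field F] {t : ℕ} {d : Fin t → ℕ}

/-- The endomorphism of the Jordan matrix. -/
noncomputable def jEnd (d : Fin t → ℕ) : Module.End F (Idx d → F) :=
  Matrix.toLinAlgEquiv' (Cfsg.jordanTypeMatrix d F)

/-- Basis vector `a` of block `k`, zero when `a` is out of range. -/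
def vec (d : Fin t → ℕ) (k : Fin t) (a : ℕ) : Idx d → F :=
  if h : a < d k then Pi.single ⟨k, a, h⟩ 1 else 0

theorem vec_step (k : Fin t) (a : ℕ) :
    (jEnd d - 1 : Module.End F (Idx d → F)) (vec d k a) = vec d k (a + 1) := by
  rw [LinearMap.sub_apply, Module.End.one_apply, jEnd, Matrix.toLinAlgEquiv'_apply]
  funext p
  obtain ⟨l, i⟩ := p
  rw [Pi.sub_apply, jordan_mulVec, add_sub_cancel_left]
  unfold vec
  by_cases ha : a < d k
  · rw [dif_pos ha]
    by_cases hkl : l = k
    · subst hkl
      by_cases ha' : a + 1 < d l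
      · rw [dif_pos ha']
        simp only [Pi.single_apply, Sigma.mk.injEq, heq_eq_eq, true_and, Fin.ext_iff]
        split_ifs <;> first | rfl | omega
      · rw [dif_neg ha']
        simp only [Pi.single_apply, Sigma.mk.injEq, heq_eq_eq, true_and, Fin.ext_iff, Pi.zero_apply]
        have := i.2
        split_ifs <;> first | rfl | omega
    · split_ifs <;> simp [Pi.single_apply, hkl]
  · rw [dif_neg ha, dif_neg (by omega)]
    simp

theorem vec_pow (k : Fin t) (a b : ℕ) :
    ((jEnd d - 1 : Module.End F (Idx d → F)) ^ b) (vec d k a) = vec d k (a + b) := by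
  induction b with
  | zero => simp
  | succ b ih => rw [pow_succ', Module.End.mul_apply, ih, vec_step]; rfl

/-- The blocks of a given size come in pairs, as soon as the top-bottom pairing on them is alternating. -/
theorem even_fibre (hd : ∀ k, 1 ≤ d k) {G : Matrix (Idx d) (Idx d) F} (hG : G.det ≠ 0)
    (hinv : ∀ x y : Idx d → F, Matrix.toBilin' G (jEnd d x) (jEnd d y) = Matrix.toBilin' G x y)
    (j : ℕ) (halt : ∀ v : Idx d → F, ((jEnd d - 1 : Module.End F (Idx d → F)) ^ j) v = 0 →
      Matrix.toBilin' G v (((jEnd d - 1 : Module.End F (Idx d → F)) ^ (j - 1)) v) = 0) :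
    Even (Finset.univ.filter fun k : Fin t => d k = j).card := by
  classical
  set N : Module.End F (Idx d → F) := jEnd d - 1 with hN
  set B := Matrix.toBilin' G with hB
  have hMN : (jEnd d : Module.End F (Idx d → F)) = 1 + N := by rw [hN]; abel
  let P : Matrix (Fin t) (Fin t) F := Matrix.of fun k l => B (vec d k 0) (vec d l (d l - 1))
  have hend : ∀ l a, d l ≤ a → vec (F := F) d l a = 0 := fun l a h => dif_neg (by omega)
  have hbot : ∀ l, vec (F := F) d l (d l - 1) = (N ^ (d l - 1)) (vec d l 0) := fun l => by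
    rw [hN, vec_pow, zero_add]
  have hPdet : P.det ≠ 0 := by
    intro h0
    obtain ⟨c, hc, hPc⟩ := Matrix.exists_mulVec_eq_zero_iff.2 h0
    set u : Idx d → F := ∑ l, c l • vec d l (d l - 1) with hu
    have hNu : N u = 0 := by
      rw [hu, map_sum]
      refine Finset.sum_eq_zero fun l _ => ?_
      rw [map_smul, hN, vec_step, hend l _ (by have := hd l; omega), smul_zero]
    have hz : ∀ p : Idx d, B (Pi.single p 1) u = 0 := by
      rintro ⟨k, a, ha⟩
      have hs : (Pi.single (⟨k, a, ha⟩ : Idx d) (1 : F) : Idx d → F) = vec d k a := by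
        rw [vec, dif_pos ha]
      rw [hs]
      cases a with
      | zero =>
        have := congrFun hPc k
        rw [hu, map_sum]
        simpa [Matrix.mulVec, dotProduct, P, mul_comm, map_smul] using this
      | succ a =>
        rw [← vec_step, ← hN, ← pow_one N]
        exact apply_eq_zero B _ N hMN hinv (by rw [pow_one]; exact hNu)
    have hu0 : u = 0 := by
      have hGu : G *ᵥ u = 0 := funext fun p => by
        have := hz p
        rw [hB, Matrix.toBilin'_apply', single_one_dotProduct] at this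
        exact this
      by_contra hne
      exact hG (Matrix.exists_mulVec_eq_zero_iff.1 ⟨u, hne, hGu⟩)
    refine hc (funext fun l => ?_)
    have hl := hd l
    have := congrFun hu0 ⟨l, d l - 1, by omega⟩
    have hv : ∀ k, vec (F := F) d k (d k - 1) = Pi.single ⟨k, ⟨d k - 1, Nat.sub_lt (hd k) one_pos⟩⟩ 1 :=
      fun k => dif_pos (Nat.sub_lt (hd k) one_pos)
    simp only [hu, hv, Finset.sum_apply, Pi.smul_apply, smul_eq_mul] at this
    rw [Finset.sum_eq_single l] at this
    · simpa using this
    · intro k _ hk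
      rw [Pi.single_apply, if_neg (fun h => hk (congrArg Sigma.fst h).symm), mul_zero]
    · simp
  have htri : Pᵀ.BlockTriangular d := fun k l h => by
    show B (vec d l 0) (vec d k (d k - 1)) = 0
    rw [show d k - 1 = (d k - 1 - d l) + d l by omega, ← vec_pow, ← hN]
    exact apply_eq_zero' B _ N hMN hinv (by rw [hN, vec_pow, hend _ _ (by omega)])
  by_cases hj : ∃ k, d k = j
  swap
  · rw [Finset.filter_false_of_mem fun k _ h => hj ⟨k, h⟩, Finset.card_empty]
    exact ⟨0, rfl⟩
  have hdet := htri.det (b := d)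
  rw [Matrix.det_transpose] at hdet
  have hblk : (Pᵀ.toSquareBlock d j).det ≠ 0 := by
    intro h0
    refine hPdet (hdet.trans (Finset.prod_eq_zero (i := j) ?_ h0))
    simpa using hj
  rw [← Fintype.card_subtype]
  have hpol : ∀ v w, (N ^ j) v = 0 → (N ^ j) w = 0 →
      B v ((N ^ (j - 1)) w) = - B w ((N ^ (j - 1)) v) := by
    intro v w hv hw
    have := halt (v + w) (by rw [map_add, hv, hw, add_zero])
    simp only [map_add, LinearMap.add_apply, halt v hv, halt w hw, zero_add, add_zero] at this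
    linear_combination this
  refine Aschbacher.even_card_of_alternating (A := Pᵀ.toSquareBlock d j) (fun k l => ?_) (fun k => ?_)
    ((Matrix.isUnit_iff_isUnit_det _).2 (isUnit_iff_ne_zero.2 hblk))
  · show B (vec d l 0) (vec d k (d k - 1)) = - B (vec d k 0) (vec d l (d l - 1))
    rw [hbot, hbot, k.2, l.2]
    exact hpol _ _ (by rw [hN, vec_pow, hend _ _ (by rw [l.2]; omega)])
      (by rw [hN, vec_pow, hend _ _ (by rw [k.2]; omega)])
  · show B (vec d k 0) (vec d k (d k - 1)) = 0
    rw [hbot, k.1 |> fun _ => k.2]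
    exact halt _ (by rw [hN, vec_pow, hend _ _ (by rw [k.2]; omega)])

theorem inv_of_eq {G : Matrix (Idx d) (Idx d) F}
    (h : (Cfsg.jordanTypeMatrix d F)ᵀ * G * Cfsg.jordanTypeMatrix d F = G) (x y : Idx d → F) :
    Matrix.toBilin' G (jEnd d x) (jEnd d y) = Matrix.toBilin' G x y := by
  rw [Matrix.toBilin'_apply', Matrix.toBilin'_apply', jEnd, Matrix.toLinAlgEquiv'_apply,
    Matrix.toLinAlgEquiv'_apply]
  conv_rhs => rw [← h]
  rw [Matrix.mul_assoc, ← Matrix.mulVec_mulVec, Matrix.dotProduct_mulVec x, Matrix.vecMul_transpose,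
    Matrix.mulVec_mulVec]

/-- An alternating form forces every odd block size to occur an even number of times. -/
theorem even_of_alt (hd : ∀ k, 1 ≤ d k) {G : Matrix (Idx d) (Idx d) F} (hG : G.det ≠ 0)
    (halt : ∀ x : Idx d → F, x ⬝ᵥ G *ᵥ x = 0)
    (h : (Cfsg.jordanTypeMatrix d F)ᵀ * G * Cfsg.jordanTypeMatrix d F = G) (j : ℕ) (hj : Odd j) :
    Even (Finset.univ.filter fun k : Fin t => d k = j).card := by
  obtain ⟨i, rfl⟩ := hj
  refine even_fibre hd hG (inv_of_eq h) _ fun v hv => ?_
  rw [Nat.add_sub_cancel]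
  exact alt_pairing _ (jEnd d) _ (by abel) (inv_of_eq h)
    (fun x => by rw [Matrix.toBilin'_apply']; exact halt x) hv

/-- A symmetric form, in characteristic not two, forces every even block size to occur an even number
of times. -/
theorem even_of_sym (hd : ∀ k, 1 ≤ d k) (h2 : (2 : F) ≠ 0) {G : Matrix (Idx d) (Idx d) F}
    (hG : G.det ≠ 0) (hsym : Gᵀ = G)
    (h : (Cfsg.jordanTypeMatrix d F)ᵀ * G * Cfsg.jordanTypeMatrix d F = G) (j : ℕ) (hj : Even j)
    (hj0 : 0 < j) : Even (Finset.univ.filter fun k : Fin t => d k = j).card := by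
  obtain ⟨i, rfl⟩ : ∃ i, j = 2 * i + 2 := ⟨j / 2 - 1, by obtain ⟨r, rfl⟩ := hj; omega⟩
  refine even_fibre hd hG (inv_of_eq h) _ fun v hv => ?_
  exact sym_pairing _ (jEnd d) _ (by abel) (inv_of_eq h)
    (fun x y => by
      rw [Matrix.toBilin'_apply', Matrix.toBilin'_apply', Matrix.dotProduct_mulVec, ← Matrix.mulVec_transpose,
        hsym, dotProduct_comm]) h2 hv

/-- Transport of an invariant form to the Jordan basis. -/
theorem exists_jordan_form {ι : Type} [Fintype ι] [DecidableEq ι] (e : Idx d ≃ ι) {A H : Matrix ι ι F}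
    (hH : H.det ≠ 0) (hA : Aᵀ * H * A = H)
    (hc : IsConj (Matrix.reindex e e (Cfsg.jordanTypeMatrix d F)) A) :
    ∃ C : Matrix ι (Idx d) F, (Cᵀ * H * C).det ≠ 0 ∧
      (Cfsg.jordanTypeMatrix d F)ᵀ * (Cᵀ * H * C) * Cfsg.jordanTypeMatrix d F = Cᵀ * H * C := by
  obtain ⟨c, hc⟩ := hc
  refine ⟨(c : Matrix ι ι F).submatrix id e, ?_, ?_⟩
  · have : ((c : Matrix ι ι F).submatrix id e)ᵀ * H * (c : Matrix ι ι F).submatrix id e =
        ((c : Matrix ι ι F)ᵀ * H * c).submatrix e e := by
      ext i j
      simp [Matrix.mul_apply]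
    rw [this, Matrix.det_submatrix_equiv_self, Matrix.det_mul, Matrix.det_mul, Matrix.det_transpose]
    have hdc : (c : Matrix ι ι F).det ≠ 0 :=
      ((Matrix.isUnit_iff_isUnit_det _).1 c.isUnit).ne_zero
    exact mul_ne_zero (mul_ne_zero hdc hH) hdc
  · set C := (c : Matrix ι ι F).submatrix id e
    have h1 : C * Cfsg.jordanTypeMatrix d F = A * C := by
      have h0 : (c : Matrix ι ι F) * Matrix.reindex e e (Cfsg.jordanTypeMatrix d F) = A * c := hc.eq
      ext i j
      have := congrFun (congrFun h0 i) (e j)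
      simp only [Matrix.mul_apply, Matrix.reindex_apply, Matrix.submatrix_apply,
        Equiv.symm_apply_apply] at this
      simp only [C, Matrix.mul_apply, Matrix.submatrix_apply, id]
      rw [← this, ← e.sum_comp]
      simp
    calc (Cfsg.jordanTypeMatrix d F)ᵀ * (Cᵀ * H * C) * Cfsg.jordanTypeMatrix d F
        = (C * Cfsg.jordanTypeMatrix d F)ᵀ * H * (C * Cfsg.jordanTypeMatrix d F) := by
          rw [Matrix.transpose_mul]; simp only [Matrix.mul_assoc]
      _ = Cᵀ * (Aᵀ * H * A) * C := by rw [h1, Matrix.transpose_mul]; simp only [Matrix.mul_assoc]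
      _ = Cᵀ * H * C := by rw [hA]

/-! ### Sufficiency -/

/-- Pairing of two blocks of size `n`. -/
def pairK (n a b : ℕ) : F :=
  if a + b + 1 ≤ n then
    (if a = 0 then (if b + 1 = n then 1 else 0)
     else (-1) ^ (n - 1 - b) * ((n - 1 - b - 1).choose (a - 1) : F))
  else 0

theorem pairK_out {n a b : ℕ} (h : n < a + b + 1) : pairK (F := F) n a b = 0 := if_neg (by omega)

theorem pairK_anti {n a b : ℕ} (h : a + b + 1 = n) : pairK (F := F) n a b ≠ 0 := by
  rw [pairK, if_pos h.le]
  by_cases ha : a = 0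
  · rw [if_pos ha, if_pos (by omega)]; exact one_ne_zero
  · rw [if_neg ha, show n - 1 - b = a by omega, Nat.choose_self, Nat.cast_one, mul_one]
    exact pow_ne_zero _ (neg_ne_zero.2 one_ne_zero)

theorem pairK_rec (n a b : ℕ) :
    pairK (F := F) n (a + 1) b + pairK n a (b + 1) + pairK n (a + 1) (b + 1) = 0 := by
  unfold pairK
  by_cases h : a + b + 2 ≤ n
  swap
  · rw [if_neg (by omega), if_neg (by omega), if_neg (by omega)]; ring
  rw [if_pos (show a + 1 + b + 1 ≤ n by omega), if_pos (show a + (b + 1) + 1 ≤ n by omega),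
    if_neg (Nat.succ_ne_zero a), if_neg (Nat.succ_ne_zero a)]
  obtain ⟨s, rfl⟩ : ∃ s, n = a + b + 2 + s := ⟨n - (a + b + 2), by omega⟩
  simp only [show a + b + 2 + s - 1 - b = a + s + 1 by omega, show a + b + 2 + s - 1 - (b + 1) = a + s by omega,
    Nat.add_sub_cancel]
  cases s with
  | zero =>
    rw [if_neg (show ¬ a + 1 + (b + 1) + 1 ≤ a + b + 2 + 0 by omega)]
    by_cases ha : a = 0
    · subst ha
      rw [if_pos rfl, if_pos (show b + 1 + 1 = 0 + b + 2 + 0 by omega)]
      simp
    · rw [if_neg ha]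
      simp only [add_zero, Nat.choose_self, Nat.cast_one, mul_one]
      ring
  | succ s =>
    rw [if_pos (show a + 1 + (b + 1) + 1 ≤ a + b + 2 + (s + 1) by omega),
      show a + (s + 1) - 1 = a + s by omega, show a + (s + 1) = a + s + 1 by omega]
    by_cases ha : a = 0
    · subst ha
      rw [if_pos rfl, if_neg (by omega)]
      simp [pow_succ]
    · rw [if_neg ha]
      obtain ⟨c, rfl⟩ : ∃ c, a = c + 1 := ⟨a - 1, by omega⟩
      rw [Nat.choose_succ_succ' (c + 1 + s) c]
      simp only [Nat.add_sub_cancel]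
      push_cast
      ring

/-- Auxiliary coefficients of the alternating form on one block. -/
def altF : ℕ → ℕ → F
  | 0, r => if r = 0 then 1 else 0
  | _ + 1, 0 => 0
  | p + 1, 1 => - altF p 0
  | p + 1, r + 2 => - (altF p r + altF p (r + 1))

theorem altF_out : ∀ p r, 2 * p < r → altF (F := F) p r = 0
  | 0, r, h => by rw [altF, if_neg (by omega)]
  | p + 1, 0, h => by omega
  | p + 1, 1, h => by omega
  | p + 1, r + 2, h => by
    rw [altF, altF_out p r (by omega), altF_out p (r + 1) (by omega), add_zero, neg_zero]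

theorem altF_top : ∀ p, altF (F := F) p (2 * p) = (-1) ^ p
  | 0 => by simp [altF]
  | p + 1 => by
    rw [show 2 * (p + 1) = 2 * p + 2 by omega, altF, altF_out p (2 * p + 1) (by omega), altF_top p,
      pow_succ]
    ring

/-- Upper half of the alternating form on a block of size `2 i`. -/
def altU (i a b : ℕ) : F :=
  if a < i ∧ a < b ∧ a + b + 1 ≤ 2 * i then altF (i - 1 - a) (b - a - 1) else 0

/-- The alternating form on a block of size `2 i`. -/
def altS (i a b : ℕ) : F := altU i a b - altU i b a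

theorem altU_out {i a b : ℕ} (h : 2 * i < a + b + 1 ∨ b ≤ a) : altU (F := F) i a b = 0 :=
  if_neg (by omega)

theorem altU_rec (i a b : ℕ) (hab : a < b) :
    altU (F := F) i (a + 1) b + altU i a (b + 1) + altU i (a + 1) (b + 1) = 0 := by
  by_cases h : a + b + 2 ≤ 2 * i
  swap
  · rw [altU_out (Or.inl (by omega)), altU_out (Or.inl (by omega)), altU_out (Or.inl (by omega))]; ring
  have hai : a + 1 < i ∨ a + 1 = i := by omega
  rcases hai with hai | hai
  swap
  · exact absurd h (by omega)
  obtain ⟨p, hp⟩ : ∃ p, i - 1 - a = p + 1 := ⟨i - 2 - a, by omega⟩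
  have e1 : altU (F := F) i a (b + 1) = altF (p + 1) (b - a) := by
    rw [altU, if_pos ⟨by omega, by omega, by omega⟩, hp, show b + 1 - a - 1 = b - a by omega]
  obtain ⟨r, hr⟩ : ∃ r, b - a = r + 1 := ⟨b - a - 1, by omega⟩
  have e2 : altU (F := F) i (a + 1) (b + 1) = altF p r := by
    by_cases h3 : a + b + 3 ≤ 2 * i
    · rw [altU, if_pos ⟨hai, by omega, by omega⟩, show i - 1 - (a + 1) = p by omega,
        show b + 1 - (a + 1) - 1 = r by omega]
    · rw [altU_out (Or.inl (by omega)), altF_out p r (by omega)]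
  rw [e1, hr, e2]
  cases r with
  | zero =>
    rw [altU_out (i := i) (a := a + 1) (b := b) (Or.inr (by omega)), altF]
    ring
  | succ r =>
    rw [altU, if_pos ⟨hai, by omega, by omega⟩, show i - 1 - (a + 1) = p by omega,
      show b - (a + 1) - 1 = r by omega, altF]
    ring

theorem altS_rec (i a b : ℕ) :
    altS (F := F) i (a + 1) b + altS i a (b + 1) + altS i (a + 1) (b + 1) = 0 := by
  unfold altS
  rcases lt_trichotomy a b with h | h | h
  · rw [altU_out (i := i) (a := b) (b := a + 1) (Or.inr (by omega)),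
      altU_out (i := i) (a := b + 1) (b := a) (Or.inr (by omega)),
      altU_out (i := i) (a := b + 1) (b := a + 1) (Or.inr (by omega))]
    linear_combination altU_rec (F := F) i a b h
  · subst h
    rw [altU_out (i := i) (a := a + 1) (b := a) (Or.inr (by omega)),
      altU_out (i := i) (a := a + 1) (b := a + 1) (Or.inr le_rfl)]
    ring
  · rw [altU_out (i := i) (a := a + 1) (b := b) (Or.inr (by omega)),
      altU_out (i := i) (a := a) (b := b + 1) (Or.inr (by omega)),
      altU_out (i := i) (a := a + 1) (b := b + 1) (Or.inr (by omega))]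
    linear_combination - altU_rec (F := F) i b a h

theorem altS_out {i a b : ℕ} (h : 2 * i < a + b + 1) : altS (F := F) i a b = 0 := by
  rw [altS, altU_out (Or.inl h), altU_out (Or.inl (by omega)), sub_zero]

theorem altS_anti {i a b : ℕ} (h : a + b + 1 = 2 * i) : altS (F := F) i a b ≠ 0 := by
  rcases lt_trichotomy a b with hab | hab | hab
  · rw [altS, altU_out (i := i) (a := b) (b := a) (Or.inr hab.le), sub_zero, altU,
      if_pos ⟨by omega, hab, h.le⟩, show b - a - 1 = 2 * (i - 1 - a) by omega, altF_top]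
    exact pow_ne_zero _ (neg_ne_zero.2 one_ne_zero)
  · omega
  · rw [altS, altU_out (i := i) (a := a) (b := b) (Or.inr hab.le), zero_sub, neg_ne_zero, altU,
      if_pos ⟨by omega, hab, by omega⟩, show a - b - 1 = 2 * (i - 1 - b) by omega, altF_top]
    exact pow_ne_zero _ (neg_ne_zero.2 one_ne_zero)

theorem exists_swap {α : Type*} [DecidableEq α] (s : Finset α) (hs : Even s.card) :
    ∃ g : α → α, ∀ x ∈ s, g x ∈ s ∧ g x ≠ x ∧ g (g x) = x := by
  obtain ⟨c, hc⟩ := hs
  let e : s ≃ Fin (c + c) := Fintype.equivFinOfCardEq (by rw [Fintype.card_coe, hc])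
  have hflip : ∀ i : Fin (c + c), (if (i : ℕ) % 2 = 0 then (i : ℕ) + 1 else i - 1) < c + c := fun i => by
    have := i.2
    split_ifs <;> omega
  let f : Fin (c + c) → Fin (c + c) := fun i => ⟨_, hflip i⟩
  have hf : ∀ i, f (f i) = i := fun i => Fin.ext (by
    show (if ((f i : ℕ)) % 2 = 0 then (f i : ℕ) + 1 else (f i : ℕ) - 1) = i
    show (if (if (i : ℕ) % 2 = 0 then (i : ℕ) + 1 else i - 1) % 2 = 0 then
      (if (i : ℕ) % 2 = 0 then (i : ℕ) + 1 else i - 1) + 1
      else (if (i : ℕ) % 2 = 0 then (i : ℕ) + 1 else i - 1) - 1) = i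
    split_ifs <;> omega)
  have hne : ∀ i, f i ≠ i := fun i h => by
    have h' : (if (i : ℕ) % 2 = 0 then (i : ℕ) + 1 else i - 1) = i := congrArg Fin.val h
    split_ifs at h' <;> omega
  refine ⟨fun x => if h : x ∈ s then (e.symm (f (e ⟨x, h⟩)) : α) else x, fun x hx => ?_⟩
  simp only [dif_pos hx]
  refine ⟨(e.symm _).2, fun h => hne (e ⟨x, hx⟩) ?_, ?_⟩
  · exact (e.symm_apply_eq).1 (Subtype.ext h)
  · rw [dif_pos (e.symm (f (e ⟨x, hx⟩))).2]
    simp [hf]

/-- The forms on one pair of blocks and on one block assemble to a form on the Jordan type. -/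
theorem exists_form (sgn : F) (hsgn : sgn * sgn = 1) (Sing : ℕ → Prop) (S : ℕ → ℕ → ℕ → F)
    (hSrec : ∀ n, Sing n → ∀ a b, S n (a + 1) b + S n a (b + 1) + S n (a + 1) (b + 1) = 0)
    (hSout : ∀ n, Sing n → ∀ a b, n < a + b + 1 → S n a b = 0)
    (hSanti : ∀ n, Sing n → ∀ a b, a + b + 1 = n → S n a b ≠ 0)
    (hSsym : ∀ n, Sing n → ∀ a b, S n b a = sgn * S n a b)
    (hev : ∀ n, ¬ Sing n → Even (Finset.univ.filter fun k : Fin t => d k = n).card) :
    ∃ G : Matrix (Idx d) (Idx d) F, G.det ≠ 0 ∧ Gᵀ = sgn • G ∧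
      ((∀ n, Sing n → ∀ a, S n a a = 0) → ∀ p, G p p = 0) ∧
      (Cfsg.jordanTypeMatrix d F)ᵀ * G * Cfsg.jordanTypeMatrix d F = G ∧
      ∀ p q : Idx d, Sing (d p.1) → q.1 ≠ p.1 → G p q = 0 := by
  classical
  obtain ⟨g, hg⟩ : ∃ g : ℕ → Fin t → Fin t, ∀ n, ¬ Sing n →
      ∀ k ∈ Finset.univ.filter (fun k : Fin t => d k = n),
        g n k ∈ Finset.univ.filter (fun k : Fin t => d k = n) ∧ g n k ≠ k ∧ g n (g n k) = k := by
    refine Classical.axiomOfChoice (r := fun n (f : Fin t → Fin t) => ¬ Sing n →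
      ∀ k ∈ Finset.univ.filter (fun k : Fin t => d k = n),
        f k ∈ Finset.univ.filter (fun k : Fin t => d k = n) ∧ f k ≠ k ∧ f (f k) = k) fun n => ?_
    by_cases hn : Sing n
    · exact ⟨id, fun h => absurd hn h⟩
    · obtain ⟨f, hf⟩ := exists_swap _ (hev n hn)
      exact ⟨f, fun _ => hf⟩
  let π : Fin t → Fin t := fun k => if Sing (d k) then k else g (d k) k
  have hπd : ∀ k, d (π k) = d k := fun k => by
    simp only [π]
    split_ifs with h
    · rfl
    · simpa using (hg _ h k (by simp)).1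
  have hππ : ∀ k, π (π k) = k := fun k => by
    have hd' := hπd k
    by_cases h : Sing (d k)
    · simp only [π, if_pos h]
    · have e : π k = g (d k) k := if_neg h
      rw [e] at hd' ⊢
      simp only [π]
      rw [if_neg (by rw [hd']; exact h), hd']
      exact (hg _ h k (by simp)).2.2
  have hfix : ∀ k, π k = k ↔ Sing (d k) := fun k => by
    refine ⟨fun h => ?_, fun h => if_pos h⟩
    by_contra hn
    exact (hg _ hn k (by simp)).2.1 ((if_neg hn).symm.trans h)
  let E : Fin t → Fin t → ℕ → ℕ → F := fun k l a b =>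
    if l = π k then (if l = k then S (d k) a b else if k < l then pairK (d k) a b else sgn * pairK (d k) b a)
    else 0
  have hEout : ∀ k l a b, d k < a + b + 1 → E k l a b = 0 := fun k l a b h => by
    simp only [E]
    split_ifs with h1 h2 h3
    · exact hSout _ ((hfix k).1 (h1.symm.trans h2)) a b h
    · exact pairK_out h
    · rw [pairK_out (by omega), mul_zero]
    · rfl
  have hErec : ∀ k l a b, E k l (a + 1) b + E k l a (b + 1) + E k l (a + 1) (b + 1) = 0 := fun k l a b => by
    simp only [E]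
    split_ifs with h1 h2 h3
    · exact hSrec _ ((hfix k).1 (h1.symm.trans h2)) a b
    · exact pairK_rec _ a b
    · linear_combination sgn * pairK_rec (F := F) (d k) b a
    · ring
  have hEsym : ∀ k l a b, E l k b a = sgn * E k l a b := fun k l a b => by
    by_cases h1 : l = π k
    · have h1' : k = π l := by rw [h1, hππ]
      have hdl : d l = d k := by rw [h1, hπd]
      simp only [E, if_pos h1, if_pos h1', hdl]
      rcases lt_trichotomy k l with h | h | h
      · rw [if_neg h.ne', if_pos h, if_neg h.ne, if_neg (lt_asymm h)]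
      · subst h
        simp only [if_true]
        exact hSsym _ ((hfix k).1 h1.symm) a b
      · rw [if_neg h.ne, if_neg (lt_asymm h), if_neg h.ne', if_pos h, ← mul_assoc, hsgn, one_mul]
    · have h1' : ¬ k = π l := fun h => h1 (by rw [h, hππ])
      simp only [E, if_neg h1, if_neg h1', mul_zero]
  have hEanti : ∀ k a b, a + b + 1 = d k → E k (π k) a b ≠ 0 := fun k a b h => by
    simp only [E, if_true]
    split_ifs with h2 h3
    · exact hSanti _ ((hfix k).1 h2) a b h
    · exact pairK_anti h
    · exact mul_ne_zero (left_ne_zero_of_mul_eq_one hsgn) (pairK_anti (by omega))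
  have hEnz : ∀ k l a b, E k l a b ≠ 0 → l = π k := fun k l a b h => by
    by_contra h1
    exact h (if_neg h1)
  refine ⟨Matrix.of fun p q => E p.1 q.1 p.2 q.2, ?_, ?_, ?_, ?_, fun p q hp hq => if_neg fun h => hq ?_⟩
  rotate_left 4
  · rw [h, (hfix _).2 hp]
  · rw [Ne, ← Matrix.exists_mulVec_eq_zero_iff]
    rintro ⟨v, hv, hGv⟩
    refine hv (funext ?_)
    suffices ∀ (b : ℕ) (l : Fin t) (hb : b < d l), v ⟨l, b, hb⟩ = 0 from fun p => this p.2 p.1 p.2.2
    intro b
    induction b using Nat.strong_induction_on with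
    | _ b ih =>
      intro l hb
      have hk : d (π l) = d l := hπd l
      have h0 := congrFun hGv ⟨π l, ⟨d l - 1 - b, by omega⟩⟩
      rw [Matrix.mulVec, dotProduct, Finset.sum_eq_single (⟨l, b, hb⟩ : Idx d)] at h0
      · simp only [Matrix.of_apply, Pi.zero_apply, mul_eq_zero] at h0
        refine h0.resolve_left ?_
        have := hEanti (π l) (d l - 1 - b) b (by omega)
        rwa [hππ] at this
      · rintro ⟨m, c⟩ _ hne
        simp only [Matrix.of_apply]
        by_cases hm : m = l
        · subst hm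
          rcases lt_trichotomy (c : ℕ) b with h | h | h
          · rw [ih c h m c.2, mul_zero]
          · exact absurd (show (⟨m, c⟩ : Idx d) = ⟨m, b, hb⟩ by rw [Fin.ext (a := c) (b := ⟨b, hb⟩) h]) hne
          · rw [hEout _ _ _ _ (by omega), zero_mul]
        · by_cases hz : E (π l) m (d l - 1 - b) c = 0
          · rw [hz, zero_mul]
          · exact absurd ((hEnz _ _ _ _ hz).trans (hππ l)) hm
      · simp
  · ext p q
    simp only [Matrix.transpose_apply, Matrix.of_apply, Matrix.smul_apply, smul_eq_mul]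
    exact hEsym _ _ _ _
  · intro hS0 p
    simp only [Matrix.of_apply, E]
    split_ifs with h1
    · exact hS0 _ ((hfix _).1 h1.symm) _
    · rfl
  · set G : Matrix (Idx d) (Idx d) F := Matrix.of fun p q => E p.1 q.1 p.2 q.2
    have hext : ∀ l k a b, Arith.JordanCent.ext G l k a b = E l k a b := fun l k a b => by
      unfold Arith.JordanCent.ext
      split_ifs with h
      · rfl
      · symm
        by_cases hz : E l k a b = 0
        · exact hz
        · refine hEout _ _ _ _ ?_
          have := hπd l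
          rw [hEnz _ _ _ _ hz] at h
          omega
    rw [show (Cfsg.jordanTypeMatrix d F)ᵀ * G * Cfsg.jordanTypeMatrix d F =
      ((G * Cfsg.jordanTypeMatrix d F)ᵀ * Cfsg.jordanTypeMatrix d F)ᵀ by
        simp [Matrix.transpose_mul, Matrix.mul_assoc]]
    ext ⟨k, a⟩ ⟨l, b⟩
    rw [Matrix.transpose_apply, mul_jordan]
    have hX : ∀ c, Arith.JordanCent.ext (G * Cfsg.jordanTypeMatrix d F)ᵀ l k b c = E k l c b + E k l c (b + 1) := fun c => by
      by_cases hc : c < d k
      · rw [← ext_apply (G * Cfsg.jordanTypeMatrix d F)ᵀ l k b ⟨c, hc⟩, Matrix.transpose_apply, mul_jordan,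
          hext, hext]
      · rw [Arith.JordanCent.ext, dif_neg (fun h => hc h.2), hEout _ _ _ _ (by omega), hEout _ _ _ _ (by omega), add_zero]
    rw [hX, hX]
    show _ = E k l a b
    linear_combination hErec k l a b

/-- Alternating sufficiency. -/
theorem exists_alt_form (hev : ∀ j, Odd j → Even (Finset.univ.filter fun k : Fin t => d k = j).card) :
    ∃ G : Matrix (Idx d) (Idx d) F, G.det ≠ 0 ∧ (∀ v, v ⬝ᵥ G *ᵥ v = 0) ∧
      (Cfsg.jordanTypeMatrix d F)ᵀ * G * Cfsg.jordanTypeMatrix d F = G := by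
  obtain ⟨G, hG, hsym, hdiag, hinv, -⟩ := exists_form (d := d) (-1 : F) (by ring) (fun n => Even n)
    (fun n => altS (n / 2))
    (fun n _ => altS_rec _)
    (fun n hn a b h => altS_out (by obtain ⟨r, rfl⟩ := hn; omega))
    (fun n hn a b h => altS_anti (by obtain ⟨r, rfl⟩ := hn; omega))
    (fun n _ a b => by unfold altS; ring)
    (fun n hn => hev n (Nat.not_even_iff_odd.1 hn))
  refine ⟨G, hG, fun v => ?_, hinv⟩
  have hd0 := hdiag fun n _ a => sub_self _
  have hsk : ∀ i j, G j i = - G i j := fun i j => by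
    have := congrFun (congrFun hsym i) j
    simpa using this
  rw [dotProduct]
  simp only [Matrix.mulVec, dotProduct, Finset.mul_sum]
  rw [← Fintype.sum_prod_type']
  refine Finset.sum_involution (fun p _ => p.swap) (fun p _ => ?_) (fun p _ h hp => h ?_)
    (fun p _ => Finset.mem_univ _) (fun p _ => Prod.swap_swap p)
  · simp only [Prod.fst_swap, Prod.snd_swap]
    rw [hsk p.1 p.2]; ring
  · have : p.1 = p.2 := (congrArg Prod.fst hp).symm
    rw [this, hd0, zero_mul, mul_zero]

/-- Symmetric sufficiency, characteristic not two, the blocks of odd size orthogonal to the others. -/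
theorem exists_sym_form_blocks (h2 : (2 : F) ≠ 0)
    (hev : ∀ j, Even j → 0 < j → Even (Finset.univ.filter fun k : Fin t => d k = j).card)
    (hd : ∀ k, 1 ≤ d k) :
    ∃ G : Matrix (Idx d) (Idx d) F, G.det ≠ 0 ∧ Gᵀ = G ∧
      (Cfsg.jordanTypeMatrix d F)ᵀ * G * Cfsg.jordanTypeMatrix d F = G ∧
      ∀ p q : Idx d, Odd (d p.1) → q.1 ≠ p.1 → G p q = 0 := by
  obtain ⟨G, hG, hsym, -, hinv, hblock⟩ := exists_form (d := d) (1 : F) (by ring) (fun n => Odd n)
    (fun n a b => pairK n a b + pairK n b a)
    (fun n _ a b => by linear_combination pairK_rec (F := F) n a b + pairK_rec (F := F) n b a)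
    (fun n _ a b h => by rw [pairK_out h, pairK_out (by omega), add_zero])
    (fun n hn a b h => by
      obtain ⟨r, rfl⟩ := hn
      unfold pairK
      rw [if_pos h.le, if_pos (show b + a + 1 ≤ 2 * r + 1 by omega)]
      have key : ∀ a b : ℕ, a + b + 1 = 2 * r + 1 →
          (if a = 0 then (if b + 1 = 2 * r + 1 then (1 : F) else 0)
           else (-1) ^ (2 * r + 1 - 1 - b) * ((2 * r + 1 - 1 - b - 1).choose (a - 1) : F)) = (-1) ^ a := by
        intro a b h
        by_cases ha : a = 0
        · subst ha; rw [if_pos rfl, if_pos (by omega), pow_zero]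
        · rw [if_neg ha, show 2 * r + 1 - 1 - b = a by omega, Nat.choose_self, Nat.cast_one, mul_one]
      rw [key a b h, key b a (by omega)]
      have e : (-1 : F) ^ b = (-1) ^ a := by
        have h1 : (-1 : F) ^ (a + b) = 1 := by
          rw [show a + b = 2 * r by omega, pow_mul, neg_one_sq, one_pow]
        calc (-1 : F) ^ b = (-1) ^ a * (-1) ^ a * (-1) ^ b := by
              rw [← mul_pow, neg_one_mul, neg_neg, one_pow, one_mul]
          _ = (-1) ^ a := by rw [mul_assoc, ← pow_add, h1, mul_one]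
      rw [e, ← two_mul]
      exact mul_ne_zero h2 (pow_ne_zero _ (neg_ne_zero.2 one_ne_zero)))
    (fun n _ a b => by ring)
    (fun n hn => by
      rcases Nat.eq_zero_or_pos n with rfl | h0
      · rw [Finset.filter_false_of_mem fun k _ h => by have := hd k; omega]
        exact ⟨0, rfl⟩
      · exact hev n (Nat.not_odd_iff_even.1 hn) h0)
  exact ⟨G, hG, by rw [hsym, one_smul], hinv, hblock⟩

/-- Symmetric sufficiency, characteristic not two. -/
theorem exists_sym_form (h2 : (2 : F) ≠ 0)
    (hev : ∀ j, Even j → 0 < j → Even (Finset.univ.filter fun k : Fin t => d k = j).card)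
    (hd : ∀ k, 1 ≤ d k) :
    ∃ G : Matrix (Idx d) (Idx d) F, G.det ≠ 0 ∧ Gᵀ = G ∧
      (Cfsg.jordanTypeMatrix d F)ᵀ * G * Cfsg.jordanTypeMatrix d F = G :=
  let ⟨G, hG, hsym, hinv, _⟩ := exists_sym_form_blocks h2 hev hd
  ⟨G, hG, hsym, hinv⟩

end Cfsg.Agent.H72.UnipotentForm
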