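import Mathlib
import Cfsg.Agent.H72.UnipotentForm
import Cfsg.Agent.H58.FormClass
import Cfsg.Agent.H99.Jordan
import Cfsg.Agent.H99.Chains
import Cfsg.Prelude.Def_GeometricClasses

/-!
Elements of order `p` of orthogonal groups with given Jordan type, and the types of their restrictions to
invariant nondegenerate subspaces.
-/

set_option autoImplicit false

namespace Cfsg.Agent.H72.OrthTypeFix

open Matrix hiding vec
open H58.FormSim H58.FormClass H99 H72.UnipotentForm Orthogonal
open Cfsg.Agent.Arith.JordanCent (Idx)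
open QuadraticMap (polar)

variable {F : Type*} [Field F] {ι : Type} [Fintype ι] [DecidableEq ι] {t : ℕ}

/-- The nilpotent part of the Jordan matrix is the shift of the standard basis. -/
theorem jEnd_eq_shiftEnd (d : Fin t → ℕ) :
    (jEnd d - 1 : Module.End F (Idx d → F)) = shiftEnd (Pi.basisFun F (Idx d)) := by
  refine (Pi.basisFun F (Idx d)).ext fun x => ?_
  obtain ⟨k, a, ha⟩ := x
  rw [shiftEnd, Module.Basis.constr_basis, Pi.basisFun_apply,
    show (Pi.single (⟨k, a, ha⟩ : Idx d) (1 : F) : Idx d → F) = vec d k a by rw [vec, dif_pos ha],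
    vec_step, vec]
  simp only [Pi.basisFun_apply]

/-- A shift commutes with change of coordinates. -/
theorem shiftEnd_map {V V' : Type*} [AddCommGroup V] [Module F V] [AddCommGroup V'] [Module F V'] {d : Fin t → ℕ}
    (b : Module.Basis (Idx d) F V) (Φ : V ≃ₗ[F] V') :
    shiftEnd (b.map Φ) = Φ.toLinearMap ∘ₗ shiftEnd b ∘ₗ Φ.symm.toLinearMap := by
  refine (b.map Φ).ext fun x => ?_
  rw [shiftEnd, Module.Basis.constr_basis]
  simp only [LinearMap.comp_apply, LinearEquiv.coe_coe, Module.Basis.map_apply, LinearEquiv.symm_apply_apply,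
    shiftEnd, Module.Basis.constr_basis]
  split_ifs <;> simp

/-- Scaling one block does not disturb invariance. -/
theorem diagonal_comm_jordan (d : Fin t → ℕ) (u : Fin t → F) :
    Matrix.diagonal (fun p : Idx d => u p.1) * (Cfsg.jordanTypeMatrix d F)ᵀ =
      (Cfsg.jordanTypeMatrix d F)ᵀ * Matrix.diagonal (fun p : Idx d => u p.1) := by
  ext p q
  rw [Matrix.diagonal_mul, Matrix.mul_diagonal]
  by_cases h : q.1 = p.1
  · rw [h, mul_comm]
  · rw [Matrix.transpose_apply, Cfsg.jordanTypeMatrix,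
      Matrix.blockDiagonal'_apply_ne _ _ _ h, mul_zero, zero_mul]

/-- Two similar forms, obtained by scaling an odd block, are in different classes. -/
theorem not_congr_scale {G : Matrix ι ι F} (hG : G.det ≠ 0) {r : ℕ} (hι : Fintype.card ι = 2 * r) {i : ℕ}
    {ν : F} (hν : ¬ IsSquare ν) {H : Matrix ι ι F} (hH : H.det = ν ^ (2 * i + 1) * G.det) :
    ¬ Congr G H := by
  intro hc
  obtain ⟨Y, l, hY⟩ := congr_iff_matrix.1 hc
  have h := congrArg Matrix.det hY
  rw [hH, det_smul, det_mul, det_mul, det_transpose, hι] at h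
  have h' : ν ^ (2 * i + 1) = ((l : F) ^ r * (Y : Matrix ι ι F).det) ^ 2 :=
    mul_right_cancel₀ hG (by rw [h]; ring)
  have hν0 : ν ≠ 0 := fun h0 => hν (h0 ▸ IsSquare.zero)
  refine hν ⟨(l : F) ^ r * (Y : Matrix ι ι F).det / ν ^ i, ?_⟩
  have h0 : ν ^ i ≠ 0 := pow_ne_zero _ hν0
  field_simp
  linear_combination h'

variable [Fintype F] {p : ℕ} [Fact p.Prime] [CharP F p]

omit [Fintype F] in
theorem two_ne_zero' (hp : p ≠ 2) : (2 : F) ≠ 0 := fun h =>
  hp ((Nat.prime_dvd_prime_iff_eq (Fact.out : p.Prime) Nat.prime_two).1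
    ((CharP.cast_eq_zero_iff F p 2).1 (by exact_mod_cast h)))

/-- Of the forms obtained by scaling an odd block, one lies in the class of a given one. -/
theorem exists_congr_scale (h2 : (2 : F) ≠ 0) {d : Fin t → ℕ} {G : Matrix (Idx d) (Idx d) F} (hG : G.det ≠ 0)
    (hsym : Gᵀ = G) (hblock : ∀ p q : Idx d, Odd (d p.1) → q.1 ≠ p.1 → G p q = 0) {k₀ : Fin t}
    (hk₀ : Odd (d k₀)) {K : Matrix ι ι F} (hK : Kᵀ = K) (hKd : K.det ≠ 0)
    (hcard : Fintype.card (Idx d) = Fintype.card ι) :
    ∃ c : F, c ≠ 0 ∧ Congr (Matrix.diagonal (fun p : Idx d => if p.1 = k₀ then c else 1) * G) K := by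
  set D : F → Matrix (Idx d) (Idx d) F :=
    fun c => Matrix.diagonal (fun p : Idx d => if p.1 = k₀ then c else 1) * G with hD
  have hdet : ∀ c, (D c).det = c ^ d k₀ * G.det := fun c => by
    rw [hD, det_mul, det_diagonal, Fintype.prod_sigma]
    congr 1
    rw [Finset.prod_eq_single k₀ (fun k _ hk => by simp [hk]) (by simp)]
    simp
  have hsymD : ∀ c, (D c)ᵀ = D c := fun c => by
    ext p q
    rw [Matrix.transpose_apply]
    simp only [hD, Matrix.diagonal_mul]
    have hG' : G q p = G p q := congrFun (congrFun hsym p) q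
    rw [hG']
    by_cases hp : p.1 = k₀ <;> by_cases hq : q.1 = k₀ <;> simp only [hp, hq, if_true, if_false]
    · rw [hblock p q (hp ▸ hk₀) (fun h => hq (h.trans hp))]; simp
    · rw [← hG', hblock q p (hq ▸ hk₀) (fun h => hp (h.trans hq))]; simp
  have hdne : ∀ c : F, c ≠ 0 → (D c).det ≠ 0 := fun c hc => by
    rw [hdet]; exact mul_ne_zero (pow_ne_zero _ hc) hG
  rcases Nat.even_or_odd' (Fintype.card ι) with ⟨r, hr | hr⟩
  · obtain ⟨k, rfl⟩ : ∃ k, r = k + 1 := ⟨r - 1, by
      have : 0 < Fintype.card (Idx d) := Fintype.card_pos_iff.2 ⟨⟨k₀, ⟨0, hk₀.pos⟩⟩⟩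
      omega⟩
    obtain ⟨a, b, hab⟩ := exists_aniso (F := F) h2
    obtain ⟨ν, hν⟩ := exists_not_isSquare h2
    have hν0 : ν ≠ 0 := fun h0 => hν (h0 ▸ IsSquare.zero)
    obtain ⟨i, hi⟩ := hk₀
    have hne : ¬ Congr (D 1) (D ν) := not_congr_scale (hdne 1 one_ne_zero) (hcard.trans hr) hν
      (i := i) (by rw [hdet, hdet, hi, one_pow, one_mul])
    have h1 := congr_even h2 (hsymD 1) (hdne 1 one_ne_zero) (hcard.trans hr) hab
    have hv := congr_even h2 (hsymD ν) (hdne ν hν0) (hcard.trans hr) hab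
    rcases congr_even h2 hK hKd hr hab with hT | hT
    · rcases h1 with h1 | h1
      · exact ⟨1, one_ne_zero, h1.trans hT.symm⟩
      · rcases hv with hv | hv
        · exact ⟨ν, hν0, hv.trans hT.symm⟩
        · exact absurd (h1.trans hv.symm) hne
    · rcases h1 with h1 | h1
      · rcases hv with hv | hv
        · exact absurd (h1.trans hv.symm) hne
        · exact ⟨ν, hν0, hv.trans hT.symm⟩
      · exact ⟨1, one_ne_zero, h1.trans hT.symm⟩
  · exact ⟨1, one_ne_zero, (congr_odd h2 (hsymD 1) (hdne 1 one_ne_zero) (hcard.trans hr)).trans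
      (congr_odd h2 hK hKd hr).symm⟩

theorem units_eq_one {u : ℤˣ} {n : ℕ} (hn : Odd n) (h : u ^ n = 1) : u = 1 := by
  rwa [Int.units_pow_eq_pow_mod_two, Nat.odd_iff.1 hn, pow_one] at h

/-- An orthogonal group, characteristic not two, has elements of order `p` of every admissible type with
an odd part. -/
theorem exists_element (hp : p ≠ 2) (Q : QuadraticForm F (ι → F)) (hQ : Nondeg Q) {μ : Multiset ℕ}
    (hμ : ∀ e ∈ μ, 0 < e ∧ e ≤ p) (hev : ∀ e, Even e → Even (μ.count e)) (hsum : μ.sum = Fintype.card ι)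
    (hodd : ∃ e ∈ μ, Odd e) (hbig : ∃ f ∈ μ, 1 < f) :
    ∃ x : GL ι F, x ∈ Cfsg.Geo.omegaGL ⇑Q ∧ orderOf x = p ∧
      (∀ z : F, (x : Matrix ι ι F) ≠ z • (1 : Matrix ι ι F)) ∧
      blockParts (Matrix.toLin' (x : Matrix ι ι F) - 1) ⊤ p = μ := by
  classical
  have h2 : (2 : F) ≠ 0 := two_ne_zero' hp
  set d : Fin μ.toList.length → ℕ := μ.toList.get with hd
  have hmap : Finset.univ.val.map d = μ := by
    rw [Fin.univ_val_map, hd, List.ofFn_get, Multiset.coe_toList]
  have hdμ : ∀ k, d k ∈ μ := fun k => by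
    rw [← hmap]; exact Multiset.mem_map_of_mem _ (Finset.mem_univ k)
  have hcnt : ∀ n, (Finset.univ.filter fun k => d k = n).card = μ.count n := fun n => by
    conv_rhs => rw [← hmap]
    rw [Multiset.count_map, ← Finset.filter_val, Finset.card_val]
    simp only [eq_comm]
  have hd1 : ∀ k, 1 ≤ d k := fun k => (hμ _ (hdμ k)).1
  have hdp : ∀ k, 0 < d k ∧ d k ≤ p := fun k => hμ _ (hdμ k)
  have hmem : ∀ e ∈ μ, ∃ k, d k = e := fun e he => by
    rw [← hmap, Multiset.mem_map] at he
    exact he.imp fun k hk => hk.2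
  have hcard : Fintype.card (Idx d) = Fintype.card ι := by
    rw [Fintype.card_sigma, ← hsum]
    conv_rhs => rw [← hmap]
    simp only [Fintype.card_fin]
    rfl
  obtain ⟨G, hG, hsym, hinv, hblock⟩ := exists_sym_form_blocks (F := F) (d := d) h2
    (fun j hj _ => hcnt j ▸ hev j hj) hd1
  obtain ⟨e, he, heo⟩ := hodd
  obtain ⟨k₀, hk₀⟩ := hmem e he
  obtain ⟨c, hc, hcongr⟩ := exists_congr_scale h2 hG hsym hblock (hk₀ ▸ heo : Odd (d k₀))
    (gram_transpose Q) (gram_det hQ) hcard
  set H := Matrix.diagonal (fun p : Idx d => if p.1 = k₀ then c else 1) * G with hH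
  have hinvH : (Cfsg.jordanTypeMatrix d F)ᵀ * H * Cfsg.jordanTypeMatrix d F = H := by
    rw [hH, ← Matrix.mul_assoc, ← diagonal_comm_jordan d (fun k => if k = k₀ then c else 1)]
    simp only [Matrix.mul_assoc] at hinv ⊢
    rw [hinv]
  obtain ⟨E, l, hl, hE⟩ := hcongr
  set J : Module.End F (Idx d → F) := jEnd d with hJ
  set X : Module.End F (ι → F) := E.symm.toLinearMap ∘ₗ J ∘ₗ E.toLinearMap with hX
  have hN : X - 1 = shiftEnd ((Pi.basisFun F (Idx d)).map E.symm) := by
    rw [shiftEnd_map, ← jEnd_eq_shiftEnd, LinearEquiv.symm_symm]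
    refine LinearMap.ext fun v => ?_
    simp [hX, hJ, map_sub]
  have hQX : ∀ v, Q (X v) = Q v := fun v => by
    have h := inv_of_eq hinvH (E v) (E v)
    rw [Matrix.toBilin'_apply', Matrix.toBilin'_apply'] at h
    have hEX : E (X v) = J (E v) := by simp [hX]
    have h' : bf H (E (X v)) (E (X v)) = bf H (E v) (E v) := by rw [hEX]; exact h
    rw [hE, hE, bf_gram_self, bf_gram_self] at h'
    exact mul_left_cancel₀ h2 (mul_left_cancel₀ hl h')
  have hNp : (X - 1) ^ p = 0 := by rw [hN]; exact shiftEnd_pow_eq_zero _ fun k => (hdp k).2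
  have : Nonempty ι := Fintype.card_pos_iff.1 (by
    rw [← hcard]; exact Fintype.card_pos_iff.2 ⟨⟨k₀, ⟨0, (hdp k₀).1⟩⟩⟩)
  set M : Matrix ι ι F := LinearMap.toMatrix' X with hM
  have hMp : M ^ p = 1 := by
    have h0 : (M - 1) ^ p = 0 := by
      have := congrArg (LinearMap.toMatrixAlgEquiv' (R := F) (n := ι)) hNp
      rw [map_pow, map_sub, map_one, map_zero] at this
      exact this
    have h1 := add_pow_char_of_commute (R := Matrix ι ι F) p ((Commute.one_left (M - 1)))
    rwa [add_sub_cancel, h0, one_pow, add_zero] at h1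
  set x : GL ι F := Units.ofPowEqOne M p hMp (Fact.out : p.Prime).ne_zero with hx
  have hxp : x ^ p = 1 := Units.pow_ofPowEqOne _ _
  have hxM : (x : Matrix ι ι F) = M := rfl
  have hxN : Matrix.toLin' (x : Matrix ι ι F) - 1 = X - 1 := by rw [hxM, hM, Matrix.toLin'_toMatrix']
  have hns : ∀ z : F, (x : Matrix ι ι F) ≠ z • (1 : Matrix ι ι F) := fun z hz => by
    obtain ⟨f, hf, hf1⟩ := hbig
    obtain ⟨k, hk⟩ := hmem f hf
    have hz1 : z = 1 := by
      have := hMp
      rw [← hxM, hz, smul_pow, one_pow] at this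
      have h' := congrFun (congrFun this (Classical.arbitrary ι)) (Classical.arbitrary ι)
      simp only [Matrix.smul_apply, Matrix.one_apply_eq, smul_eq_mul, mul_one] at h'
      refine sub_eq_zero.1 (pow_eq_zero_iff (n := p) (Fact.out : p.Prime).ne_zero |>.1 ?_)
      rw [sub_pow_char, h', one_pow, sub_self]
    have h0 : X - 1 = 0 := by
      rw [← hxN, hz, hz1, one_smul, Matrix.toLin'_one]
      exact sub_self _
    have hb := shiftEnd_pow_apply ((Pi.basisFun F (Idx d)).map E.symm) ⟨k, ⟨0, (hdp k).1⟩⟩ 1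
    rw [← hN, h0, pow_one, LinearMap.zero_apply, dif_pos (by show 0 + 1 < d k; omega)] at hb
    exact Module.Basis.ne_zero _ _ hb.symm
  refine ⟨x, ?_, ?_, hns, ?_⟩
  · have hmem' : x ∈ Cfsg.isometryGroup F ⇑Q := fun v _ => by
      show Q (M *ᵥ v) = Q v
      rw [hM, LinearMap.toMatrix'_mulVec, hQX]
    refine Subgroup.mem_map.2 ⟨⟨x, hmem'⟩, ?_, rfl⟩
    have hgp : (⟨x, hmem'⟩ : Cfsg.isometryGroup F ⇑Q) ^ p = 1 := Subtype.ext hxp
    rw [mem_omega_iff, mem_commutator_iff hQ h2]
    have hpo : Odd p := (Fact.out : p.Prime).odd_of_ne_two hp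
    exact ⟨units_eq_one hpo (by rw [← map_pow, ← map_pow, hgp, map_one, map_one]),
      units_eq_one hpo (by rw [← map_pow, ← map_pow, hgp, map_one, map_one])⟩
  · refine orderOf_eq_prime hxp fun h => hns 1 ?_
    rw [h, Units.val_one, one_smul]
  · rw [hxN, hN, blockParts_shiftEnd _ hdp, hmap]

omit [Fintype F] in
theorem imDim_restrict {V : Type*} [AddCommGroup V] [Module F V] [FiniteDimensional F V] (N : Module.End F V)
    (W : Submodule F V) (hW : ∀ w ∈ W, N w ∈ W) (j : ℕ) : imDim (N.restrict hW) ⊤ j = imDim N W j := by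
  have h : W.map (N ^ j) = ((⊤ : Submodule F W).map (N.restrict hW ^ j)).map W.subtype := by
    rw [← Submodule.map_comp]
    conv_lhs => rw [← W.range_subtype, LinearMap.range_eq_map, ← Submodule.map_comp]
    congr 1
    rw [Module.End.pow_restrict]
    exact LinearMap.ext fun w => rfl
  rw [imDim, imDim, h]
  exact (Submodule.equivMapOfInjective _ W.subtype_injective _).finrank_eq

omit [Fintype F] in
theorem blockParts_restrict {V : Type*} [AddCommGroup V] [Module F V] [FiniteDimensional F V] (N : Module.End F V)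
    (W : Submodule F V) (hW : ∀ w ∈ W, N w ∈ W) (p : ℕ) :
    blockParts (N.restrict hW) ⊤ p = blockParts N W p := by
  have h : ∀ j, blockDelta (N.restrict hW) ⊤ j = blockDelta N W j := fun j => by
    have h1 := imDim_succ (N.restrict hW) ⊤ j
    have h2 := imDim_succ N W j
    rw [imDim_restrict, imDim_restrict] at h1
    omega
  simp only [blockParts, h]

omit [Fintype F] in
/-- The type on an invariant nondegenerate subspace. -/
theorem subspace_type (hp : p ≠ 2) (Q : QuadraticForm F (ι → F)) (hQ : Nondeg Q) {x : GL ι F}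
    (hx : x ∈ Cfsg.Geo.omegaGL ⇑Q) (hxp : x ^ p = 1) {W : Submodule F (ι → F)}
    (hW : Cfsg.Geo.IsNondegenerateOn (polar ⇑Q) W) (hxW : W.map (Matrix.toLin' (x : Matrix ι ι F)) ≤ W) :
    blockParts (Matrix.toLin' (x : Matrix ι ι F) - 1) W p ≤ blockParts (Matrix.toLin' (x : Matrix ι ι F) - 1) ⊤ p ∧
      (blockParts (Matrix.toLin' (x : Matrix ι ι F) - 1) W p).sum = Module.finrank F W ∧
      (∀ e, Even e → Even ((blockParts (Matrix.toLin' (x : Matrix ι ι F) - 1) W p).count e)) ∧
      ((∀ e ∈ blockParts (Matrix.toLin' (x : Matrix ι ι F) - 1) W p, Even e) →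
        Cfsg.Geo.IsPlusTypeOn ⇑Q W) := by
  classical
  have h2 : (2 : F) ≠ 0 := two_ne_zero' hp
  set X : Module.End F (ι → F) := Matrix.toLin' (x : Matrix ι ι F) with hX
  set N : Module.End F (ι → F) := X - 1 with hN
  obtain ⟨g, -, hg⟩ := Subgroup.mem_map.1 hx
  have hQX : ∀ v, Q (X v) = Q v := fun v => by
    rw [hX, Matrix.toLin'_apply, ← hg]
    exact g.2 v 0
  have hpol : ∀ u v, polar ⇑Q (X u) (X v) = polar ⇑Q u v := fun u v => by
    rw [polar, polar, ← map_add, hQX, hQX, hQX]
  have hXp : X ^ p = 1 := by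
    have := congrArg (fun y : GL ι F => Matrix.toLinAlgEquiv' (y : Matrix ι ι F)) hxp
    rw [Units.val_pow_eq_pow_val, map_pow, Units.val_one, map_one] at this
    exact this
  have hNp : N ^ p = 0 := by
    rcases isEmpty_or_nonempty ι with hι | hι
    · exact Subsingleton.elim _ _
    have := congrArg (LinearMap.toMatrixAlgEquiv' (R := F) (n := ι)) hXp
    rw [map_pow, map_one] at this
    refine (LinearMap.toMatrixAlgEquiv' (R := F) (n := ι)).injective ?_
    rw [map_pow, hN, map_sub, map_one, map_zero, sub_pow_char_of_commute _ (Commute.one_right _), this, one_pow,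
      sub_self]
  have hXW : ∀ w ∈ W, X w ∈ W := fun w hw => hxW ⟨w, hw, rfl⟩
  have hNW : ∀ w ∈ W, N w ∈ W := fun w hw => by
    rw [hN, LinearMap.sub_apply, Module.End.one_apply]
    exact W.sub_mem (hXW w hw) hw
  have hinj : Function.Injective X := fun u v h => hQ.eq_of_polar fun z => by
    rw [← hpol u z, ← hpol v z, h]
  have hsurj : W.map X = W := Submodule.eq_of_le_of_finrank_eq hxW
    ((Submodule.equivMapOfInjective X hinj W).finrank_eq).symm
  have hperp : (perp Q W).map N ≤ perp Q W := by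
    rintro _ ⟨v, hv, rfl⟩
    rw [hN, LinearMap.sub_apply, Module.End.one_apply]
    refine Submodule.sub_mem _ (fun w hw => ?_) hv
    rw [← hsurj] at hw
    obtain ⟨u, hu, rfl⟩ := hw
    rw [hpol]
    exact hv u hu
  have hres : Nondeg (restr Q W) := by
    rw [nondeg_restr_iff, eq_bot_iff]
    rintro u ⟨hu, hu'⟩
    by_contra hne
    obtain ⟨⟨w, hw, hne'⟩, -⟩ := hW u hu hne
    exact hne' (hu' w hw)
  have hWN : W.map N ≤ W := Submodule.map_le_iff_le_comap.2 hNW
  refine ⟨blockParts_le N W _ hWN hperp (hQ.isCompl_perp hres) p, sum_blockParts N W hWN p hNp, ?_⟩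
  set NW : Module.End F W := N.restrict hNW with hNWd
  have hNWp : NW ^ p = 0 := by
    rw [hNWd, Module.End.pow_restrict]
    exact LinearMap.ext fun w => Subtype.ext (by simp [hNp])
  obtain ⟨L, m, b, hm, hb⟩ := exists_shift_basis NW hNWp
  have hparts : blockParts N W p = Finset.univ.val.map m := by
    rw [← blockParts_restrict N W hNW, ← hNWd, ← hb, blockParts_shiftEnd b hm]
  let Ψ : (Idx m → F) ≃ₗ[F] W := b.equivFun.symm
  have hΨ : ∀ i, Ψ (Pi.single i 1) = b i := fun i => b.equivFun.symm_apply_eq.2 (by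
    ext j; rw [b.equivFun_self, Pi.single_apply]; simp [eq_comm])
  have hΨN : ∀ u, (Ψ ((jEnd m - 1 : Module.End F (Idx m → F)) u) : ι → F) = N (Ψ u) := fun u => by
    have h : Ψ.toLinearMap ∘ₗ shiftEnd (Pi.basisFun F (Idx m)) = shiftEnd b ∘ₗ Ψ.toLinearMap := by
      refine (Pi.basisFun F (Idx m)).ext fun i => ?_
      simp only [LinearMap.comp_apply, LinearEquiv.coe_coe, shiftEnd, Module.Basis.constr_basis]
      rw [Pi.basisFun_apply, hΨ, Module.Basis.constr_basis]
      split_ifs
      · rw [Pi.basisFun_apply, hΨ]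
      · exact map_zero _
    have h' := LinearMap.congr_fun h u
    simp only [LinearMap.comp_apply, LinearEquiv.coe_coe, ← jEnd_eq_shiftEnd, hb] at h'
    rw [h']
    rfl
  let Φ : (Idx m → F) →ₗ[F] (ι → F) := W.subtype ∘ₗ Ψ.toLinearMap
  let B : LinearMap.BilinForm F (Idx m → F) := Q.polarBilin.compl₁₂ Φ Φ
  have hB : ∀ u v, B u v = polar ⇑Q (Φ u) (Φ v) := fun u v => rfl
  have hΦJ : ∀ u, Φ (jEnd m u) = X (Φ u) := fun u => by
    have := hΨN u
    rw [hN, LinearMap.sub_apply, LinearMap.sub_apply, Module.End.one_apply, Module.End.one_apply, map_sub,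
      Submodule.coe_sub, sub_left_inj] at this
    exact this
  have hBinv : ∀ u v, B (jEnd m u) (jEnd m v) = B u v := fun u v => by rw [hB, hB, hΦJ, hΦJ, hpol]
  have hBsym : ∀ u v, B u v = B v u := fun u v => by rw [hB, hB, QuadraticMap.polar_comm]
  have hMN : (jEnd m : Module.End F (Idx m → F)) = 1 + (jEnd m - 1) := by abel
  refine ⟨fun e he => ?_, fun heven => ?_⟩
  · rw [hparts, Multiset.count_map, ← Finset.filter_val, Finset.card_val]
    simp only [eq_comm (a := e)]
    rcases Nat.eq_zero_or_pos e with rfl | he0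
    · rw [Finset.filter_false_of_mem fun k _ h => by have := (hm k).1; omega]
      exact ⟨0, rfl⟩
    obtain ⟨i, rfl⟩ : ∃ i, e = 2 * i + 2 := ⟨e / 2 - 1, by obtain ⟨r, rfl⟩ := he; omega⟩
    refine even_fibre (fun k => (hm k).1) (G := LinearMap.BilinForm.toMatrix' B) ?_ ?_ _ fun v hv => ?_
    · refine Matrix.nondegenerate_iff_det_ne_zero.1 ((LinearMap.BilinForm.nondegenerate_toMatrix'_iff).2 ?_)
      have key : ∀ u, (∀ v, B u v = 0) → u = 0 := fun u hu => by
        refine Ψ.injective ((hres (Ψ u) fun w => ?_).trans (map_zero Ψ).symm)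
        have := hu (Ψ.symm w)
        rw [hB] at this
        rw [polar_restr]
        simpa [Φ] using this
      exact ⟨key, fun v hv => key v fun u => (hBsym v u).trans (hv u)⟩
    · intro u v
      rw [Matrix.toBilin'_toMatrix']
      exact hBinv u v
    · rw [Matrix.toBilin'_toMatrix', show 2 * i + 2 - 1 = 2 * i + 1 by omega]
      exact sym_pairing B (jEnd m) _ hMN hBinv hBsym h2 hv
  · let S := {s : Idx m // m s.1 / 2 ≤ s.2}
    let f : S → (ι → F) := fun s => Φ (Pi.single s.1 1)
    have hΦinj : Function.Injective Φ := W.subtype_injective.comp Ψ.injective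
    have hf : LinearIndependent F f :=
      ((Pi.basisFun F (Idx m)).linearIndependent.comp _ Subtype.val_injective).map'
        Φ (LinearMap.ker_eq_bot.2 hΦinj) |> fun h => by simpa [f, Function.comp_def] using h
    refine ⟨Submodule.span F (Set.range f), ?_, ?_, ?_⟩
    · rw [Submodule.span_le]
      rintro _ ⟨s, rfl⟩
      exact (Ψ _).2
    · have hz : ∀ s s' : S, polar ⇑Q (f s) (f s') = 0 := by
        suffices ∀ s s' : S, m s'.1.1 ≤ m s.1.1 → polar ⇑Q (f s) (f s') = 0 by
          intro s s'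
          rcases le_total (m s'.1.1) (m s.1.1) with h | h
          · exact this s s' h
          · rw [QuadraticMap.polar_comm]; exact this s' s h
        rintro ⟨⟨k, a, ha⟩, hs⟩ ⟨⟨k', a', ha'⟩, hs'⟩ hle
        show B (Pi.single _ 1) (Pi.single _ 1) = 0
        have e1 : (Pi.single (⟨k, a, ha⟩ : Idx m) (1 : F) : Idx m → F) = vec m k a := by rw [vec, dif_pos ha]
        have e2 : (Pi.single (⟨k', a', ha'⟩ : Idx m) (1 : F) : Idx m → F) = vec m k' a' := by
          rw [vec, dif_pos ha']
        rw [e1, e2, show vec (F := F) m k a = ((jEnd m - 1 : Module.End F (Idx m → F)) ^ a) (vec m k 0) by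
          rw [vec_pow, zero_add]]
        refine apply_eq_zero B (jEnd m) _ hMN hBinv ?_
        rw [vec_pow, vec, dif_neg]
        simp only at hs hs' hle
        obtain ⟨r, hr⟩ := heven (m k) (hparts ▸ Multiset.mem_map_of_mem _ (Finset.mem_univ k))
        obtain ⟨r', hr'⟩ := heven (m k') (hparts ▸ Multiset.mem_map_of_mem _ (Finset.mem_univ k'))
        omega
      intro u hu
      obtain ⟨co, rfl⟩ := (Submodule.mem_span_range_iff_exists_fun F).1 hu
      refine (mul_eq_zero.1 (?_ : (2 : F) * Q (∑ s, co s • f s) = 0)).resolve_left h2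
      rw [← polar_self', ← polarBilin_apply']
      simp [map_sum, map_smul, hz]
    · rw [finrank_span_eq_card hf, ← Ψ.finrank_eq, Module.finrank_fintype_fun_eq_card]
      have hS : S ≃ ((k : Fin L) × Fin (m k / 2)) :=
        { toFun := fun s => ⟨s.1.1, ⟨s.1.2 - m s.1.1 / 2, by
            have := s.1.2.2
            have := s.2
            obtain ⟨r, hr⟩ := heven (m s.1.1) (hparts ▸ Multiset.mem_map_of_mem _ (Finset.mem_univ_val _))
            omega⟩⟩
          invFun := fun s => ⟨⟨s.1, ⟨s.2 + m s.1 / 2, by have := s.2.2; omega⟩⟩, Nat.le_add_left _ _⟩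
          left_inv := by
            rintro ⟨⟨k, a⟩, hs⟩
            simp only at hs
            simp [Nat.sub_add_cancel hs]
          right_inv := by rintro ⟨k, a⟩; simp }
      rw [Fintype.card_congr hS, Fintype.card_sigma, Fintype.card_sigma, Finset.mul_sum]
      refine Finset.sum_congr rfl fun k _ => ?_
      obtain ⟨r, hr⟩ := heven (m k) (hparts ▸ Multiset.mem_map_of_mem _ (Finset.mem_univ k))
      simp only [Fintype.card_fin]
      omega

omit [Fintype F] [CharP F p] in
theorem sum_even_parts {ν : Multiset ℕ} {f a b : ℕ} (h : ν = Multiset.replicate a (f + 1) + Multiset.replicate b (f - 1)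
    + ν.filter fun e => Even e) : ν.sum = a * (f + 1) + b * (f - 1) + (ν.filter fun e => Even e).sum := by
  conv_lhs => rw [h]
  simp [Multiset.sum_replicate]

omit [Fintype F] [CharP F p] in
/-- From partitions with an odd part and a part above one to all partitions. -/
theorem partition_of_key {P m n : ℕ} (hP : Odd P) (hm : Even m) (hmn : m ≤ n)
    (key : ∀ μ : Multiset ℕ, (∀ e ∈ μ, 0 < e ∧ e ≤ P) → (∀ e, Even e → Even (μ.count e)) → μ.sum = n →
      (∃ e ∈ μ, Odd e) → (∃ f ∈ μ, 1 < f) →
      ∃ ν : Multiset ℕ, ν ≤ μ ∧ ν.sum = m ∧ ∀ e, Even e → Even (ν.count e))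
    (μ : Multiset ℕ) (hμ : ∀ e ∈ μ, 0 < e ∧ e ≤ P) (hev : ∀ e, Even e → Even (μ.count e))
    (hsum : μ.sum = n) : ∃ ν : Multiset ℕ, ν ≤ μ ∧ ν.sum = m ∧ ∀ e, Even e → Even (ν.count e) := by
  by_cases hbig : ∃ f ∈ μ, 1 < f
  swap
  · have hrep : μ = Multiset.replicate (Multiset.card μ) 1 := Multiset.eq_replicate_card.2 fun e he => by
      have h1 := (hμ e he).1
      have h2 : ¬ 1 < e := fun h => hbig ⟨e, he, h⟩
      omega
    have hc : Multiset.card μ = n := by
      rw [← hsum]; conv_rhs => rw [hrep]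
      simp
    refine ⟨Multiset.replicate m 1, ?_, by simp, fun e he => ?_⟩
    · rw [hrep, hc]; exact Multiset.replicate_mono 1 hmn
    · rw [Multiset.count_replicate, if_neg]
      · exact ⟨0, rfl⟩
      · rintro rfl; exact Nat.not_even_one he
  by_cases hodd : ∃ e ∈ μ, Odd e
  · exact key μ hμ hev hsum hodd hbig
  have heven : ∀ e ∈ μ, Even e := fun e he => Nat.not_odd_iff_even.1 fun h => hodd ⟨e, he, h⟩
  obtain ⟨f, hf, hf1⟩ := hbig
  have hfe := heven f hf
  have hfc : 2 ≤ μ.count f := by
    have h1 := Multiset.count_pos.2 hf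
    obtain ⟨r, hr⟩ := hev f hfe
    omega
  have hfP : f + 1 ≤ P := by
    have h1 := (hμ f hf).2
    rcases h1.lt_or_eq with h | h
    · exact h
    · exact absurd hfe (h ▸ Nat.not_even_iff_odd.2 hP)
  set r := μ - Multiset.replicate 2 f with hr
  have hμr : μ = Multiset.replicate 2 f + r :=
    (add_tsub_cancel_of_le (Multiset.le_count_iff_replicate_le.1 hfc)).symm
  have hodd1 : Odd (f + 1) := hfe.add_one
  have hodd2 : Odd (f - 1) := by obtain ⟨s, hs⟩ := hfe; exact ⟨s - 1, by omega⟩
  have hre : ∀ e ∈ r, Even e := fun e he => heven e (Multiset.mem_of_le (hr ▸ tsub_le_self) he)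
  have hrc : ∀ e, Odd e → r.count e = 0 := fun e he =>
    Multiset.count_eq_zero.2 fun h => Nat.not_even_iff_odd.2 he (hre e h)
  have hne1 : ∀ e, Even e → ¬ f + 1 = e := fun e he h => Nat.not_even_iff_odd.2 hodd1 (by rw [h]; exact he)
  have hne2 : ∀ e, Even e → ¬ f - 1 = e := fun e he h => Nat.not_even_iff_odd.2 hodd2 (by rw [h]; exact he)
  set μ' := Multiset.replicate 1 (f + 1) + Multiset.replicate 1 (f - 1) + r with hμ'
  obtain ⟨ν, hν, hνs, hνe⟩ := key μ' (fun e he => by
      rw [hμ', Multiset.mem_add, Multiset.mem_add, Multiset.mem_replicate, Multiset.mem_replicate] at he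
      rcases he with (⟨-, rfl⟩ | ⟨-, rfl⟩) | he
      · exact ⟨by omega, hfP⟩
      · exact ⟨by omega, by omega⟩
      · exact hμ e (Multiset.mem_of_le (hr ▸ tsub_le_self) he))
    (fun e he => by
      have h1 := hev e he
      rw [hμr, Multiset.count_add, Multiset.count_replicate] at h1
      rw [hμ', Multiset.count_add, Multiset.count_add, Multiset.count_replicate, Multiset.count_replicate,
        if_neg (hne1 e he),
        if_neg (hne2 e he), zero_add, zero_add]
      split_ifs at h1 <;> simpa [Nat.even_add] using h1)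
    (by
      rw [← hsum, hμr, hμ']
      simp
      omega)
    ⟨f + 1, by simp [hμ'], hodd1⟩ ⟨f + 1, by simp [hμ'], by omega⟩
  have hcnt : ∀ e, ν.count e ≤ (if f + 1 = e then 1 else 0) + (if f - 1 = e then 1 else 0) + r.count e := fun e => by
    have := Multiset.le_iff_count.1 hν e
    simpa only [hμ', Multiset.count_add, Multiset.count_replicate] using this
  set a := ν.count (f + 1)
  set b := ν.count (f - 1)
  have ha : a ≤ 1 := by
    have := hcnt (f + 1)
    rw [if_pos rfl, if_neg (by omega), hrc _ hodd1] at this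
    exact this
  have hb : b ≤ 1 := by
    have := hcnt (f - 1)
    rw [if_neg (by omega), if_pos rfl, hrc _ hodd2] at this
    exact this
  have hdec : ν = Multiset.replicate a (f + 1) + Multiset.replicate b (f - 1) + ν.filter fun e => Even e := by
    ext e
    rw [Multiset.count_add, Multiset.count_add, Multiset.count_replicate, Multiset.count_replicate,
      Multiset.count_filter]
    rcases Nat.even_or_odd e with he | he
    · rw [if_neg (hne1 e he),
        if_neg (hne2 e he), if_pos he]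
      omega
    · rw [if_neg (Nat.not_even_iff_odd.2 he)]
      by_cases h1 : f + 1 = e
      · subst h1; rw [if_pos rfl, if_neg (by omega)]; simp [a]
      by_cases h2 : f - 1 = e
      · subst h2; rw [if_neg h1, if_pos rfl]; simp [b]
      have := hcnt e
      rw [if_neg h1, if_neg h2, hrc e he] at this
      rw [if_neg h1, if_neg h2]
      omega
  have hν'' : Even (ν.filter fun e => Even e).sum :=
    Multiset.sum_induction (fun e => Even e) _ (fun x y => Even.add) ⟨0, rfl⟩ fun e he => (Multiset.mem_filter.1 he).2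
  have hsν := sum_even_parts hdec
  have hab : a = b := by
    rcases Nat.le_one_iff_eq_zero_or_eq_one.1 ha with h | h <;>
      rcases Nat.le_one_iff_eq_zero_or_eq_one.1 hb with h' | h' <;>
      rw [h, h'] at hsν ⊢ <;>
      first
        | rfl
        | (exfalso; rw [hνs] at hsν; obtain ⟨u, hu⟩ := hm; obtain ⟨v, hv⟩ := hν''; obtain ⟨s, hs⟩ := hfe; omega)
  refine ⟨Multiset.replicate (2 * a) f + ν.filter fun e => Even e, ?_, ?_, fun e he => ?_⟩
  · rw [Multiset.le_iff_count]
    intro e
    rw [Multiset.count_add, Multiset.count_replicate, Multiset.count_filter, hμr, Multiset.count_add,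
      Multiset.count_replicate]
    rcases Nat.even_or_odd e with he | he
    · have := hcnt e
      rw [if_neg (hne1 e he),
        if_neg (hne2 e he)] at this
      rw [if_pos he]
      split_ifs <;> omega
    · rw [if_neg (Nat.not_even_iff_odd.2 he), if_neg]
      · omega
      · rintro rfl; exact Nat.not_even_iff_odd.2 he hfe
  · rw [Multiset.sum_add, Multiset.sum_replicate, smul_eq_mul]
    rw [hνs, ← hab] at hsν
    rw [hsν]
    obtain ⟨s, hs⟩ : ∃ s, f = s + 1 := ⟨f - 1, by omega⟩
    subst hs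
    rw [Nat.add_sub_cancel]
    ring
  · rw [Multiset.count_add, Multiset.count_replicate, Multiset.count_filter, if_pos he]
    refine Even.add ?_ (hνe e he)
    split_ifs
    · exact even_two_mul a
    · exact ⟨0, rfl⟩

end Cfsg.Agent.H72.OrthTypeFix
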