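import Cfsg.Agent.H72.UnipotentForm
import Cfsg.Agent.H58.FormClass
import Cfsg.Agent.S2585
import Cfsg.Prelude.Def_Classical

/-!
Unipotent Jordan types in symplectic and orthogonal groups.
-/

set_option autoImplicit false

namespace Cfsg.Agent.H72.UnipotentTypes

open Matrix H58.FormSim H72.UnipotentForm
open Cfsg.Agent.Arith.JordanCent (Idx)

variable {F : Type*} [Field F] {t : ℕ} {d : Fin t → ℕ} {ι : Type} [Fintype ι] [DecidableEq ι]

theorem jordan_isUnit (d : Fin t → ℕ) {G : Matrix (Idx d) (Idx d) F} (hG : G.det ≠ 0)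
    (h : (Cfsg.jordanTypeMatrix d F)ᵀ * G * Cfsg.jordanTypeMatrix d F = G) :
    IsUnit (Cfsg.jordanTypeMatrix d F).det := by
  refine isUnit_iff_ne_zero.2 fun h0 => hG ?_
  rw [← h, Matrix.det_mul, h0, mul_zero]

theorem mem_isometryGroup {Q : (ι → F) → F} (g : GL ι F) :
    g ∈ Cfsg.isometryGroup F Q ↔ ∀ v, Q ((g : Matrix ι ι F) *ᵥ v) = Q v :=
  ⟨fun h v => h v 0, fun h u _ => h u⟩

/-- An alternating invariant form gives an element of the symplectic group of the same type. -/
theorem exists_symplectic {m : ℕ} (hsum : ∑ k, d k = 2 * m) {G : Matrix (Idx d) (Idx d) F} (hG : G.det ≠ 0)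
    (halt : ∀ v, v ⬝ᵥ G *ᵥ v = 0)
    (h : (Cfsg.jordanTypeMatrix d F)ᵀ * G * Cfsg.jordanTypeMatrix d F = G) :
    ∃ (e : Idx d ≃ (Fin m ⊕ Fin m)) (A : Matrix.symplecticGroup (Fin m) F),
      IsConj (Matrix.reindex e e (Cfsg.jordanTypeMatrix d F)) (A : Matrix (Fin m ⊕ Fin m) (Fin m ⊕ Fin m) F) := by
  have hcard : Fintype.card (Idx d) = Fintype.card (Fin m ⊕ Fin m) := by
    rw [Fintype.card_sigma, Fintype.card_sum]; simp [hsum, two_mul]
  let e : Idx d ≃ (Fin m ⊕ Fin m) := Fintype.equivOfCardEq hcard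
  obtain ⟨m', hm', E, l, hl, hE⟩ := H58.FormClass.congr_J (H := G.submatrix e.symm e.symm)
    (by rw [Matrix.det_submatrix_equiv_self]; exact hG)
    (fun v => by
      show v ⬝ᵥ G.submatrix e.symm e.symm *ᵥ v = 0
      rw [Matrix.submatrix_mulVec_equiv, Equiv.symm_symm, ← halt (v ∘ e)]
      exact (comp_equiv_dotProduct_comp_equiv _ _ e).symm.trans (by simp [Function.comp_def]))
  have hmm : m' = m := by rw [Fintype.card_sum, Fintype.card_fin] at hm'; omega
  subst m'
  set M : Matrix (Fin m ⊕ Fin m) (Fin m ⊕ Fin m) F :=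
    Matrix.reindex e e (Cfsg.jordanTypeMatrix d F) with hM
  have hMG : Mᵀ * G.submatrix e.symm e.symm * M = G.submatrix e.symm e.symm := by
    rw [hM, Matrix.reindex_apply, Matrix.transpose_submatrix, Matrix.submatrix_mul_equiv,
      Matrix.submatrix_mul_equiv, h]
  set c : Matrix (Fin m ⊕ Fin m) (Fin m ⊕ Fin m) F := LinearMap.toMatrix' E.symm.toLinearMap
  have hc : ∀ u, c *ᵥ u = E.symm u := fun u => LinearMap.toMatrix'_mulVec _ u
  set c' : Matrix (Fin m ⊕ Fin m) (Fin m ⊕ Fin m) F := LinearMap.toMatrix' E.toLinearMap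
  have hc' : ∀ u, c' *ᵥ u = E u := fun u => LinearMap.toMatrix'_mulVec _ u
  have hcc : c * c' = 1 := Matrix.toLin'.injective (LinearMap.ext fun u => by
    rw [Matrix.toLin'_apply, Matrix.toLin'_one, LinearMap.id_apply, ← Matrix.mulVec_mulVec, hc', hc,
      E.symm_apply_apply])
  have hA : c * M * c' ∈ Matrix.symplecticGroup (Fin m) F := by
    rw [SymplecticGroup.mem_iff']
    refine bf_inj fun u v => mul_left_cancel₀ hl ?_
    rw [← bf_mulVec, ← hE, ← hE, ← Matrix.mulVec_mulVec, ← Matrix.mulVec_mulVec, hc, ← Matrix.mulVec_mulVec,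
      ← Matrix.mulVec_mulVec, hc, E.apply_symm_apply, E.apply_symm_apply, bf_mulVec, hMG, hc', hc']
  refine ⟨e, ⟨_, hA⟩, ⟨⟨c, c', hcc, mul_eq_one_comm.1 hcc⟩, ?_⟩⟩
  show c * M = c * M * c' * c
  rw [Matrix.mul_assoc _ c' c, mul_eq_one_comm.1 hcc, Matrix.mul_one]

/-- Symplectic types. -/
theorem symplectic_iff {m : ℕ} (hd : ∀ k, 1 ≤ d k) (hsum : ∑ k, d k = 2 * m) :
    (∃ e : Idx d ≃ (Fin m ⊕ Fin m), ∃ A : Matrix.symplecticGroup (Fin m) F,
      IsConj (Matrix.reindex e e (Cfsg.jordanTypeMatrix d F)) (A : Matrix (Fin m ⊕ Fin m) (Fin m ⊕ Fin m) F)) ↔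
    ∀ j : ℕ, Odd j → Even (Finset.univ.filter (fun k : Fin t => d k = j)).card := by
  constructor
  · rintro ⟨e, A, hc⟩
    obtain ⟨C, hC, hinv⟩ := exists_jordan_form e (H := Matrix.J (Fin m) F)
      ((Matrix.isUnit_det_J _ _).ne_zero) (SymplecticGroup.mem_iff'.1 A.2) hc
    refine even_of_alt hd hC (fun x => ?_) hinv
    rw [← Matrix.mulVec_mulVec, ← Matrix.mulVec_mulVec, Matrix.dotProduct_mulVec, Matrix.vecMul_transpose]
    have hJ : ∀ y : Fin m ⊕ Fin m → F, y ⬝ᵥ Matrix.J (Fin m) F *ᵥ y = 0 := fun y => by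
      rw [dotProduct, Fintype.sum_sum_type]
      simp [Matrix.J, Matrix.mulVec, dotProduct, Fintype.sum_sum_type, Matrix.one_apply, mul_comm]
    exact hJ _
  · intro hev
    obtain ⟨G, hG, halt, hinv⟩ := exists_alt_form (F := F) (d := d) hev
    exact exists_symplectic hsum hG halt hinv

/-- Orthogonal types, characteristic not two. -/
theorem orthogonal_iff {n : ℕ} (h2 : (2 : F) ≠ 0) (hd : ∀ k, 1 ≤ d k) (hsum : ∑ k, d k = n) :
    (∃ Q : QuadraticForm F (Fin n → F), (QuadraticMap.polarBilin Q).Nondegenerate ∧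
      ∃ e : Idx d ≃ Fin n, ∃ A : ↥(Cfsg.isometryGroup F ⇑Q), IsConj (Matrix.reindex e e (Cfsg.jordanTypeMatrix d F))
        ((A : Matrix.GeneralLinearGroup (Fin n) F) : Matrix (Fin n) (Fin n) F)) ↔
    ∀ j : ℕ, Even j → 0 < j → Even (Finset.univ.filter (fun k : Fin t => d k = j)).card := by
  constructor
  · rintro ⟨Q, hQ, e, A, hc⟩
    have hA := (mem_isometryGroup (A : GL (Fin n) F)).1 A.2
    have hdet : (H58.FormClass.gram Q).det ≠ 0 :=
      Matrix.nondegenerate_iff_det_ne_zero.1 ((LinearMap.BilinForm.nondegenerate_toMatrix'_iff).2 hQ)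
    have hAG : ((A : GL (Fin n) F) : Matrix (Fin n) (Fin n) F)ᵀ * H58.FormClass.gram Q *
        ((A : GL (Fin n) F) : Matrix (Fin n) (Fin n) F) = H58.FormClass.gram Q := bf_inj fun u v => by
      rw [← bf_mulVec, H58.FormClass.bf_gram, H58.FormClass.bf_gram, QuadraticMap.polar, QuadraticMap.polar,
        ← Matrix.mulVec_add, hA, hA, hA]
    obtain ⟨C, hC, hinv⟩ := exists_jordan_form e hdet hAG hc
    refine even_of_sym hd h2 hC ?_ hinv
    rw [Matrix.transpose_mul, Matrix.transpose_mul, Matrix.transpose_transpose, H58.FormClass.gram_transpose,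
      Matrix.mul_assoc]
  · intro hev
    obtain ⟨G, hG, hsym, hinv⟩ := exists_sym_form (F := F) h2 hev hd
    let e : Idx d ≃ Fin n := Fintype.equivFinOfCardEq (by simp [Fintype.card_sigma, hsum])
    set H : Matrix (Fin n) (Fin n) F := G.submatrix e.symm e.symm
    have hHs : Hᵀ = H := by rw [Matrix.transpose_submatrix, hsym]
    set M : Matrix (Fin n) (Fin n) F := Matrix.reindex e e (Cfsg.jordanTypeMatrix d F) with hM
    have hMH : Mᵀ * H * M = H := by
      rw [hM, Matrix.reindex_apply, Matrix.transpose_submatrix, Matrix.submatrix_mul_equiv,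
        Matrix.submatrix_mul_equiv, hinv]
    have hu : IsUnit M.det := by
      rw [hM, Matrix.det_reindex_self]; exact jordan_isUnit d hG hinv
    refine ⟨H58.FormClass.qf H, ?_, e, ⟨Matrix.nonsingInvUnit M hu, (mem_isometryGroup _).2 fun v => ?_⟩, IsConj.refl _⟩
    · refine (LinearMap.BilinForm.nondegenerate_toMatrix'_iff).1 (Matrix.nondegenerate_iff_det_ne_zero.2 ?_)
      have e2 : LinearMap.BilinForm.toMatrix' (H58.FormClass.qf H).polarBilin = (2 : F) • H :=
        bf_inj fun u v => by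
          rw [bf_smul_mat, ← H58.FormClass.polar_qf hHs, ← H58.FormClass.bf_gram]; rfl
      rw [e2, Matrix.det_smul, Matrix.det_submatrix_equiv_self]
      exact mul_ne_zero (pow_ne_zero _ h2) hG
    · show H58.FormClass.qf H (M *ᵥ v) = _
      rw [H58.FormClass.qf_apply, H58.FormClass.qf_apply, bf_mulVec, hMH]

/-- Orthogonal types, characteristic two. -/
theorem orthogonal_two_iff [Fintype F] [CharP F 2] {m : ℕ} (hd : ∀ k, 1 ≤ d k) (hsum : ∑ k, d k = 2 * m) :
    (∃ Q : QuadraticForm F (Fin (2 * m) → F), (QuadraticMap.polarBilin Q).Nondegenerate ∧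
      ∃ e : Idx d ≃ Fin (2 * m), ∃ A : ↥(Cfsg.isometryGroup F ⇑Q), IsConj (Matrix.reindex e e (Cfsg.jordanTypeMatrix d F))
        ((A : Matrix.GeneralLinearGroup (Fin (2 * m)) F) : Matrix (Fin (2 * m)) (Fin (2 * m)) F)) ↔
    ∀ j : ℕ, Odd j → Even (Finset.univ.filter (fun k : Fin t => d k = j)).card := by
  constructor
  · rintro ⟨Q, hQ, e, A, hc⟩
    have hA := (mem_isometryGroup (A : GL (Fin (2 * m)) F)).1 A.2
    have hdet : (H58.FormClass.gram Q).det ≠ 0 :=
      Matrix.nondegenerate_iff_det_ne_zero.1 ((LinearMap.BilinForm.nondegenerate_toMatrix'_iff).2 hQ)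
    have hAG : ((A : GL (Fin (2 * m)) F) : Matrix (Fin (2 * m)) (Fin (2 * m)) F)ᵀ * H58.FormClass.gram Q *
        ((A : GL (Fin (2 * m)) F) : Matrix (Fin (2 * m)) (Fin (2 * m)) F) = H58.FormClass.gram Q :=
      bf_inj fun u v => by
        rw [← bf_mulVec, H58.FormClass.bf_gram, H58.FormClass.bf_gram, QuadraticMap.polar, QuadraticMap.polar,
          ← Matrix.mulVec_add, hA, hA, hA]
    obtain ⟨C, hC, hinv⟩ := exists_jordan_form e hdet hAG hc
    refine even_of_alt hd hC (fun x => ?_) hinv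
    rw [← Matrix.mulVec_mulVec, ← Matrix.mulVec_mulVec, Matrix.dotProduct_mulVec, Matrix.vecMul_transpose]
    show bf (H58.FormClass.gram Q) (C *ᵥ x) (C *ᵥ x) = 0
    rw [H58.FormClass.bf_gram_self, CharTwo.two_eq_zero, zero_mul]
  · intro hev
    obtain ⟨e, A, hc⟩ := (symplectic_iff (F := F) hd hsum).2 hev
    obtain ⟨Q, hQ, hQA⟩ := S2585.result A
    let f : (Fin m ⊕ Fin m) ≃ Fin (2 * m) := finSumFinEquiv.trans (finCongr (two_mul m).symm)
    let L : (Fin (2 * m) → F) ≃ₗ[F] (Fin m ⊕ Fin m → F) := LinearEquiv.funCongrLeft F F f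
    set M : Matrix (Fin (2 * m)) (Fin (2 * m)) F :=
      Matrix.reindex f f (A : Matrix (Fin m ⊕ Fin m) (Fin m ⊕ Fin m) F) with hM
    have hu : IsUnit M.det := by
      rw [hM, Matrix.det_reindex_self]; exact SymplecticGroup.symplectic_det A.2
    have hLM : ∀ v, L (M *ᵥ v) = (A : Matrix (Fin m ⊕ Fin m) (Fin m ⊕ Fin m) F) *ᵥ L v := fun v => by
      funext i
      show (M *ᵥ v) (f i) = _
      rw [hM, Matrix.reindex_apply, Matrix.submatrix_mulVec_equiv]
      simp [L, Function.comp_def, LinearEquiv.funCongrLeft_apply, LinearMap.funLeft]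
    refine ⟨Q.comp L.toLinearMap, ?_, e.trans f,
      ⟨Matrix.nonsingInvUnit M hu, (mem_isometryGroup _).2 fun v => ?_⟩, ?_⟩
    · have hp : ∀ u v, QuadraticMap.polarBilin (Q.comp L.toLinearMap) u v = Cfsg.sympForm m F (L u) (L v) :=
        fun u v => by
          rw [QuadraticMap.polarBilin_apply_apply, ← hQ]
          simp [QuadraticMap.polar, map_add]
      have key : ∀ x, (∀ y, Cfsg.sympForm m F x y = 0) → x = 0 := fun x hx =>
        bf_eq_zero_left (Matrix.isUnit_det_J _ _).ne_zero hx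
      constructor
      · intro u hu0
        exact L.injective ((key (L u) fun y => by
          have := hu0 (L.symm y)
          rwa [hp, L.apply_symm_apply] at this).trans (map_zero L).symm)
      · intro u hu0
        exact L.injective ((key (L u) fun y => by
          have := hu0 (L.symm y)
          rw [hp, L.apply_symm_apply, ← hQ, QuadraticMap.polar_comm, hQ] at this
          exact this).trans (map_zero L).symm)
    · show Q (L (M *ᵥ v)) = Q (L v)
      rw [hLM, hQA]
    · obtain ⟨c, hc⟩ := hc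
      refine ⟨Units.map (Matrix.reindexAlgEquiv F F f).toMonoidHom c, ?_⟩
      have := congrArg (Matrix.reindexAlgEquiv F F f) hc.eq
      rw [map_mul, map_mul] at this
      exact this

end Cfsg.Agent.H72.UnipotentTypes
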