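/-
Abelian subgroups of index p in a p-group.
-/
import Cfsg.Prelude.Def_Transfer
import Cfsg.Agent.PGroups.Taussky

set_option autoImplicit false
set_option linter.style.haveILetI false

namespace Cfsg.Agent.H72.AbIdx

open Subgroup

/-- A non-cyclic group of order `p ^ 2` has `p + 1` subgroups of order `p`. -/
theorem card_subgroups_prime {C : Type*} [Group C] [Finite C] {p : ℕ} [hp : Fact p.Prime]
    (hC : Nat.card C = p ^ 2) (hexp : ∀ x : C, x ^ p = 1) :
    Nat.card {K : Subgroup C // Nat.card K = p} = p + 1 := by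
  classical
  cases nonempty_fintype C
  let e : (Σ K : {K : Subgroup C // Nat.card K = p}, {x : K.1 // x ≠ 1}) → {x : C // x ≠ 1} :=
    fun x => ⟨(x.2.1 : C), fun h => x.2.2 (Subtype.ext h)⟩
  have hz : ∀ (K : Subgroup C) (x : C), Nat.card K = p → x ∈ K → x ≠ 1 → K = zpowers x := by
    intro K x hK hx hx1
    refine (eq_of_le_of_card_ge (zpowers_le.mpr hx) ?_).symm
    rw [hK, Nat.card_zpowers, orderOf_eq_prime (hexp x) hx1]
  have he : Function.Bijective e := by
    refine ⟨?_, ?_⟩
    · rintro ⟨⟨K, hK⟩, ⟨x, hx⟩, hx1⟩ ⟨⟨K', hK'⟩, ⟨x', hx'⟩, hx1'⟩ h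
      obtain rfl : x = x' := congrArg Subtype.val h
      have hne : x ≠ 1 := fun h => hx1 (Subtype.ext h)
      obtain rfl : K = K' := (hz K x hK hx hne).trans (hz K' x hK' hx' hne).symm
      rfl
    · rintro ⟨x, hx⟩
      exact ⟨⟨⟨zpowers x, by rw [Nat.card_zpowers, orderOf_eq_prime (hexp x) hx]⟩,
        ⟨⟨x, mem_zpowers x⟩, fun h => hx (congrArg Subtype.val h)⟩⟩, rfl⟩
  have h := Nat.card_congr (Equiv.ofBijective e he)
  rw [Nat.card_sigma] at h
  have hD : ∀ K : {K : Subgroup C // Nat.card K = p}, Nat.card {x : K.1 // x ≠ 1} = p - 1 :=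
    fun K => by
      rw [Nat.card_eq_fintype_card, Fintype.card_subtype_compl, ← Nat.card_eq_fintype_card, K.2]
      simp
  simp only [hD, Finset.sum_const, Finset.card_univ, smul_eq_mul] at h
  rw [Nat.card_eq_fintype_card (α := {x : C // x ≠ 1}), Fintype.card_subtype_compl,
    ← Nat.card_eq_fintype_card (α := C), hC, Fintype.card_subtype_eq,
    ← Nat.card_eq_fintype_card] at h
  have h2 := hp.out.two_le
  obtain ⟨q, rfl⟩ : ∃ q, p = q + 2 := ⟨p - 2, by omega⟩
  have h3 : (q + 2) ^ 2 - 1 = (q + 3) * (q + 1) := by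
    have : (q + 2) ^ 2 = (q + 3) * (q + 1) + 1 := by ring
    omega
  rw [h3, show q + 2 - 1 = q + 1 from by omega] at h
  exact Nat.eq_of_mul_eq_mul_right (Nat.succ_pos q) h


theorem center_le_of_index {S : Type*} [Group S] [Finite S] {p : ℕ} [Fact p.Prime] (hS : IsPGroup p S)
    (hna : center S ≠ ⊤) {B : Subgroup S} (hB : IsMulCommutative B) (hidx : B.index = p) :
    center S ≤ B := by
  intro z hz
  by_contra hzB
  have h := PGroups.sup_zpowers_eq_top hS hidx hzB
  apply hna
  have hab := PGroups.isMulCommutative_sup_zpowers hB (x := z) (center_le_centralizer _ hz)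
  rw [h] at hab
  exact eq_top_iff.mpr fun a _ => Subgroup.mem_center_iff.mpr fun b =>
    PGroups.comm_of_isMulCommutative hab (mem_top b) (mem_top a)

theorem abelian_index_p {S : Type*} [Group S] [Finite S] (p : ℕ) [hp : Fact p.Prime] (hS : IsPGroup p S)
    (hna : center S ≠ ⊤) (A : Subgroup S) (hA : IsMulCommutative ↥A) (hAi : A.index = p) :
    (center S).index = p * Nat.card (commutator S) ∧
      ((Nat.card (commutator S) = p ∧ Cfsg.IsElementaryAbelian p (⊤ : Subgroup (S ⧸ center S)) ∧
          Nat.card (S ⧸ center S) = p ^ 2 ∧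
          Nat.card {B : Subgroup S // IsMulCommutative ↥B ∧ B.index = p} = p + 1) ∨
        (p ^ 2 ≤ Nat.card (commutator S) ∧ ∀ B : Subgroup S, IsMulCommutative ↥B → B.index = p → B = A)) := by
  have h1 := PGroups.card_commutator_mul_card_center hS hA hAi hna
  have hidx : (center S).index = p * Nat.card (commutator S) := by
    have h2 := A.card_mul_index
    rw [hAi, ← h1, ← (center S).card_mul_index] at h2
    exact Nat.eq_of_mul_eq_mul_left (Nat.card_pos (α := center S))
      (h2.symm.trans (by ring))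
  refine ⟨hidx, ?_⟩
  obtain ⟨k, hk⟩ := (hS.to_subgroup (commutator S)).exists_card_eq
  have hk0 : k ≠ 0 := fun h => hna <| (commutator_eq_bot_iff_center_eq_top S).1
    (Subgroup.card_eq_one.1 (by rw [hk, h, pow_zero]))
  rcases (Nat.one_le_iff_ne_zero.2 hk0).eq_or_lt with h | h
  · left
    subst h
    rw [pow_one] at hk
    have hQ : Nat.card (S ⧸ center S) = p ^ 2 := by
      rw [← Subgroup.index_eq_card, hidx, hk, sq]
    have hQab : IsMulCommutative (S ⧸ center S) := IsPGroup.isMulCommutative_of_card_eq_prime_sq (p := p) hQ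
    have hexp : ∀ q : S ⧸ center S, q ^ p = 1 := by
      intro q
      by_contra hq
      apply hna
      have hcyc : IsCyclic (S ⧸ center S) := by
        obtain ⟨i, hi, ho⟩ := (Nat.dvd_prime_pow hp.out).1 (hQ ▸ orderOf_dvd_natCard q)
        have h2 : i = 2 := by
          by_contra h2
          refine hq (orderOf_dvd_iff_pow_eq_one.1 ?_)
          rw [ho]
          calc p ^ i ∣ p ^ 1 := pow_dvd_pow p (by omega)
            _ = p := pow_one p
        exact isCyclic_of_orderOf_eq_card q (by rw [hQ, ho, h2])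
      exact eq_top_iff.2 fun a _ => Subgroup.mem_center_iff.2 fun b => by
        haveI := hcyc
        exact commutative_of_cyclic_center_quotient (QuotientGroup.mk' (center S))
          (by rw [QuotientGroup.ker_mk']) b a
    refine ⟨hk, ⟨inferInstance, fun q _ => hexp q⟩, hQ, ?_⟩
    rw [← card_subgroups_prime hQ hexp]
    have hsurj := QuotientGroup.mk'_surjective (center S)
    refine Nat.card_congr
      { toFun := fun B => ⟨B.1.map (QuotientGroup.mk' (center S)), ?_⟩
        invFun := fun K => ⟨K.1.comap (QuotientGroup.mk' (center S)), ?_, ?_⟩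
        left_inv := fun B => ?_
        right_inv := fun K => Subtype.ext (Subgroup.map_comap_eq_self_of_surjective hsurj _) }
    · have h2 : (B.1.map (QuotientGroup.mk' (center S))).index = p := by
        rw [Subgroup.index_map_eq _ hsurj
          (by rw [QuotientGroup.ker_mk']; exact center_le_of_index hS hna B.2.1 B.2.2), B.2.2]
      have h3 := (B.1.map (QuotientGroup.mk' (center S))).card_mul_index
      rw [h2, hQ, sq] at h3
      exact Nat.eq_of_mul_eq_mul_right hp.out.pos h3
    · haveI : IsCyclic K.1 := isCyclic_of_prime_card (p := p) K.2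
      obtain ⟨⟨g, hg⟩, hgen⟩ := IsCyclic.exists_generator (α := K.1)
      obtain ⟨x, rfl⟩ := hsurj g
      refine ⟨⟨fun a b => Subtype.ext ?_⟩⟩
      have key : ∀ a : S, a ∈ K.1.comap (QuotientGroup.mk' (center S)) →
          ∃ (i : ℤ), ∃ z ∈ center S, a = x ^ i * z := by
        intro a ha
        obtain ⟨i, hi⟩ := Subgroup.mem_zpowers_iff.1 (hgen ⟨_, ha⟩)
        have hi' : (QuotientGroup.mk' (center S) x) ^ i = QuotientGroup.mk' (center S) a := congrArg Subtype.val hi
        rw [← map_zpow, QuotientGroup.mk'_apply, QuotientGroup.mk'_apply, QuotientGroup.eq] at hi'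
        exact ⟨i, _, hi', (mul_inv_cancel_left _ _).symm⟩
      obtain ⟨i, z, hz, ha⟩ := key a a.2
      obtain ⟨j, w, hw, hb⟩ := key b b.2
      show (a : S) * b = b * a
      have h1 : Commute z (x ^ j * w) := (Subgroup.mem_center_iff.1 hz _).symm
      have h2 : Commute (x ^ i) (x ^ j * w) :=
        (Commute.zpow_zpow_self x i j).mul_right (Subgroup.mem_center_iff.1 hw _)
      rw [ha, hb]
      exact (h2.mul_left h1).eq
    · rw [Subgroup.index_comap_of_surjective _ hsurj]
      have h3 := K.1.card_mul_index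
      rw [K.2, hQ, sq] at h3
      exact Nat.eq_of_mul_eq_mul_left hp.out.pos h3
    · refine Subtype.ext ?_
      show (B.1.map _).comap _ = B.1
      rw [Subgroup.comap_map_eq, QuotientGroup.ker_mk', sup_eq_left.2 (center_le_of_index hS hna B.2.1 B.2.2)]
  · refine Or.inr ⟨hk ▸ Nat.pow_le_pow_right hp.out.pos h, fun B hB hBi => ?_⟩
    by_contra hne
    haveI := PGroups.normal_of_index_eq hS hAi
    obtain ⟨x, hxB, hxA⟩ : ∃ x ∈ B, x ∉ A := by
      by_contra hall
      push Not at hall
      refine hne (Subgroup.eq_of_le_of_card_ge hall ?_)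
      have e := A.card_mul_index
      rw [hAi, ← B.card_mul_index, hBi] at e
      exact (Nat.eq_of_mul_eq_mul_right hp.out.pos e).le
    have htop : A ⊔ B = ⊤ := top_le_iff.1
      ((PGroups.sup_zpowers_eq_top hS hAi hxA).ge.trans (sup_le_sup_left (zpowers_le.2 hxB) A))
    have hcen : A ⊓ B ≤ center S := by
      intro z hz
      rw [Subgroup.mem_center_iff]
      intro g
      have hle : A ⊔ B ≤ centralizer ({z} : Set S) := sup_le
        (fun a ha => Subgroup.mem_centralizer_singleton_iff.2 (PGroups.comm_of_isMulCommutative hA ha hz.1))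
        (fun b hb => Subgroup.mem_centralizer_singleton_iff.2 (PGroups.comm_of_isMulCommutative hB hb hz.2))
      exact Subgroup.mem_centralizer_singleton_iff.1 (hle (htop ▸ mem_top g))
    have hle := Subgroup.index_antitone hcen
    rw [hidx] at hle
    have hinf := Subgroup.index_inf_le (H := A) (K := B)
    rw [hAi, hBi] at hinf
    have : p * p ^ 2 ≤ p * p := (Nat.mul_le_mul_left p (hk ▸ Nat.pow_le_pow_right hp.out.pos h)).trans (hle.trans hinf)
    have h2 := Nat.le_of_mul_le_mul_left this hp.out.pos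
    nlinarith [hp.out.two_le]

end Cfsg.Agent.H72.AbIdx
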