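import Cfsg.Agent.H25.InvolutionTransfer
import Cfsg.Agent.Fusion.Frobenius
import Cfsg.Agent.H62.CoprimeFix
import Mathlib.GroupTheory.SpecificGroups.Dihedral

/-!
Classes of involutions in groups with dihedral Sylow 2-subgroups.
-/

set_option autoImplicit false

namespace Cfsg.Agent.H72.DihedralClasses

open Subgroup DihedralGroup
open scoped IsMulCommutative

theorem conj_sr {m : ℕ} (i : ZMod m) (k : ℕ) :
    (r (k : ZMod m)) * sr (i + 2 * (k : ZMod m)) * (r (k : ZMod m))⁻¹ = sr i := by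
  rw [r_mul_sr, inv_r, sr_mul_r]; congr 1; ring

variable {G : Type*} [Group G]

theorem involution_cases {m h : ℕ} (hm : m = 2 * h) (hh : 0 < h) (ι : DihedralGroup m →* G) (d : DihedralGroup m)
    (hd : d * d = 1) (hd1 : d ≠ 1) :
    d = r (h : ZMod m) ∨ ((∃ i, d = sr i) ∧
      (IsConj (ι d) (ι (sr 0)) ∨ IsConj (ι d) (ι (sr 1)))) := by
  haveI : NeZero m := ⟨by omega⟩
  cases d with
  | r i =>
    left
    rw [r_mul_r, one_def, r.injEq] at hd
    have h1 : ((2 * i.val : ℕ) : ZMod m) = 0 := by push_cast; rw [ZMod.natCast_zmod_val, two_mul, hd]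
    rw [ZMod.natCast_eq_zero_iff] at h1
    obtain ⟨c, hc⟩ := h1
    have hlt := ZMod.val_lt i
    have hne : i.val ≠ 0 := fun h0 => hd1 (by rw [(ZMod.val_eq_zero i).1 h0, ← one_def])
    have hc1 : c = 1 := by
      rcases c with _ | _ | c
      · omega
      · rfl
      · nlinarith
    rw [hc1, mul_one] at hc
    have hv : i.val = h := by omega
    rw [← hv, ZMod.natCast_zmod_val]
  | sr i =>
    refine Or.inr ⟨⟨i, rfl⟩, ?_⟩
    have key : ∀ (j : ZMod m) (k : ℕ), IsConj (ι (sr (j + 2 * (k : ZMod m)))) (ι (sr j)) := fun j k =>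
      isConj_iff.2 ⟨ι (r (k : ZMod m)), by rw [← map_inv, ← map_mul, ← map_mul, conj_sr]⟩
    rw [← ZMod.natCast_zmod_val i]
    rcases Nat.even_or_odd' i.val with ⟨k, hk | hk⟩
    · left; rw [hk]; simpa using key 0 k
    · right
      rw [hk, show ((2 * k + 1 : ℕ) : ZMod m) = 1 + 2 * (k : ZMod m) by push_cast; ring]
      exact key 1 k

theorem trichotomy [Finite G] (P : Sylow 2 G) {m h : ℕ} (hm : m = 2 * h) (hh : Even h) (hh0 : 0 < h)
    (e : ↥(P : Subgroup G) ≃* DihedralGroup m) :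
    (Nat.card {C : ConjClasses G // ∃ g : G, ConjClasses.mk g = C ∧ orderOf g = 2} = 1 ∧
        ∀ N : Subgroup G, N.Normal → N.index ≠ 2) ∨
      (Nat.card {C : ConjClasses G // ∃ g : G, ConjClasses.mk g = C ∧ orderOf g = 2} = 2 ∧
        (∃ N : Subgroup G, N.Normal ∧ N.index = 2) ∧ ∀ N : Subgroup G, N.Normal → N.index ≠ 4) ∨
      (Nat.card {C : ConjClasses G // ∃ g : G, ConjClasses.mk g = C ∧ orderOf g = 2} = 3 ∧
        Cfsg.HasNormalPComplement 2 G) := by
  classical
  haveI : Fact (Nat.Prime 2) := ⟨Nat.prime_two⟩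
  haveI : NeZero m := ⟨by omega⟩
  let ι : DihedralGroup m →* G := (P : Subgroup G).subtype.comp e.symm.toMonoidHom
  have hιP : ∀ d, ι d ∈ (P : Subgroup G) := fun d => (e.symm d).2
  have hι : Function.Injective ι := Subtype.val_injective.comp e.symm.injective
  have hιs : ∀ x ∈ (P : Subgroup G), ∃ d, ι d = x := fun x hx =>
    ⟨e ⟨x, hx⟩, by show ((e.symm (e ⟨x, hx⟩) : (P : Subgroup G)) : G) = x; rw [MulEquiv.symm_apply_apply]⟩
  set z := ι (r (h : ZMod m)) with hz
  set s := ι (sr 0) with hs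
  set t := ι (sr 1) with ht
  obtain ⟨h2, hh2⟩ := hh
  have hzsq : z = ι (r (h2 : ZMod m)) * ι (r (h2 : ZMod m)) := by
    rw [hz, ← map_mul, r_mul_r, hh2]; push_cast; rfl
  have hinv : ∀ x ∈ (P : Subgroup G), orderOf x = 2 →
      x = z ∨ ((∃ i, x = ι (sr i)) ∧ (IsConj x s ∨ IsConj x t)) := by
    intro x hx hx2
    obtain ⟨d, rfl⟩ := hιs x hx
    rw [orderOf_injective ι hι, orderOf_eq_iff (by norm_num)] at hx2
    rcases involution_cases hm hh0 ι d (by rw [← pow_two]; exact hx2.1)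
      (fun e' => hx2.2 1 (by norm_num) one_pos (by rw [e', one_pow])) with rfl | ⟨⟨i, rfl⟩, hc⟩
    · exact Or.inl rfl
    · exact Or.inr ⟨⟨i, rfl⟩, hc⟩
  have hord : ∀ d : DihedralGroup m, d * d = 1 → d ≠ 1 → orderOf (ι d) = 2 := fun d hd hd1 => by
    rw [orderOf_injective ι hι]; exact orderOf_eq_prime (by rw [pow_two]; exact hd) hd1
  have hzo : orderOf z = 2 := by
    refine hord _ (by rw [r_mul_r, one_def, ← Nat.cast_add, ← two_mul, ← hm, ZMod.natCast_self]) ?_
    rw [one_def, Ne, r.injEq, ZMod.natCast_eq_zero_iff]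
    intro hd
    exact absurd (Nat.le_of_dvd hh0 hd) (by omega)
  have hso : orderOf s = 2 := by rw [hs, orderOf_injective ι hι, orderOf_sr]
  have hto : orderOf t = 2 := by rw [ht, orderOf_injective ι hι, orderOf_sr]
  let S : Set (ConjClasses G) := {ConjClasses.mk z, ConjClasses.mk s, ConjClasses.mk t}
  have hcount : Nat.card {C : ConjClasses G // ∃ g : G, ConjClasses.mk g = C ∧ orderOf g = 2} = S.ncard := by
    rw [← Nat.card_coe_set_eq]
    refine Nat.card_congr (Equiv.subtypeEquivRight fun C => ?_)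
    constructor
    · rintro ⟨g, rfl, hg⟩
      obtain ⟨Q, hQ⟩ := (IsPGroup.of_card (p := 2) (n := 1) (G := ↥(zpowers g))
        (by rw [Nat.card_zpowers, hg, pow_one])).exists_le_sylow
      obtain ⟨a, ha⟩ := MulAction.exists_smul_eq G Q P
      have hmem : a * g * a⁻¹ ∈ (P : Subgroup G) := by
        rw [← ha]
        exact Subgroup.smul_mem_pointwise_smul g (MulAut.conj a) _ (hQ (mem_zpowers g))
      have hc : IsConj g (a * g * a⁻¹) := isConj_iff.2 ⟨a, rfl⟩
      have ho : orderOf (a * g * a⁻¹) = 2 := by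
        rw [← hg]; exact (MulAut.conj a).orderOf_eq g
      rcases hinv _ hmem ho with h1 | ⟨-, h1 | h1⟩
      · exact Or.inl (ConjClasses.mk_eq_mk_iff_isConj.2 (h1 ▸ hc))
      · exact Or.inr (Or.inl (ConjClasses.mk_eq_mk_iff_isConj.2 (hc.trans h1)))
      · exact Or.inr (Or.inr (ConjClasses.mk_eq_mk_iff_isConj.2 (hc.trans h1)))
    · rintro (rfl | rfl | rfl)
      exacts [⟨z, rfl, hzo⟩, ⟨s, rfl, hso⟩, ⟨t, rfl, hto⟩]
  rw [hcount]
  have hgen : ∀ M : Subgroup G, s ∈ M → t ∈ M → (P : Subgroup G) ≤ M := by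
    intro M hsM htM x hx
    obtain ⟨d, rfl⟩ := hιs x hx
    have h1 : ι (r 1) ∈ M := by
      rw [show (r 1 : DihedralGroup m) = sr 0 * sr 1 by rw [sr_mul_sr, sub_zero], map_mul]
      exact M.mul_mem hsM htM
    have hr : ∀ i : ZMod m, ι (r i) ∈ M := fun i => by
      rw [← ZMod.natCast_zmod_val i, ← r_one_pow, map_pow]; exact M.pow_mem h1 _
    cases d with
    | r i => exact hr i
    | sr i =>
      rw [show (sr i : DihedralGroup m) = sr 0 * r i by rw [sr_mul_r, zero_add], map_mul]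
      exact M.mul_mem hsM (hr i)
  by_cases hidx : ∀ N : Subgroup G, N.Normal → N.index ≠ 2
  · refine Or.inl ⟨?_, hidx⟩
    set R : Subgroup G := (zpowers (r 1 : DihedralGroup m)).map ι with hR
    have hRcard : Nat.card R = m := by
      rw [hR, Subgroup.card_map_of_injective hι, Nat.card_zpowers, orderOf_r_one]
    have hRP : R ≤ (P : Subgroup G) := by rintro _ ⟨d, -, rfl⟩; exact hιP d
    have hRi : R.relIndex (P : Subgroup G) = 2 := by
      have h1 := Subgroup.relIndex_mul_relIndex ⊥ R (P : Subgroup G) bot_le hRP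
      rw [relIndex_bot_left, relIndex_bot_left, hRcard, Nat.card_congr e.toEquiv, DihedralGroup.nat_card,
        mul_comm 2 m] at h1
      exact Nat.eq_of_mul_eq_mul_left (by omega) h1
    have hnR : ∀ j : ZMod m, ι (sr j) ∉ R := by
      rintro j ⟨d, hd, hd'⟩
      obtain ⟨k, hk⟩ := Subgroup.mem_zpowers_iff.1 hd
      rw [← hk, r_one_zpow] at hd'
      exact absurd (hι hd') (by simp)
    have hfus : ∀ j : ZMod m, IsConj z (ι (sr j)) := by
      intro j
      rcases H25.thompson_transfer P R hRP hRi (ι (sr j)) (by rw [orderOf_injective ι hι, orderOf_sr])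
        (hιP _) (hnR j) with ⟨M, hMn, hMi, -⟩ | ⟨g, hg⟩
      · exact absurd hMi (hidx M hMn)
      · have ho : orderOf (g * ι (sr j) * g⁻¹) = 2 := by
          rw [← orderOf_sr j, ← orderOf_injective ι hι (sr j)]; exact (MulAut.conj g).orderOf_eq _
        rcases hinv _ (hRP hg) ho with h1 | ⟨⟨i, h1⟩, -⟩
        · exact (isConj_iff.2 ⟨g, h1⟩ : IsConj (ι (sr j)) z).symm
        · exact absurd (h1 ▸ hg) (hnR i)
    have : S = {ConjClasses.mk z} := by
      simp only [S, ← ConjClasses.mk_eq_mk_iff_isConj.2 (hfus 0),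
        ← ConjClasses.mk_eq_mk_iff_isConj.2 (hfus 1), hs, ht, Set.insert_eq_of_mem, Set.mem_singleton_iff]
    rw [this, Set.ncard_singleton]
  push Not at hidx
  obtain ⟨M, hMn, hM2⟩ := hidx
  haveI := hMn
  have hnot1 : ¬ (IsConj z s ∧ IsConj z t) := by
    rintro ⟨h1, h2'⟩
    have hzM : z ∈ M := by rw [hzsq]; exact Subgroup.mul_self_mem_of_index_two hM2 _
    have hmem : ∀ x, IsConj z x → x ∈ M := fun x hx => by
      obtain ⟨a, rfl⟩ := isConj_iff.1 hx
      exact hMn.conj_mem z hzM a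
    have hd := Subgroup.index_dvd_of_le (hgen M (hmem s h1) (hmem t h2'))
    rw [hM2] at hd
    exact P.not_dvd_index hd
  right
  by_cases hdist : ¬ IsConj z s ∧ ¬ IsConj z t ∧ ¬ IsConj s t
  · obtain ⟨hzs, hzt, hst⟩ := hdist
    refine Or.inr ⟨?_, ?_⟩
    · have a1 : ConjClasses.mk z ≠ ConjClasses.mk s := fun e' => hzs (ConjClasses.mk_eq_mk_iff_isConj.1 e')
      have a2 : ConjClasses.mk z ≠ ConjClasses.mk t := fun e' => hzt (ConjClasses.mk_eq_mk_iff_isConj.1 e')
      have a3 : ConjClasses.mk s ≠ ConjClasses.mk t := fun e' => hst (ConjClasses.mk_eq_mk_iff_isConj.1 e')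
      exact Set.ncard_eq_three.2 ⟨_, _, _, a1, a2, a3, rfl⟩
    refine (Fusion.frobenius_criterion P).2 fun Q hQ g hg hgp => ?_
    set C : Subgroup G := Q ⊓ (zpowers (r 1 : DihedralGroup m)).map ι with hC
    have hCcyc : IsCyclic C := by
      haveI : IsCyclic ↥((zpowers (r 1 : DihedralGroup m)).map ι) :=
        isCyclic_of_surjective (ι.subgroupMap _) (ι.subgroupMap_surjective _)
      exact isCyclic_of_injective (Subgroup.inclusion inf_le_right) (Subgroup.inclusion_injective _)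
    have hmemR : ∀ x ∈ (P : Subgroup G), x ∈ (zpowers (r 1 : DihedralGroup m)).map ι ∨
        ∃ i, x = ι (sr i) := by
      intro x hx
      obtain ⟨d, rfl⟩ := hιs x hx
      cases d with
      | r i => exact Or.inl ⟨r i, ⟨(i.val : ℤ), by simp [r_one_zpow]⟩, rfl⟩
      | sr i => exact Or.inr ⟨i, rfl⟩
    have hgQ : ∀ x ∈ Q, g * x * g⁻¹ ∈ Q := fun x hx => (Subgroup.mem_normalizer_iff.1 hg x).1 hx
    have hmap : C.map (MulAut.conj g).toMonoidHom = C := by
      refine Subgroup.eq_of_le_of_card_ge ?_ (Subgroup.card_map_of_injective (MulAut.conj g).injective).ge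
      rintro _ ⟨c, ⟨hcQ, hcR⟩, rfl⟩
      refine ⟨hgQ c hcQ, ?_⟩
      rcases hmemR _ (hQ (hgQ c hcQ)) with h1 | ⟨i, h1⟩
      · exact h1
      exfalso
      have ho : orderOf c = 2 := by
        rw [← (MulAut.conj g).orderOf_eq c, MulAut.conj_apply, h1, orderOf_injective ι hι, orderOf_sr]
      have hcz : c = z := by
        rcases hinv c (hQ hcQ) ho with h2' | ⟨⟨j, h2'⟩, -⟩
        · exact h2'
        · obtain ⟨d, hd, hd'⟩ := hcR
          obtain ⟨k, hk⟩ := Subgroup.mem_zpowers_iff.1 hd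
          rw [h2', ← hk, r_one_zpow] at hd'
          exact absurd (hι hd') (by simp)
      have hc2 : IsConj z (ι (sr i)) := isConj_iff.2 ⟨g, by rw [← hcz]; exact h1⟩
      rcases hinv _ (hιP (sr i)) (by rw [orderOf_injective ι hι, orderOf_sr]) with h3 | ⟨-, h3 | h3⟩
      · exact absurd (hι h3) (by simp)
      · exact hzs (hc2.trans h3)
      · exact hzt (hc2.trans h3)
    have hgC : g ∈ Subgroup.normalizer (C : Set G) := Subgroup.mem_normalizer_iff_map_conj_eq.2 hmap
    obtain ⟨k, hk⟩ := (P.2.to_le (inf_le_left.trans hQ : C ≤ (P : Subgroup G))).exists_card_eq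
    have hfixC : ∀ c ∈ C, g * c * g⁻¹ = c := fun c hc =>
      H62.commute_of_normalizes_cyclic Nat.prime_two C hk
        ⟨hgp, fun q hq _ => hq.two_le⟩ hgC hc
    rw [Subgroup.mem_centralizer_iff]
    intro x hx
    rcases hmemR x (hQ hx) with h1 | ⟨i, rfl⟩
    · exact (mul_inv_eq_iff_eq_mul.1 (hfixC x ⟨hx, h1⟩)).symm
    set c := g * ι (sr i) * g⁻¹ * (ι (sr i))⁻¹ with hc
    have hcC : c ∈ C := by
      refine ⟨Q.mul_mem (hgQ _ hx) (Q.inv_mem hx), ?_⟩
      rcases hmemR _ (hQ (hgQ _ hx)) with h1 | ⟨j, h1⟩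
      · exfalso
        have hmemC : g * ι (sr i) * g⁻¹ ∈ C := ⟨hgQ _ hx, h1⟩
        have hxC := (Subgroup.mem_normalizer_iff.1 hgC (ι (sr i))).2 hmemC
        obtain ⟨d, hd, hd'⟩ := hxC.2
        obtain ⟨k', hk'⟩ := Subgroup.mem_zpowers_iff.1 hd
        rw [← hk', r_one_zpow] at hd'
        exact absurd (hι hd') (by simp)
      · rw [hc, h1, ← map_inv, ← map_mul, inv_sr, sr_mul_sr]
        exact ⟨_, ⟨((i - j).val : ℤ), by simp [r_one_zpow]⟩, rfl⟩
    have hpow : ∀ k : ℕ, g ^ k * ι (sr i) * (g ^ k)⁻¹ = c ^ k * ι (sr i) := by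
      intro k
      induction k with
      | zero => simp
      | succ k ih =>
        calc g ^ (k + 1) * ι (sr i) * (g ^ (k + 1))⁻¹
            = g * (g ^ k * ι (sr i) * (g ^ k)⁻¹) * g⁻¹ := by rw [pow_succ']; group
          _ = (g * c ^ k * g⁻¹) * (g * ι (sr i) * g⁻¹) := by rw [ih]; group
          _ = c ^ k * (c * ι (sr i)) := by
            rw [hfixC _ (C.pow_mem hcC k)]
            congr 1
            rw [hc]; group
          _ = c ^ (k + 1) * ι (sr i) := by rw [pow_succ]; exact (mul_assoc _ _ _).symm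
    have h0 := hpow (orderOf g)
    rw [pow_orderOf_eq_one, one_mul, inv_one, mul_one, right_eq_mul] at h0
    have hc1 : c = 1 := congrArg Subtype.val (H62.eq_one_of_pow_eq_one_of_pGroup
      (IsPGroup.of_card hk) (n := orderOf g) hgp (x := (⟨c, hcC⟩ : C)) (Subtype.ext h0))
    rw [hc, mul_inv_eq_one, mul_inv_eq_iff_eq_mul] at hc1
    exact hc1.symm
  refine Or.inl ⟨?_, ⟨M, hMn, hM2⟩, ?_⟩
  · have key : ∀ a b c : ConjClasses G, a = b ∨ a = c ∨ b = c → ¬ (a = b ∧ a = c) →
        ({a, b, c} : Set (ConjClasses G)).ncard = 2 := by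
      intro a b c h1 h3
      rcases h1 with rfl | rfl | rfl
      · rw [Set.insert_eq_of_mem (Set.mem_insert _ _)]; exact Set.ncard_pair fun e' => h3 ⟨rfl, e'⟩
      · rw [Set.insert_eq_of_mem (by simp)]; exact Set.ncard_pair fun e' => h3 ⟨e'.symm, rfl⟩
      · rw [Set.insert_eq_of_mem (Set.mem_singleton _)]; exact Set.ncard_pair fun e' => h3 ⟨e', e'⟩
    refine key _ _ _ ?_ fun hh' => hnot1 ⟨ConjClasses.mk_eq_mk_iff_isConj.1 hh'.1, ConjClasses.mk_eq_mk_iff_isConj.1 hh'.2⟩
    simp only [ConjClasses.mk_eq_mk_iff_isConj]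
    tauto
  · intro N hN h4
    haveI := hN
    apply hdist
    have hab : IsMulCommutative (G ⧸ N) :=
      IsPGroup.isMulCommutative_of_card_eq_prime_sq (p := 2) (by rw [← Subgroup.index_eq_card, h4]; rfl)
    let q := QuotientGroup.mk' N
    have hsq : ∀ x, orderOf x = 2 → q x * q x = 1 := fun x hx => by
      rw [← map_mul, ← pow_two, ← hx, pow_orderOf_eq_one, map_one]
    have hqz : q z = 1 := by
      have hr1 : q (ι (r 1)) * q (ι (r 1)) = 1 := by
        rw [show (r 1 : DihedralGroup m) = sr 0 * sr 1 by rw [sr_mul_sr, sub_zero], map_mul, map_mul,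
          mul_mul_mul_comm, ← hs, ← ht, hsq s hso, hsq t hto, one_mul]
      rw [hzsq, map_mul, ← r_one_pow, map_pow, map_pow, ← mul_pow, hr1, one_pow]
    have hsmall : ∀ x : G ⧸ N, x * x = 1 → q s ∈ zpowers x → q t ∈ zpowers x → False := by
      intro x hx hsx htx
      have hle : (P : Subgroup G) ≤ (zpowers x).comap q := hgen _ hsx htx
      have hd1 : ((zpowers x).comap q).index ∣ (P : Subgroup G).index := Subgroup.index_dvd_of_le hle
      rw [Subgroup.index_comap_of_surjective _ (QuotientGroup.mk'_surjective N)] at hd1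
      have h5 := (zpowers x).card_mul_index
      rw [← Subgroup.index_eq_card N, h4, Nat.card_zpowers] at h5
      have h6 : orderOf x ≤ 2 := orderOf_le_of_pow_eq_one two_pos (by rw [pow_two, hx])
      have hodd := P.not_dvd_index
      have hpos : 0 < orderOf x := orderOf_pos x
      interval_cases orderOf x
      · rw [one_mul] at h5; rw [h5] at hd1; exact hodd (dvd_trans (by norm_num) hd1)
      · rw [show (zpowers x).index = 2 by omega] at hd1; exact hodd hd1
    have hne : ∀ a b, IsConj a b → q a = q b := fun a b hab' => by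
      obtain ⟨c, rfl⟩ := isConj_iff.1 hab'
      rw [map_mul, map_mul, map_inv, mul_comm' (q c), mul_inv_cancel_right]
    refine ⟨fun h1 => hsmall (q t) (hsq t hto) ?_ (mem_zpowers _),
      fun h1 => hsmall (q s) (hsq s hso) (mem_zpowers _) ?_,
      fun h1 => hsmall (q s) (hsq s hso) (mem_zpowers _) ?_⟩
    · rw [← hne z s h1, hqz]; exact one_mem _
    · rw [← hne z t h1, hqz]; exact one_mem _
    · rw [← hne s t h1]; exact mem_zpowers _

end Cfsg.Agent.H72.DihedralClasses
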