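import Cfsg.Agent.S0143
import Cfsg.Agent.Cores.Basic
import Mathlib.GroupTheory.Solvable
import Mathlib.GroupTheory.Nilpotent

/-! A finite group with an abelian subgroup of prime-power index is solvable. -/

set_option autoImplicit false

namespace Cfsg.Agent.H72

open Subgroup

universe u

theorem solvable_of_abelian_prime_power_index {p : ℕ} (hp : p.Prime) :
    ∀ (n : ℕ) (G : Type u) [Group G] [Finite G], Nat.card G = n → ∀ A : Subgroup G,
      IsMulCommutative A → (∃ k : ℕ, A.index = p ^ k) → Group.IsSolvable G := by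
  intro n
  induction n using Nat.strong_induction_on with
  | _ n ih =>
  intro G _ _ hn A hA hidx
  obtain ⟨k, hk⟩ := hidx
  have := Fact.mk hp
  rcases subsingleton_or_nontrivial G with hS | hN
  · infer_instance
  by_cases hs : IsSimpleGroup G
  · rcases eq_or_ne A ⊥ with hA1 | hA1
    · rw [hA1, index_bot] at hk
      have := (IsPGroup.of_card hk).isNilpotent
      infer_instance
    · obtain ⟨z, hz, hz1⟩ := (A.bot_or_exists_ne_one).resolve_left hA1
      have hle : A ≤ centralizer ({z} : Set G) := fun a ha => mem_centralizer_singleton_iff.2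
        (congrArg Subtype.val (hA.is_comm.comm ⟨a, ha⟩ ⟨z, hz⟩))
      obtain ⟨j, -, hj⟩ := (Nat.dvd_prime_pow hp).1 (hk ▸ index_dvd_of_le hle)
      have hprime := Cfsg.Agent.S0143.result p j hp z hz1 hj
      have := Fact.mk hprime
      have := isCyclic_of_prime_card (α := G) (p := Nat.card G) rfl
      exact Group.isSolvable_of_comm fun a b => (IsCyclic.commutative (α := G)).is_comm.comm a b
  · obtain ⟨N, hNn, hN1, hN2⟩ : ∃ N : Subgroup G, N.Normal ∧ N ≠ ⊥ ∧ N ≠ ⊤ := by
      by_contra h
      push Not at h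
      exact hs { eq_bot_or_eq_top_of_normal := fun H hH => or_iff_not_imp_left.2 (h H hH) }
    have hcardN : Nat.card N < n := hn ▸ lt_of_not_ge fun hle =>
      hN2 (eq_top_of_le_card N hle)
    have hcardQ : Nat.card (G ⧸ N) < n := by
      rw [← hn, N.card_eq_card_quotient_mul_card_subgroup]
      exact lt_mul_of_one_lt_right Nat.card_pos ((one_lt_card_iff_ne_bot N).2 hN1)
    have hrel : (A.subgroupOf N).index ∣ A.index := by
      have e1 : Nat.card ↥(A ⊓ N) * A.relIndex N = Nat.card N := by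
        rw [← inf_relIndex_right A N, ← relIndex_bot_left, ← relIndex_bot_left]
        exact relIndex_mul_relIndex _ _ _ bot_le inf_le_right
      have e2 : Nat.card A * A.relIndex (A ⊔ N) = Nat.card ↥(A ⊔ N) := by
        rw [← relIndex_bot_left, ← relIndex_bot_left]
        exact relIndex_mul_relIndex _ _ _ bot_le le_sup_left
      have e3 := Cfsg.Agent.Cores.card_sup_mul_card_inf A N
      rw [← e2, ← e1] at e3
      have e4 : A.relIndex (A ⊔ N) = A.relIndex N := by
        refine Nat.eq_of_mul_eq_mul_left (Nat.mul_pos (Nat.card_pos (α := A))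
          (Nat.card_pos (α := ↥(A ⊓ N)))) ?_
        linarith [e3]
      show A.relIndex N ∣ A.index
      rw [← e4]
      exact Dvd.intro _ (relIndex_mul_index le_sup_left)
    obtain ⟨j, -, hj⟩ := (Nat.dvd_prime_pow hp).1 (hk ▸ hrel)
    have h1 : Group.IsSolvable N := ih _ hcardN N rfl (A.subgroupOf N)
      ⟨⟨fun a b => Subtype.ext (Subtype.ext
        (congrArg Subtype.val (hA.is_comm.comm ⟨_, a.2⟩ ⟨_, b.2⟩) :))⟩⟩ ⟨j, hj⟩
    obtain ⟨i, -, hi⟩ := (Nat.dvd_prime_pow hp).1
      (hk ▸ A.index_map_dvd (f := QuotientGroup.mk' N) (QuotientGroup.mk'_surjective N))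
    have h2 : Group.IsSolvable (G ⧸ N) := ih _ hcardQ (G ⧸ N) rfl _ (by
      refine ⟨⟨?_⟩⟩
      rintro ⟨_, a, ha, rfl⟩ ⟨_, b, hb, rfl⟩
      refine Subtype.ext ?_
      show QuotientGroup.mk' N a * QuotientGroup.mk' N b = QuotientGroup.mk' N b * QuotientGroup.mk' N a
      rw [← map_mul, ← map_mul, show a * b = b * a from
        congrArg Subtype.val (hA.is_comm.comm ⟨a, ha⟩ ⟨b, hb⟩)]) ⟨i, hi⟩
    exact (Group.isSolvable_iff_subgroup_quotient N).2 ⟨h1, h2⟩

end Cfsg.Agent.H72
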