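import Cfsg.Agent.H60.Dagger
import Cfsg.Agent.H59.YClosure
import Cfsg.Agent.H59.WeaklyClosed

/-!
An asymmetric `Y_M`: `O_p(M)` is weakly closed and controls `Y_M`.
-/

set_option autoImplicit false
set_option linter.style.haveILetI false

namespace Cfsg.Agent.H72.Asymmetric

open Subgroup
open H60 (cj cj_cj cj_one cj_mono cj_eq_self_iff cj_centralizer cj_normalizer card_cj le_cj_iff cj_le_iff)

variable {G : Type*} [Group G] [Finite G] {p : ℕ} [Fact p.Prime]

local notation "Y[" p ", " M "]" => Cfsg.largestPReducedOf p M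
local notation "P[" p ", " M "]" => Cfsg.pCoreOf p M

/-- The standing hypotheses on a member `M` of `𝔐` over the Sylow subgroup `S`. -/
structure Setup (p : ℕ) (S : Sylow p G) (Q M : Subgroup G) : Prop where
  hQp : IsPGroup p Q
  hQ : Cfsg.IsLarge Q
  hSM : (S : Subgroup G) ≤ M
  hM : Cfsg.IsInFrakM p M

variable {S : Sylow p G} {Q M : Subgroup G}

theorem Setup.sylow_ne_bot (h : Setup p S Q M) : (S : Subgroup G) ≠ ⊥ := fun hb => h.hM.1.1
  ((H60.pCoreOf_eq_bot_iff M).1 (le_bot_iff.1 (hb ▸ H59.pCoreOf_le_sylow S h.hSM)))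

theorem Setup.yOf_ne_bot (h : Setup p S Q M) : Y[p, M] ≠ ⊥ := by
  intro hb
  have hp : p.Prime := Fact.out
  set Z := (S : Subgroup G) ⊓ centralizer ((S : Subgroup G) : Set G) with hZ
  have hZ1 : Z ≠ ⊥ := H60.inf_centralizer_ne_bot S.2 S.2 Subgroup.le_normalizer h.sylow_ne_bot
  have hZp : IsPGroup p Z := S.2.to_inf_left
  haveI : Nontrivial Z := (Subgroup.nontrivial_iff_ne_bot Z).2 hZ1
  obtain ⟨k, hk0, hk⟩ := hZp.nontrivial_iff_card.1 inferInstance
  obtain ⟨z, hz⟩ := exists_prime_orderOf_dvd_card' (G := Z) p (hk ▸ dvd_pow_self p hk0.ne')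
  have hc : centralizer (Cfsg.pCore p ↥M : Set ↥M) ≤ Cfsg.pCore p ↥M :=
    (H60.hasCharP_iff M).2 (inf_le_right.trans h.hM.1.2)
  have hmem : (z : G) ∈ Y[p, M] := H59.sylowCenterClosure_le_yOf hc
    (H59.omegaOne_center_le_sylowCenterClosure S h.hSM
      (subset_closure ⟨z.2, by rw [← Subgroup.coe_pow, ← hz, pow_orderOf_eq_one, Subgroup.coe_one]⟩))
  rw [hb, Subgroup.mem_bot] at hmem
  have h1 : z = 1 := Subtype.ext hmem
  rw [h1, orderOf_one] at hz
  exact hp.ne_one hz.symm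

theorem Setup.normalizer_yOf_eq (h : Setup p S Q M) :
    normalizer (Y[p, M] : Set G) = M ⊔ centralizer (Y[p, M] : Set G) :=
  le_antisymm
    (H60.normalizer_le_dagger h.hQp h.hQ S h.hSM h.hM h.yOf_ne_bot
      (H60.isPGroup_of_isElementaryAbelian (H60.isElementaryAbelian_yOf M)) (H60.le_normalizer_yOf M))
    (H60.sup_centralizer_le_normalizer_yOf M)

theorem Setup.normalizer_pCoreOf_le (h : Setup p S Q M) :
    normalizer (P[p, M] : Set G) ≤ normalizer (Y[p, M] : Set G) := by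
  rw [h.normalizer_yOf_eq]
  exact H60.normalizer_le_dagger h.hQp h.hQ S h.hSM h.hM
    (fun hb => h.hM.1.1 ((H60.pCoreOf_eq_bot_iff M).1 hb)) (H60.pCoreOf_isPGroup M)
    (H60.le_normalizer_pCoreOf M)

/-- `O_p(M)` is a Sylow subgroup of `C(Y_M)`. -/
theorem Setup.eq_of_le_centralizer (h : Setup p S Q M) {X : Subgroup G} (hX : IsPGroup p X)
    (hXC : X ≤ centralizer (Y[p, M] : Set G)) (hPX : P[p, M] ≤ X) : X = P[p, M] := by
  set N := normalizer (Y[p, M] : Set G) with hN
  have hSN : (S : Subgroup G) ≤ N := h.hSM.trans (H60.le_normalizer_yOf M)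
  have hXN : X ≤ N := hXC.trans (centralizer_le_normalizer _)
  obtain ⟨T, hT⟩ := (hX.comap_subtype : IsPGroup p (X.subgroupOf N)).exists_le_sylow
  obtain ⟨n, hn⟩ := MulAction.exists_smul_eq N T (S.subtype hSN)
  have hle : cj X (n : G) ≤ P[p, M] := by
    rw [← H60.sylow_inf_centralizer_eq S h.hSM h.hM]
    refine le_inf ?_ ?_
    · rintro _ ⟨x, hx, rfl⟩
      have h1 : n * ⟨x, hXN hx⟩ * n⁻¹ ∈ (S.subtype hSN : Subgroup N) := by
        rw [← hn]; exact ⟨_, hT hx, rfl⟩
      exact h1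
    · refine (cj_mono hXC _).trans ?_
      rw [cj_centralizer, cj_eq_self_iff.2 n.2]
  exact (eq_of_le_of_card_ge hPX ((card_cj X (n : G)).symm.le.trans (Subgroup.card_le_of_le hle))).symm

/-- Mutually normalizing conjugates of `O_p(M)` coincide. -/
theorem Setup.mutualEq (h : Setup p S Q M) (hasym : ¬ Cfsg.IsSymmetricIn Y[p, M]) :
    H59.MutualEq P[p, M] := by
  intro g hg
  obtain ⟨hg1, hg2⟩ := H59.commutator_le_inf_iff.1 hg
  set Y := Y[p, M] with hY
  set P := P[p, M] with hP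
  set D := normalizer (Y : Set G) with hD
  have hYP : Y ≤ P := H60.yOf_le_pCoreOf M
  have hPp : IsPGroup p P := H60.pCoreOf_isPGroup M
  have hPC : P ≤ centralizer (Y : Set G) := H60.pCoreOf_le_centralizer_yOf M
  have hPD : P ≤ D := hPC.trans (centralizer_le_normalizer _)
  have hND := h.normalizer_pCoreOf_le
  have hMY : ∀ m ∈ M, cj Y m = Y := fun m hm => cj_eq_self_iff.2 (H60.le_normalizer_yOf M hm)
  have hMP : ∀ m ∈ M, cj P m = P := fun m hm => cj_eq_self_iff.2 (H60.le_normalizer_pCoreOf M hm)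
  -- the two edges at the base vertex
  have hg1' : cj P g⁻¹ ≤ normalizer (P : Set G) := by
    have h1 := cj_mono hg1 g⁻¹
    rwa [cj_normalizer, cj_cj, inv_mul_cancel, cj_one] at h1
  have hg2' : P ≤ normalizer (cj P g⁻¹ : Set G) := by
    have h1 := cj_mono hg2 g⁻¹
    rwa [cj_normalizer, cj_cj, inv_mul_cancel, cj_one] at h1
  have hadj : ∀ s ∈ ({g, g⁻¹} : Set G),
      P ≤ normalizer (cj Y s : Set G) ∧ cj P s ≤ D ∧ IsPGroup p ↥(cj P s ⊔ P) := by
    intro s hs
    have hs' : P ≤ normalizer (cj P s : Set G) ∧ cj P s ≤ normalizer (P : Set G) := by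
      rcases hs with rfl | rfl
      · exact ⟨hg1, hg2⟩
      · exact ⟨hg2', hg1'⟩
    refine ⟨?_, hs'.2.trans hND, (H60.isPGroup_cj hPp s).to_sup_of_normal_right' hPp hs'.2⟩
    refine hs'.1.trans ?_
    rw [← cj_normalizer, ← cj_normalizer]
    exact cj_mono hND s
  let gen : G → Prop := fun s => s ∈ M ∨ s ∈ ({g, g⁻¹} : Set G)
  have geninv : ∀ s, gen s → gen s⁻¹ := by
    rintro s (hs | rfl | rfl)
    · exact Or.inl (inv_mem hs)
    · exact Or.inr (Or.inr rfl)
    · exact Or.inr (Or.inl (inv_inv g))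
  have key : ∀ n : ℕ, ∀ l : List G, l.length = n → (∀ s ∈ l, gen s) → cj Y l.prod ≤ P := by
    intro n
    induction n using Nat.strong_induction_on with
    | _ n ih =>
      intro l hl hgen
      rcases l with _ | ⟨s, l'⟩
      · simpa using hYP
      have hs := hgen s List.mem_cons_self
      have ihl' : cj Y l'.prod ≤ P :=
        ih l'.length (by simp at hl; omega) l' rfl fun t ht => hgen t (List.mem_cons_of_mem s ht)
      rw [List.prod_cons]
      rcases hs with hs | hs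
      · rw [← cj_cj, ← hMP s hs]; exact cj_mono ihl' s
      obtain ⟨l'', s', he⟩ : ∃ l'' s', s :: l' = l'' ++ [s'] :=
        (List.eq_nil_or_concat (s :: l')).resolve_left (by simp) |>.imp fun _ h => by simpa using h
      have hlen : l''.length + 1 = n := by rw [← hl, he]; simp
      have hprod : s * l'.prod = l''.prod * s' := by
        rw [← List.prod_cons, he]; simp
      have hgen'' : ∀ t ∈ l'', gen t := fun t ht => hgen t (by rw [he]; simp [ht])
      have hs' := hgen s' (by rw [he]; simp)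
      rcases hs' with hs' | hs'
      · rw [hprod, ← cj_cj, hMY s' hs']
        exact ih l''.length (by omega) l'' rfl hgen''
      have h1 : cj Y (s * l'.prod) ≤ cj P s := by rw [← cj_cj]; exact cj_mono ihl' s
      have h2 : Y ≤ cj P l''.prod := by
        rw [le_cj_iff, List.prod_inv_reverse]
        refine ih _ ?_ _ rfl fun t ht => ?_
        · simp; omega
        · simp only [List.mem_reverse, List.mem_map] at ht
          obtain ⟨u, hu, rfl⟩ := ht
          exact geninv u (hgen'' u hu)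
      have h3 : Y ≤ normalizer (cj Y (s * l'.prod) : Set G) := by
        refine h2.trans ?_
        rw [hprod, ← cj_cj, ← cj_normalizer]
        exact cj_mono (hadj s' hs').1 _
      have h4 : ⁅Y, cj Y (s * l'.prod)⁆ = ⊥ :=
        H60.commutator_eq_bot_of_not_symmetric hasym h3 (h1.trans (hadj s hs).2.1)
      rw [commutator_comm, commutator_eq_bot_iff_le_centralizer] at h4
      have h5 : (cj P s ⊔ P) ⊓ centralizer (Y : Set G) = P :=
        h.eq_of_le_centralizer (hadj s hs).2.2.to_inf_left inf_le_right (le_inf le_sup_right hPC)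
      exact (le_inf (h1.trans le_sup_left) h4).trans h5.le
  let A : Subgroup G := ⨆ l : {l : List G // ∀ s ∈ l, gen s}, cj Y (l : List G).prod
  have hAP : A ≤ P := iSup_le fun l => key _ l.1 rfl l.2
  have hYA : Y ≤ A :=
    le_trans (by simp) (le_iSup (fun l : {l : List G // ∀ s ∈ l, gen s} => cj Y (l : List G).prod)
      ⟨[], by simp⟩)
  have hAn : ∀ s, gen s → s ∈ normalizer (A : Set G) := by
    intro s hs
    refine cj_eq_self_iff.1 (eq_of_le_of_card_ge ?_ (card_cj A s).ge)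
    rw [cj_le_iff]
    refine iSup_le fun l => ?_
    rw [le_cj_iff, inv_inv, cj_cj, ← List.prod_cons]
    exact le_iSup (fun l : {l : List G // ∀ s ∈ l, gen s} => cj Y (l : List G).prod)
      ⟨s :: l.1, fun t ht => by rcases List.mem_cons.1 ht with rfl | ht <;> [exact hs; exact l.2 t ht]⟩
  have hgD : g ∈ D := by
    rw [hD, h.normalizer_yOf_eq]
    exact H60.normalizer_le_dagger h.hQp h.hQ S h.hSM h.hM
      (fun hb => h.yOf_ne_bot (le_bot_iff.1 (hb ▸ hYA))) (hPp.to_le hAP)
      (fun m hm => hAn m (Or.inl hm)) (hAn g (Or.inr (Or.inl rfl)))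
  have hgC : cj P g ≤ centralizer (Y : Set G) := by
    refine (cj_mono hPC g).trans ?_
    rw [cj_centralizer, cj_eq_self_iff.2 hgD]
  have h6 := h.eq_of_le_centralizer ((H60.isPGroup_cj hPp g).to_sup_of_normal_right' hPp hg2)
    (sup_le hgC hPC) le_sup_right
  exact eq_of_le_of_card_ge (le_sup_left.trans h6.le) (card_cj P g).ge

theorem Setup.isWeaklyClosed (h : Setup p S Q M) (hasym : ¬ Cfsg.IsSymmetricIn Y[p, M]) :
    Cfsg.IsWeaklyClosedSubgroup p P[p, M] :=
  H59.isWeaklyClosed_of_mutualEq (H60.pCoreOf_isPGroup M) (h.mutualEq hasym)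

theorem Setup.normalizer_le (h : Setup p S Q M) (hasym : ¬ Cfsg.IsSymmetricIn Y[p, M])
    {L : Subgroup G} (hL : IsPGroup p L) (hPL : P[p, M] ≤ L) :
    normalizer (L : Set G) ≤ normalizer (P[p, M] : Set G) :=
  H59.normalizer_le_of_isWeaklyClosed (h.isWeaklyClosed hasym) hL hPL

theorem Setup.parabolic_inf (h : Setup p S Q M) (hasym : ¬ Cfsg.IsSymmetricIn Y[p, M])
    {L : Subgroup G} (hPL : P[p, M] ≤ L) :
    Cfsg.IsParabolic p ((L ⊓ (M ⊔ centralizer (Y[p, M] : Set G))).subgroupOf L) := by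
  obtain ⟨T, hT⟩ := H59.le_normalizer_sylow (H60.pCoreOf_isPGroup M) (h.isWeaklyClosed hasym) hPL
  refine ⟨T, fun t ht => ⟨t.2, ?_⟩⟩
  show (t : G) ∈ M ⊔ centralizer (Y[p, M] : Set G)
  rw [← h.normalizer_yOf_eq]
  exact h.normalizer_pCoreOf_le (hT ⟨t, ht, rfl⟩)

/-- Elements of `Y_M` conjugate in `G` are conjugate in `M`. -/
theorem Setup.fusion (h : Setup p S Q M) (hasym : ¬ Cfsg.IsSymmetricIn Y[p, M])
    {x : G} (hx : x ∈ Y[p, M]) {g : G} (hgx : g * x * g⁻¹ ∈ Y[p, M]) :
    ∃ m ∈ M, m * x * m⁻¹ = g * x * g⁻¹ := by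
  set P := P[p, M] with hP
  set C := centralizer (Y[p, M] : Set G) with hC
  have hPC : P ≤ C := H60.pCoreOf_le_centralizer_yOf M
  set y := g * x * g⁻¹ with hy
  have h1 : P ≤ centralizer ({y} : Set G) := fun a ha =>
    mem_centralizer_singleton_iff.2 (mem_centralizer_iff.1 (hPC ha) y hgx).symm
  have h2 : cj P g ≤ centralizer ({y} : Set G) := by
    rintro _ ⟨a, ha, rfl⟩
    refine mem_centralizer_singleton_iff.2 ?_
    simp only [MulEquiv.coe_toMonoidHom, MulAut.conj_apply, hy]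
    have := mem_centralizer_iff.1 (hPC ha) x hx
    calc g * a * g⁻¹ * (g * x * g⁻¹) = g * (a * x) * g⁻¹ := by group
      _ = g * (x * a) * g⁻¹ := by rw [this]
      _ = g * x * g⁻¹ * (g * a * g⁻¹) := by group
  obtain ⟨k, hk, he⟩ :=
    H59.exists_conj_of_le (H60.pCoreOf_isPGroup M) (h.isWeaklyClosed hasym) h1 h2
  have h3 : k⁻¹ * g ∈ normalizer (P : Set G) := cj_eq_self_iff.1 (by
    rw [← cj_cj, he, cj_cj, inv_mul_cancel, cj_one])
  have h4 := h.normalizer_pCoreOf_le h3
  rw [h.normalizer_yOf_eq, ← SetLike.mem_coe,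
    Subgroup.coe_mul_of_left_le_normalizer_right M C
      ((H60.le_normalizer_yOf M).trans (H60.normalizer_le_normalizer_centralizer _))] at h4
  obtain ⟨m, hm, z, hz, hmz⟩ := h4
  refine ⟨m, hm, ?_⟩
  have hzx := mem_centralizer_iff.1 hz x hx
  have hky := mem_centralizer_singleton_iff.1 hk
  calc m * x * m⁻¹ = m * (x * z) * z⁻¹ * m⁻¹ := by group
    _ = (m * z) * x * (m * z)⁻¹ := by rw [hzx]; group
    _ = k⁻¹ * g * x * (k⁻¹ * g)⁻¹ := by rw [show m * z = k⁻¹ * g from hmz]
    _ = k⁻¹ * (y * k) := by rw [hy]; group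
    _ = k⁻¹ * (k * y) := by rw [hky]
    _ = y := by group

end Cfsg.Agent.H72.Asymmetric
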