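import Cfsg.Agent.H72.Asymmetric

/-!
A char-`p`-tall asymmetric `Y_M` gives a member of the family over `O_p(M)`.
-/

set_option autoImplicit false
set_option linter.style.haveILetI false

namespace Cfsg.Agent.H72.CharPTall

open Subgroup
open H60 (cj)

variable {G : Type*} [Group G] [Finite G] {p : ℕ} [Fact p.Prime]

/-- Characteristic `p`, in the ambient group. -/
def CharP' (p : ℕ) (H : Subgroup G) : Prop :=
  H ⊓ centralizer (Cfsg.pCoreOf p H : Set G) ≤ Cfsg.pCoreOf p H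

omit [Finite G] [Fact p.Prime] in
theorem charP_of_pCoreOf_le {H K : Subgroup G} (h : CharP' p H) (hK : K ≤ H)
    (hW : Cfsg.pCoreOf p H ≤ K) : CharP' p K := by
  have h1 : Cfsg.pCoreOf p H ≤ Cfsg.pCoreOf p K :=
    H60.le_pCoreOf hW (hK.trans (H60.le_normalizer_pCoreOf H)) (H60.pCoreOf_isPGroup H)
  exact ((inf_le_inf hK (centralizer_le h1)).trans h).trans h1

theorem charP_of_normal {H R : Subgroup G} (h : CharP' p H) (hR : R ≤ H)
    (hn : H ≤ normalizer (R : Set G)) : CharP' p R := by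
  set W := Cfsg.pCoreOf p H with hW
  set U := Cfsg.pCoreOf p R with hU
  set K := R ⊓ centralizer (U : Set G) with hK
  have hI : R ⊓ W ≤ U :=
    H60.le_pCoreOf inf_le_left
      (H60.le_normalizer_inf Subgroup.le_normalizer (hR.trans (H60.le_normalizer_pCoreOf H)))
      (H60.pCoreOf_isPGroup H).to_inf_right
  refine H60.le_pCoreOf inf_le_left
    (H60.le_normalizer_inf Subgroup.le_normalizer
      ((H60.le_normalizer_pCoreOf R).trans (H60.normalizer_le_normalizer_centralizer _))) ?_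
  refine H60.isPGroup_of_coprime_eq_one fun x hx hco => ?_
  have hxW : x ∈ W := by
    refine h ⟨hR hx.1, mem_centralizer_iff.2 fun w hw => ?_⟩
    refine (H60.commute_of_commutator_fixed (M := R ⊓ W) (H60.pCoreOf_isPGroup H).to_inf_right hco
      (fun m hm => (mem_centralizer_iff.1 hx.2 m (hI hm)).symm) ⟨?_, ?_⟩).symm
    · have h1 : w * x⁻¹ * w⁻¹ ∈ R :=
        (mem_normalizer_iff.1 (hn (H60.pCoreOf_le H hw)) _).1 (R.inv_mem hx.1)
      simpa [mul_assoc] using R.mul_mem hx.1 h1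
    · exact W.mul_mem ((mem_normalizer_iff.1 (H60.le_normalizer_pCoreOf H (hR hx.1)) w).1 hw)
        (W.inv_mem hw)
  obtain ⟨k, hk⟩ := H60.pCoreOf_isPGroup H ⟨x, hxW⟩
  have hk1 : orderOf x ∣ p ^ k := orderOf_dvd_of_pow_eq_one (congrArg Subtype.val hk)
  exact orderOf_eq_one_iff.1
    (Nat.eq_one_of_dvd_coprimes (hco.pow_right k) dvd_rfl hk1)

omit [Fact p.Prime] [Finite G] in
theorem pCoreOf_map_conj_le (H : Subgroup G) (g : G) :
    cj (Cfsg.pCoreOf p H) g ≤ Cfsg.pCoreOf p (cj H g) := by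
  refine H60.le_pCoreOf (H60.cj_mono (H60.pCoreOf_le H) g) ?_ (H60.isPGroup_cj (H60.pCoreOf_isPGroup H) g)
  rw [← H60.cj_normalizer]
  exact H60.cj_mono (H60.le_normalizer_pCoreOf H) g

omit [Fact p.Prime] [Finite G] in
theorem pCoreOf_map_conj (H : Subgroup G) (g : G) :
    Cfsg.pCoreOf p (cj H g) = cj (Cfsg.pCoreOf p H) g := by
  refine le_antisymm ?_ (pCoreOf_map_conj_le H g)
  have h := H60.cj_mono (pCoreOf_map_conj_le (p := p) (cj H g) g⁻¹) g
  simp only [H60.cj_cj, mul_inv_cancel, inv_mul_cancel, H60.cj_one] at h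
  exact h

variable {S : Sylow p G} {Q M : Subgroup G}

theorem exists_frakH (h : Asymmetric.Setup p S Q M)
    (hasym : ¬ Cfsg.IsSymmetricIn (Cfsg.largestPReducedOf p M))
    (htall : Cfsg.IsCharPTall p (Cfsg.largestPReducedOf p M)) :
    ∃ H : Subgroup G, Cfsg.IsInFrakH p M H := by
  set Y := Cfsg.largestPReducedOf p M with hY
  set P := Cfsg.pCoreOf p M with hP
  set C := centralizer (Y : Set G) with hC
  obtain ⟨T, L, hTL, hL, hYL⟩ := htall
  -- move the Sylow subgroup of `C(Y)` onto `P`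
  obtain ⟨T₀, hT₀⟩ := ((H60.pCoreOf_isPGroup M).comap_subtype :
    IsPGroup p (P.subgroupOf C)).exists_le_sylow
  obtain ⟨c, hc⟩ := MulAction.exists_smul_eq C T T₀
  have hPL : P ≤ cj L (c : G) := by
    intro x hx
    have h1 : (⟨x, H60.pCoreOf_le_centralizer_yOf M hx⟩ : C) ∈ (T₀ : Subgroup C) := hT₀ hx
    rw [← hc] at h1
    obtain ⟨t, ht, htx⟩ := h1
    exact ⟨t, hTL (mem_map_of_mem C.subtype ht), congrArg Subtype.val htx⟩
  have hcY : cj Y (c : G) = Y := H60.cj_eq_self_iff.2 (centralizer_le_normalizer _ c.2)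
  have hex : CharP' p (cj L (c : G)) ∧ P ≤ cj L (c : G) ∧
      ¬ Y ≤ Cfsg.pCoreOf p (cj L (c : G)) := by
    refine ⟨?_, hPL, ?_⟩
    · have h1 := H60.cj_mono ((H60.hasCharP_iff L).1 hL) (c : G)
      rwa [H60.cj_inf, H60.cj_centralizer, ← pCoreOf_map_conj] at h1
    · rw [pCoreOf_map_conj, ← hcY, H60.cj_le_cj_iff]
      exact hYL
  obtain ⟨H, -, ⟨hH, hPH, hYH⟩, hmin⟩ := Finite.exists_le_minimal
    (p := fun K : Subgroup G => CharP' p K ∧ P ≤ K ∧ ¬ Y ≤ Cfsg.pCoreOf p K) hex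
  refine ⟨H, (H60.hasCharP_iff H).2 hH, hPH, hYH, fun K hPK hKH => by_contra fun hYK => ?_⟩
  set W := Cfsg.pCoreOf p H with hW
  have hHW := H60.le_normalizer_pCoreOf (p := p) H
  -- `W` normalizes `P`
  have hWP : W ≤ normalizer (P : Set G) := by
    obtain ⟨T₁, hT₁⟩ := H59.le_normalizer_sylow (H60.pCoreOf_isPGroup M) (h.isWeaklyClosed hasym) hPH
    exact (Subgroup.map_mono (Cores.pCore_le_sylow T₁)).trans hT₁
  have hKW : K ⊔ W ≤ H := sup_le hKH.le (H60.pCoreOf_le H)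
  have heq : K ⊔ W = H := by
    refine le_antisymm hKW (hmin ⟨charP_of_pCoreOf_le hH hKW le_sup_right, hPK.trans le_sup_left,
      fun hle => hYK ?_⟩ hKW)
    refine le_trans (le_inf hle ((H60.yOf_le_pCoreOf M).trans hPK)) ?_
    exact H60.le_pCoreOf inf_le_right
      (H60.le_normalizer_inf (le_sup_left.trans (H60.le_normalizer_pCoreOf _)) Subgroup.le_normalizer)
      (H60.pCoreOf_isPGroup _).to_inf_left
  -- the normal closure of `P` in `H`
  set R := ⨆ k : K, cj P (k : G) with hR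
  have hRK : R ≤ K := iSup_le fun k =>
    (H60.cj_mono hPK _).trans (H60.cj_eq_self_iff.2 (Subgroup.le_normalizer k.2)).le
  have hPR : P ≤ R := le_trans (by simp) (le_iSup (fun k : K => cj P (k : G)) 1)
  have hHR : H ≤ normalizer (R : Set G) := by
    intro x hx
    rw [← heq] at hx
    have hKN : K ≤ normalizer (W : Set G) := hKH.le.trans hHW
    rw [← SetLike.mem_coe, Subgroup.coe_mul_of_left_le_normalizer_right K W hKN] at hx
    obtain ⟨a, ha, w, hw, rfl⟩ := hx
    refine H60.cj_eq_self_iff.1 (eq_of_le_of_card_ge ?_ (H60.card_cj R _).ge)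
    rw [H60.cj_le_iff]
    refine iSup_le fun k => ?_
    rw [H60.le_cj_iff, inv_inv, H60.cj_cj]
    have hw' : (k : G)⁻¹ * w * k ∈ W := by
      have := (mem_normalizer_iff.1 (hKN (K.inv_mem k.2)) w).1 hw
      simpa using this
    have he : a * w * (k : G) = (a * k) * ((k : G)⁻¹ * w * k) := by group
    rw [he, ← H60.cj_cj, H60.cj_eq_self_iff.2 (hWP hw')]
    exact le_iSup (fun k : K => cj P (k : G)) (⟨a, ha⟩ * k)
  have hRH : R ≤ H := hRK.trans hKH.le
  have hRc : CharP' p R := charP_of_normal hH hRH hHR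
  have hYR : ¬ Y ≤ Cfsg.pCoreOf p R := fun hle => hYH (hle.trans
    (H60.le_pCoreOf ((H60.pCoreOf_le R).trans hRH)
      (hHR.trans (H60.normalizer_le_normalizer_pCoreOf R)) (H60.pCoreOf_isPGroup R)))
  exact absurd ((hmin ⟨hRc, hPR, hYR⟩ hRH).trans hRK) (not_le_of_gt hKH)

end Cfsg.Agent.H72.CharPTall
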