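import Cfsg.Agent.H72.ExtremelyInvolution
import Cfsg.Agent.H68.Factor
import Cfsg.Agent.H69.Basic
import Cfsg.Agent.Frobenius.NoFrobenius

/-!
An irreducible faithful insoluble linear group all of whose vector stabilizers are maximal: the
characteristic is two and the group is almost simple. The solubility of groups of odd order is a
hypothesis.
-/

set_option autoImplicit false

namespace Cfsg.Agent.H72.ExtremelyAffine

open Cfsg.Agent.H68 Cfsg.Agent.H26

universe u v

variable {H : Type u} [Group H] {V : Type v} [CommGroup V] (φ : H →* MulAut V)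

/-- The stabilizer of a vector. -/
def stab (x : V) : Subgroup H where
  carrier := {h | φ h x = x}
  one_mem' := by simp
  mul_mem' := by
    intro a b ha hb
    simp only [Set.mem_ofPred_eq] at ha hb ⊢
    rw [map_mul, MulAut.mul_apply, hb, ha]
  inv_mem' := by
    intro a ha
    simp only [Set.mem_ofPred_eq] at ha ⊢
    rw [map_inv]
    conv_lhs => rw [← ha]
    exact MulAut.inv_apply_self _ _ _

theorem mem_stab {x : V} {h : H} : h ∈ stab φ x ↔ φ h x = x := Iff.rfl

/-- The standing hypotheses. -/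
structure Hyp (p : ℕ) : Prop where
  prime : p.Prime
  exp : ∀ x : V, x ^ p = 1
  irr : ∀ W : Subgroup V, (∀ h : H, ∀ w ∈ W, φ h w ∈ W) → W = ⊥ ∨ W = ⊤
  faith : Function.Injective φ
  maxl : ∀ x : V, x ≠ 1 → IsCoatom (stab φ x)
  insoluble : ¬ Group.IsSolvable H

variable {φ} {p : ℕ}

theorem Hyp.eq_bot_of_normal_fix (h : Hyp φ p) (K : Subgroup H) [hK : K.Normal] {x : V}
    (hx : x ≠ 1) (hfix : K ≤ stab φ x) : K = ⊥ := by
  let W : Subgroup V :=
    { carrier := {w | ∀ k ∈ K, φ k w = w}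
      one_mem' := fun k _ => map_one _
      mul_mem' := fun ha hb k hk => by rw [map_mul, ha k hk, hb k hk]
      inv_mem' := fun ha k hk => by rw [map_inv, ha k hk] }
  have hW : ∀ g : H, ∀ w ∈ W, φ g w ∈ W := by
    intro g w hw k hk
    have hk' : φ (g⁻¹ * k * g) w = w := hw _ (by simpa using hK.conj_mem k hk g⁻¹)
    calc φ k (φ g w) = φ (g * (g⁻¹ * k * g)) w := by
          rw [show g * (g⁻¹ * k * g) = k * g by group, map_mul, MulAut.mul_apply]
      _ = φ g w := by rw [map_mul, MulAut.mul_apply, hk']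
  have hxW : x ∈ W := fun k hk => hfix hk
  rcases h.irr W hW with h0 | h0
  · rw [h0, Subgroup.mem_bot] at hxW
    exact absurd hxW hx
  · refine (Subgroup.eq_bot_iff_forall K).mpr fun k hk => h.faith ?_
    ext w
    rw [map_one]
    exact (show w ∈ W from h0 ▸ Subgroup.mem_top w) k hk

theorem Hyp.sup_stab (h : Hyp φ p) (K : Subgroup H) [K.Normal] (hK : K ≠ ⊥) {x : V} (hx : x ≠ 1) :
    stab φ x ⊔ K = ⊤ := by
  refine (h.maxl x hx).2 _ (lt_of_le_of_ne le_sup_left fun he => hK ?_)
  exact h.eq_bot_of_normal_fix K hx (he ▸ le_sup_right)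

theorem Hyp.exists_mul (h : Hyp φ p) (K : Subgroup H) [hn : K.Normal] (hK : K ≠ ⊥) {x : V}
    (hx : x ≠ 1) (g : H) : ∃ s ∈ stab φ x, ∃ k ∈ K, g = s * k := by
  have hg : g ∈ stab φ x ⊔ K := h.sup_stab K hK hx ▸ Subgroup.mem_top g
  rw [← SetLike.mem_coe, Subgroup.coe_mul_of_left_le_normalizer_right _ _
    (by rw [Subgroup.normalizer_eq_top]; exact le_top)] at hg
  obtain ⟨s, hs, k, hk, rfl⟩ := hg
  exact ⟨s, hs, k, hk, rfl⟩

/-- A proper subgroup of a normal subgroup normalized by a stabilizer and containing its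
intersection with it lies in it. -/
theorem Hyp.le_stab_of_normalized (h : Hyp φ p) (M : Subgroup H) [M.Normal] {x : V} (hx : x ≠ 1)
    (K : Subgroup H) (hKM : K ≤ M) (hK : K ≠ M) (hD : M ⊓ stab φ x ≤ K)
    (hn : ∀ s ∈ stab φ x, ∀ k ∈ K, s * k * s⁻¹ ∈ K) : K ≤ stab φ x := by
  by_contra hle
  have htop : stab φ x ⊔ K = ⊤ :=
    (h.maxl x hx).2 _ (lt_of_le_of_ne le_sup_left fun he => hle (he ▸ le_sup_right))
  refine hK (le_antisymm hKM fun m hm => ?_)
  have hnorm : stab φ x ≤ Subgroup.normalizer (K : Set H) := fun s hs => by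
    rw [Subgroup.mem_normalizer_iff]
    refine fun k => ⟨hn s hs k, fun hk => ?_⟩
    simpa [mul_assoc] using hn s⁻¹ (inv_mem hs) _ hk
  have hm' : m ∈ stab φ x ⊔ K := htop ▸ Subgroup.mem_top m
  rw [← SetLike.mem_coe, Subgroup.coe_mul_of_left_le_normalizer_right _ _ hnorm] at hm'
  obtain ⟨s, hs, k, hk, rfl⟩ := hm'
  refine K.mul_mem (hD ⟨?_, hs⟩) hk
  simpa using M.mul_mem hm (inv_mem (hKM hk))

theorem Hyp.two_eq (h : Hyp φ p) [Finite H] (heven : 2 ∣ Nat.card H) : p = 2 := by
  by_contra hp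
  haveI : Fact (Nat.Prime 2) := ⟨Nat.prime_two⟩
  obtain ⟨t, ht⟩ := exists_prime_orderOf_dvd_card' 2 heven
  have ht2 := mul_self_of_orderOf_two ht
  obtain ⟨w, hw⟩ : ∃ w, φ t w ≠ w := by
    by_contra hc
    push Not at hc
    refine ne_one_of_orderOf_two ht (h.faith ?_)
    ext w
    rw [map_one]
    exact hc w
  set m := w⁻¹ * φ t w with hm
  have hm1 : m ≠ 1 := fun h0 => hw (inv_mul_eq_one.mp h0).symm
  have htm : φ t m = m⁻¹ := by
    rw [hm, map_mul, map_inv, ← MulAut.mul_apply, ← map_mul, ht2, map_one, MulAut.one_apply,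
      mul_inv_rev, inv_inv, mul_comm]
  have hmm : m⁻¹ ≠ m := by
    intro h0
    have h2 : m ^ 2 = 1 := by rw [pow_two]; nth_rewrite 1 [← h0]; exact inv_mul_cancel m
    have h1 := (pow_gcd_eq_one (a := m)).mpr ⟨h2, h.exp m⟩
    rw [Nat.Coprime.gcd_eq_one ((Nat.coprime_primes Nat.prime_two h.prime).mpr (Ne.symm hp)),
      pow_one] at h1
    exact hm1 h1
  have hts : t ∉ stab φ m := fun h0 => hmm (htm.symm.trans h0)
  have hconj : ∀ s ∈ stab φ m, t * s * t⁻¹ ∈ stab φ m := by
    intro s hs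
    have hs' : φ s m = m := hs
    rw [mem_stab, inv_eq_of_mul_eq_one_right ht2, map_mul φ (t * s) t, map_mul φ t s, MulAut.mul_apply,
      MulAut.mul_apply, htm, map_inv (φ s), hs', map_inv (φ t), htm, inv_inv]
  have hnorm : t ∈ Subgroup.normalizer (stab φ m : Set H) := by
    rw [Subgroup.mem_normalizer_iff]
    refine fun s => ⟨hconj s, fun hs => ?_⟩
    have := hconj _ hs
    simp only [inv_eq_of_mul_eq_one_right ht2] at this
    simpa [← mul_assoc, ht2, mul_assoc s t t] using this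
  have htop : Subgroup.normalizer (stab φ m : Set H) = ⊤ :=
    (h.maxl m hm1).2 _ (lt_of_le_of_ne Subgroup.le_normalizer fun he => hts (he ▸ hnorm))
  haveI : (stab φ m).Normal := Subgroup.normalizer_eq_top_iff.mp htop
  have hbot : stab φ m = ⊥ := h.eq_bot_of_normal_fix _ hm1 le_rfl
  have hmax := h.maxl m hm1
  rw [hbot] at hmax
  have hcyc : Subgroup.zpowers t = ⊤ := hmax.2 _ (by
    rw [bot_lt_iff_ne_bot, Ne, Subgroup.zpowers_eq_bot]
    exact ne_one_of_orderOf_two ht)
  refine h.insoluble ?_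
  haveI : IsCyclic H := ⟨⟨t, fun g => show g ∈ Subgroup.zpowers t from hcyc ▸ Subgroup.mem_top g⟩⟩
  letI := IsCyclic.commGroup (α := H)
  infer_instance

theorem Hyp.sq (h : Hyp φ 2) (x : V) : x * x = 1 := by rw [← pow_two, h.exp]

theorem Hyp.mul_fixed (h : Hyp φ 2) {s : H} (hs : s * s = 1) (x : V) :
    φ s (x * φ s x) = x * φ s x := by
  rw [map_mul, ← MulAut.mul_apply, ← map_mul, hs, map_one, MulAut.one_apply, mul_comm]

theorem Hyp.mul_ne_one (h : Hyp φ 2) {s : H} {x : V} (hs : φ s x ≠ x) : x * φ s x ≠ 1 := fun h0 =>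
  hs (mul_left_cancel (h0.trans (h.sq x).symm))

theorem Hyp.exists_fixed (h : Hyp φ 2) [Nontrivial V] {s : H} (hs : s * s = 1) :
    ∃ x : V, x ≠ 1 ∧ φ s x = x := by
  obtain ⟨x, hx⟩ := exists_ne (1 : V)
  by_cases hfx : φ s x = x
  · exact ⟨x, hx, hfx⟩
  · exact ⟨_, h.mul_ne_one hfx, h.mul_fixed hs x⟩

theorem Hyp.not_abelian [Finite H] [Finite V] [Nontrivial V] (h : Hyp φ 2) (M : Subgroup H)
    [hM : M.Normal] (hM1 : M ≠ ⊥)
    (hmin : ∀ K : Subgroup H, K.Normal → K ≠ ⊥ → K ≤ M → K = M) : ¬ IsMulCommutative M := by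
  intro hab
  have hcomm : ∀ a ∈ M, ∀ b ∈ M, a * b = b * a := fun a ha b hb =>
    congrArg Subtype.val (hab.is_comm.comm ⟨a, ha⟩ ⟨b, hb⟩)
  -- semiregular
  have hfree : ∀ x : V, x ≠ 1 → ∀ m ∈ M, φ m x = x → m = 1 := by
    intro x hx m hm hmx
    haveI : (M ⊓ stab φ x).Normal := by
      refine ⟨fun n hn g => ?_⟩
      obtain ⟨hnM, hns⟩ := Subgroup.mem_inf.mp hn
      obtain ⟨s, hs, k, hk, rfl⟩ := h.exists_mul M hM1 hx g
      have : s * k * n * (s * k)⁻¹ = s * n * s⁻¹ := by
        rw [mul_assoc s k n, hcomm k hk n hnM]; group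
      rw [this]
      exact Subgroup.mem_inf.mpr ⟨hM.conj_mem n hnM s, mul_mem (mul_mem hs hns) (inv_mem hs)⟩
    have := h.eq_bot_of_normal_fix (M ⊓ stab φ x) hx inf_le_right
    exact Subgroup.mem_bot.mp (this ▸ Subgroup.mem_inf.mpr ⟨hm, hmx⟩)
  obtain ⟨x₀, hx₀⟩ := exists_ne (1 : V)
  -- elementary abelian
  haveI : Nontrivial M := (Subgroup.nontrivial_iff_ne_bot M).mpr hM1
  obtain ⟨r, hr, hrd⟩ := Nat.exists_prime_and_dvd (Finite.one_lt_card (α := M)).ne'
  haveI : Fact r.Prime := ⟨hr⟩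
  let K : Subgroup H :=
    { carrier := {m | m ∈ M ∧ m ^ r = 1}
      one_mem' := ⟨one_mem M, one_pow r⟩
      mul_mem' := fun {a b} ha hb => ⟨mul_mem ha.1 hb.1, by
        rw [(show Commute a b from hcomm a ha.1 b hb.1).mul_pow, ha.2, hb.2, one_mul]⟩
      inv_mem' := fun {a} ha => ⟨inv_mem ha.1, by rw [inv_pow, ha.2, inv_one]⟩ }
  obtain ⟨a, ha⟩ := exists_prime_orderOf_dvd_card' r hrd
  have hKM : K = M := by
    refine hmin K ⟨fun n hn g => ⟨hM.conj_mem n hn.1 g, by rw [conj_pow, hn.2]; group⟩⟩ ?_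
      fun m hm => hm.1
    intro hK
    have ha' : (a : H) ^ r = 1 := by rw [← ha, ← Subgroup.orderOf_coe]; exact pow_orderOf_eq_one _
    have : (a : H) ∈ K := ⟨a.2, ha'⟩
    rw [hK, Subgroup.mem_bot] at this
    rw [← Subgroup.orderOf_coe, this, orderOf_one] at ha
    exact hr.one_lt.ne ha
  have hexp : ∀ m ∈ M, m ^ r = 1 := fun m hm => (show m ∈ K from hKM ▸ hm).2
  have hr2 : r ≠ 2 := by
    rintro rfl
    have ha1 : (a : H) ≠ 1 := fun h0 => by
      rw [← Subgroup.orderOf_coe, h0, orderOf_one] at ha; omega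
    obtain ⟨y, hy, hay⟩ := h.exists_fixed (s := (a : H)) (by rw [← pow_two]; exact hexp _ a.2)
    exact ha1 (hfree y hy _ a.2 hay)
  -- cyclic
  have hcyc : IsCyclic M := by
    obtain ⟨n, hn⟩ := (IsPGroup.iff_card (p := r) (G := M)).mp
      fun m => ⟨1, Subtype.ext (by simpa using hexp m m.2)⟩
    rcases n with _ | _ | n
    · exact absurd hn (by simpa using (Finite.one_lt_card (α := M)).ne')
    · exact isCyclic_of_prime_card (p := r) (by simpa using hn)
    · exfalso
      obtain ⟨C, hC⟩ := Sylow.exists_subgroup_card_pow_prime r (n := 2) (G := M)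
        (hn ▸ pow_dvd_pow r (by omega))
      have hCc : IsCyclic C := Frobenius.isCyclic_of_card_sq (φ := φ.comp (M.subtype.comp C.subtype))
        (fun c hc y hy => by_contra fun hy1 => hc (Subtype.ext (Subtype.ext
          (hfree y hy1 _ c.1.2 hy)))) r hC
      obtain ⟨c, hc⟩ := hCc.exists_generator
      have ho : orderOf c = r ^ 2 := (orderOf_eq_card_of_forall_mem_zpowers hc).trans hC
      have h1 : c ^ r = 1 := Subtype.ext (Subtype.ext (by simpa using hexp _ c.1.2))
      have := Nat.le_of_dvd hr.pos (ho ▸ orderOf_dvd_of_pow_eq_one h1)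
      nlinarith [hr.two_le]
  -- self-centralizing
  have hcent : ∀ g : H, (∀ m ∈ M, g * m = m * g) → g ∈ M := by
    intro g hg
    obtain ⟨s, hs, k, hk, rfl⟩ := h.exists_mul M hM1 hx₀ g
    have hs' : ∀ m ∈ M, s * m = m * s := fun m hm => by
      have := hg m hm
      rw [mul_assoc, hcomm k hk m hm, ← mul_assoc, ← mul_assoc] at this
      exact mul_right_cancel this
    suffices s = 1 by rw [this, one_mul]; exact hk
    let Cs : Subgroup H := stab φ x₀ ⊓ Subgroup.centralizer (M : Set H)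
    haveI : Cs.Normal := by
      refine ⟨fun n hn g' => ?_⟩
      obtain ⟨hns, hnc⟩ := Subgroup.mem_inf.mp hn
      obtain ⟨s', hs'', k', hk', rfl⟩ := h.exists_mul M hM1 hx₀ g'
      have he : s' * k' * n * (s' * k')⁻¹ = s' * n * s'⁻¹ := by
        rw [mul_assoc s' k' n, Subgroup.mem_centralizer_iff.mp hnc k' hk']; group
      rw [he]
      refine Subgroup.mem_inf.mpr ⟨mul_mem (mul_mem hs'' hns) (inv_mem hs''),
        Subgroup.mem_centralizer_iff.mpr fun m hm => ?_⟩
      have hmem : s'⁻¹ * m * s' ∈ M := by simpa using hM.conj_mem m hm s'⁻¹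
      calc m * (s' * n * s'⁻¹) = s' * ((s'⁻¹ * m * s') * n) * s'⁻¹ := by group
        _ = s' * n * s'⁻¹ * m := by rw [Subgroup.mem_centralizer_iff.mp hnc _ hmem]; group
    have := h.eq_bot_of_normal_fix Cs hx₀ inf_le_left
    exact Subgroup.mem_bot.mp (this ▸ Subgroup.mem_inf.mpr
      ⟨hs, Subgroup.mem_centralizer_iff.mpr fun m hm => (hs' m hm).symm⟩)
  refine h.insoluble ?_
  haveI : Group.IsSolvable (MulAut M) := by
    haveI := hcyc
    exact Group.isSolvable_of_isSolvable_injective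
      (f := (IsCyclic.mulAutMulEquiv M).symm.symm.toMonoidHom)
      (IsCyclic.mulAutMulEquiv M).symm.symm.injective
  refine Group.isSolvable_of_ker_le_range M.subtype (MulAut.conjNormal : H →* MulAut M) ?_
  intro g hg
  rw [Subgroup.range_subtype]
  refine hcent g fun m hm => ?_
  have := congrArg (fun e : MulAut M => ((e ⟨m, hm⟩ : M) : H)) (MonoidHom.mem_ker.mp hg)
  simp only [MulAut.conjNormal_apply, MulAut.one_apply] at this
  exact mul_inv_eq_iff_eq_mul.mp this

theorem cj_one (T : Subgroup H) : cj (1 : H) T = T := by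
  ext x; simp [mem_cj]

/-- Stabilizers of the vectors meet the simple factor, and no conjugate of it fixes a vector. -/
theorem Hyp.not_factor_le [Finite H] (h : Hyp φ p) (M T : Subgroup H) [hM : M.Normal] (hM1 : M ≠ ⊥)
    (hF : IsFactor M T) {x : V} (hx : x ≠ 1) (g : H) : ¬ cj g T ≤ stab φ x := by
  intro hle
  have hall : ∀ k : H, cj k T ≤ stab φ x := by
    intro k y hy
    obtain ⟨s, hs, m, hm, hsm⟩ := h.exists_mul M hM1 hx (k * g⁻¹)
    have hm' : g⁻¹ * m * g ∈ M := by simpa using hM.conj_mem m hm g⁻¹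
    have hk : cj k T = cj (s * g) T := by
      have : k = s * g * (g⁻¹ * m * g) := by
        calc k = k * g⁻¹ * g := by group
          _ = s * g * (g⁻¹ * m * g) := by rw [hsm]; group
      rw [this, cj_mul (s * g), le_cj_of_forall fun y hy => hF.normalized _ hm' y hy]
    rw [hk, cj_mul] at hy
    have h2 : s⁻¹ * y * s ∈ stab φ x := hle (mem_cj.mp hy)
    have h3 := mul_mem (mul_mem hs h2) (inv_mem hs)
    simpa [mul_assoc] using h3
  refine hM1 (h.eq_bot_of_normal_fix M hx fun m hm => ?_)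
  obtain ⟨t, ht, u, hu, rfl⟩ := hF.exists_mul m hm
  refine mul_mem (hall 1 ?_) ((iSup_le fun k => hall k.1 : others T ≤ stab φ x) hu)
  rw [cj_one]; exact ht

/-- Either the stabilizer meets `M` in a product, or in a full diagonal. -/
theorem Hyp.product_or_diagonal [Finite H] (h : Hyp φ p) (M T : Subgroup H) [hM : M.Normal]
    (hM1 : M ≠ ⊥) (hF : IsFactor M T) {x : V} (hx : x ≠ 1) :
    (∀ a ∈ T, ∀ b ∈ others T, φ (a * b) x = x → φ a x = x) ∨
      ((∀ a ∈ T, φ a x = x → a = 1) ∧ ∀ a ∈ T, ∃ b ∈ others T, φ (a * b) x = x) := by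
  classical
  set D := M ⊓ stab φ x with hD
  set U := D ⊔ others T with hU
  have hUM : U ≤ M := sup_le inf_le_left hF.others_le
  by_cases hUeq : U = M
  · right
    have hfull : ∀ a ∈ T, ∃ b ∈ others T, φ (a * b) x = x := by
      intro a ha
      have hnorm : D ≤ Subgroup.normalizer (others T : Set H) := fun d hd => by
        rw [Subgroup.mem_normalizer_iff]
        refine fun y => ⟨hF.others_normalized d hd.1 y, fun hy => ?_⟩
        simpa [mul_assoc] using hF.others_normalized d⁻¹ (inv_mem hd.1) _ hy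
      have haU : a ∈ U := hUeq ▸ hF.le ha
      rw [hU, ← SetLike.mem_coe, Subgroup.coe_mul_of_left_le_normalizer_right _ _ hnorm] at haU
      obtain ⟨d, hd, b, hb, rfl⟩ := haU
      refine ⟨b⁻¹, inv_mem hb, ?_⟩
      rw [mul_inv_cancel_right]
      exact (Subgroup.mem_inf.mp hd).2
    refine ⟨fun a ha hax => ?_, hfull⟩
    by_contra ha1
    have hle : T ⊓ stab φ x = T := by
      refine hF.minimal _ inf_le_left (fun h0 => ha1 ?_) ?_
      · exact Subgroup.mem_bot.mp (h0 ▸ Subgroup.mem_inf.mpr ⟨ha, hax⟩)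
      · intro n hn y hy
        obtain ⟨hyT, hys⟩ := Subgroup.mem_inf.mp hy
        refine Subgroup.mem_inf.mpr ⟨hF.normalized n hn y hyT, ?_⟩
        obtain ⟨s, hs, u, hu, rfl⟩ := hF.exists_mul n hn
        obtain ⟨b, hb, hsb⟩ := hfull s hs
        have e : s * u * y * (s * u)⁻¹ = (s * b) * y * (s * b)⁻¹ := by
          rw [mul_inv_rev, mul_inv_rev, mul_assoc s u y, ← hF.comm y hyT u hu, mul_assoc s b y,
            ← hF.comm y hyT b hb]
          group
        rw [e]
        exact mul_mem (mul_mem hsb hys) (inv_mem hsb)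
    refine h.not_factor_le M T hM1 hF hx 1 ?_
    rw [cj_one, ← hle]
    exact inf_le_right
  left
  let B : Subgroup H := M ⊓ ⨅ s : stab φ x, cj (s : H) U
  have hmemB : ∀ y, y ∈ B ↔ y ∈ M ∧ ∀ s ∈ stab φ x, s⁻¹ * y * s ∈ U := by
    intro y
    simp only [B, Subgroup.mem_inf, Subgroup.mem_iInf, mem_cj, Subtype.forall]
  have hB : B ≤ stab φ x := by
    refine h.le_stab_of_normalized M hx B inf_le_left (fun he => hUeq ?_) ?_ ?_
    · refine le_antisymm hUM fun m hm => ?_
      have := ((hmemB m).mp (he ▸ hm)).2 1 (one_mem _)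
      simpa using this
    · rintro d ⟨hdM, hds⟩
      refine (hmemB d).mpr ⟨hdM, fun s hs => Subgroup.mem_sup_left (Subgroup.mem_inf.mpr
        ⟨?_, mul_mem (mul_mem (inv_mem hs) hds) hs⟩)⟩
      simpa using hM.conj_mem d hdM s⁻¹
    · intro s hs y hy
      rw [hmemB] at hy ⊢
      refine ⟨hM.conj_mem y hy.1 s, fun s' hs' => ?_⟩
      have := hy.2 (s⁻¹ * s') (mul_mem (inv_mem hs) hs')
      simpa [mul_assoc] using this
  intro a ha b hb hab
  refine hB ((hmemB a).mpr ⟨hF.le ha, fun s hs => ?_⟩)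
  by_cases hsT : cj s⁻¹ T = T
  · have hb' : s⁻¹ * b * s ∈ others T := by
      have : others T ≤ (others T).comap (MulAut.conj s⁻¹).toMonoidHom := by
        refine iSup_le fun k y hy => ?_
        rw [Subgroup.mem_comap]
        refine cj_le_others (g := s⁻¹ * k.1) (fun he => k.2 ?_) ?_
        · rw [cj_mul] at he
          exact Subgroup.map_injective (MulAut.conj s⁻¹).injective (he.trans hsT.symm)
        · rw [cj_mul]; exact ⟨y, hy, rfl⟩
      simpa using this hb
    have hd : s⁻¹ * (a * b) * s ∈ D :=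
      Subgroup.mem_inf.mpr ⟨by simpa using hM.conj_mem _ (mul_mem (hF.le ha) (hF.others_le hb)) s⁻¹,
        mul_mem (mul_mem (inv_mem hs) hab) hs⟩
    have : s⁻¹ * a * s = s⁻¹ * (a * b) * s * (s⁻¹ * b * s)⁻¹ := by group
    rw [this]
    exact mul_mem (Subgroup.mem_sup_left hd) (Subgroup.mem_sup_right (inv_mem hb'))
  · exact Subgroup.mem_sup_right (cj_le_others hsT ⟨a, ha, by simp⟩)

theorem Hyp.factor_eq [Finite H] [Finite V] [Nontrivial V] (h : Hyp φ 2) (M T : Subgroup H)
    [hM : M.Normal] (hM1 : M ≠ ⊥) (hF : IsFactor M T) (heven : 2 ∣ Nat.card T) : T = M := by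
  classical
  by_contra hne
  haveI : Fact (Nat.Prime 2) := ⟨Nat.prime_two⟩
  haveI := hF.simple
  obtain ⟨g₂, hg₂⟩ := hF.exists_cj_ne hne
  obtain ⟨z, hz⟩ := exists_prime_orderOf_dvd_card' 2 heven
  -- a subgroup containing the involutions of a factor contains it
  have hgen : ∀ K : Subgroup H, (∀ t ∈ T, orderOf t = 2 → t ∈ K) → T ≤ K := by
    intro K hK
    rw [← Subgroup.subgroupOf_eq_top]
    by_contra hne'
    obtain ⟨t, ht, htK⟩ := ExtremelyInvolution.exists_involution_not_mem hne' hz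
    exact htK (hK t t.2 (by rw [Subgroup.orderOf_coe, ht]))
  -- the two involution trick
  have key : ∀ x : V, x ≠ 1 → ∀ t ∈ T, orderOf t = 2 → φ t x ≠ x →
      (∀ t' ∈ cj g₂ T, ∀ w : V, w = x * φ (t * t') x → w ≠ 1 →
        ∀ a ∈ T, ∀ b ∈ others T, φ (a * b) w = w → φ a w = w) → False := by
    intro x hx t ht hto htx hP
    set u := x * φ t x with hu
    refine h.not_factor_le M T hM1 hF (h.mul_ne_one htx) g₂ ?_
    have hTK : T ≤ cj g₂⁻¹ (stab φ u) := by
      refine hgen _ fun s hs hso => ?_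
      rw [mem_cj, inv_inv]
      set t' := g₂ * s * g₂⁻¹ with ht'
      have ht'T : t' ∈ cj g₂ T := ⟨s, hs, by simp [ht']⟩
      have ht'o : t' * t' = 1 := mul_self_of_orderOf_two (by rw [ht', orderOf_conj_eq, hso])
      have hc : t * t' = t' * t := hF.comm t ht t' (cj_le_others hg₂ ht'T)
      have hsq : t * t' * (t * t') = 1 := by
        rw [mul_assoc t t', ← mul_assoc t' t t', ← hc, mul_assoc t t' t', ht'o, mul_one,
          mul_self_of_orderOf_two hto]
      have hfix : φ t x * φ t' x = x * φ (t * t') x := by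
        by_cases hw : x * φ (t * t') x = 1
        · have h1 : φ (t * t') x = x := mul_left_cancel (hw.trans (h.sq x).symm)
          have h2 : φ t' x = φ t x := by
            calc φ t' x = φ t (φ (t * t') x) := by
                  rw [← MulAut.mul_apply, ← map_mul, ← mul_assoc, mul_self_of_orderOf_two hto,
                    one_mul]
              _ = φ t x := by rw [h1]
          rw [h1, h2, h.sq, h.sq]
        · have h1 := hP t' ht'T _ rfl hw t ht t' (cj_le_others hg₂ ht'T) (h.mul_fixed hsq x)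
          rw [map_mul (φ t), ← MulAut.mul_apply, ← map_mul φ, ← mul_assoc,
            mul_self_of_orderOf_two hto, one_mul] at h1
          exact h1
      show φ t' u = u
      rw [hu, map_mul (φ t'), ← MulAut.mul_apply, ← map_mul φ, ← hc]
      -- `b * d = a * c` from `c * b = a * d` in exponent two
      have e1 : φ t' x * φ (t * t') x * (x * φ t x) = (φ t x * φ t' x) * (x * φ (t * t') x) := by
        ac_rfl
      have e2 : φ t' x * φ (t * t') x * (x * φ t x) = 1 := by rw [e1, hfix, h.sq]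
      exact mul_right_cancel (e2.trans (h.sq (x * φ t x)).symm)
    intro y hy
    have h2 := mem_cj.mp (hTK (mem_cj.mp hy))
    simpa [mul_assoc] using h2
  by_cases hall : ∀ w : V, w ≠ 1 → ∀ a ∈ T, ∀ b ∈ others T, φ (a * b) w = w → φ a w = w
  · obtain ⟨x, hx⟩ := exists_ne (1 : V)
    obtain ⟨t, ht, hto, htx⟩ : ∃ t ∈ T, orderOf t = 2 ∧ φ t x ≠ x := by
      by_contra hc
      push Not at hc
      refine h.not_factor_le M T hM1 hF hx 1 ?_
      rw [cj_one]
      exact hgen _ hc
    exact key x hx t ht hto htx fun t' _ w _ hw => hall w hw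
  push Not at hall
  obtain ⟨w₀, hw₀, a₀, ha₀, b₀, hb₀, hab₀, ha₀w⟩ := hall
  obtain ⟨hfree, hfull⟩ := (h.product_or_diagonal M T hM1 hF hw₀).resolve_left
    fun h0 => ha₀w (h0 a₀ ha₀ b₀ hb₀ hab₀)
  have hzo : orderOf (z : H) = 2 := by rw [Subgroup.orderOf_coe, hz]
  have hzw : φ (z : H) w₀ ≠ w₀ := fun h0 => ne_one_of_orderOf_two hzo (hfree _ z.2 h0)
  set x := w₀ * φ (z : H) w₀ with hx
  have hx1 : x ≠ 1 := h.mul_ne_one hzw
  have hzx : φ (z : H) x = x := h.mul_fixed (mul_self_of_orderOf_two hzo) w₀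
  have hP : ∀ a ∈ T, ∀ b ∈ others T, φ (a * b) x = x → φ a x = x :=
    (h.product_or_diagonal M T hM1 hF hx1).resolve_right
      fun h0 => ne_one_of_orderOf_two hzo (h0.1 _ z.2 hzx)
  set A : Subgroup T := (stab φ x).subgroupOf T with hA
  have hAne : A ≠ ⊤ := by
    intro he
    refine h.not_factor_le M T hM1 hF hx1 1 ?_
    rw [cj_one]
    exact Subgroup.subgroupOf_eq_top.mp he
  have hC : ∀ g : T, Commute g z → g ∈ A := by
    intro g hg
    obtain ⟨b, hb, hgb⟩ := hfull g g.2
    have hg' : (g : H) * z = z * g := congrArg Subtype.val hg.eq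
    have hcz : (g : H) * b * z = z * ((g : H) * b) := by
      rw [mul_assoc, ← hF.comm _ z.2 b hb, ← mul_assoc, hg', mul_assoc]
    refine Subgroup.mem_subgroupOf.mpr (hP g g.2 b hb ?_)
    rw [hx, map_mul (φ ((g : H) * b)), hgb, ← MulAut.mul_apply, ← map_mul φ, hcz, map_mul φ,
      MulAut.mul_apply, hgb]
  have hN : ∀ g : T, (∀ y ∈ A, orderOf y = 2 → g * y * g⁻¹ ∈ A) → g ∈ A := by
    intro g hg
    set D := M ⊓ stab φ x with hD
    let S : Set H := {d | d ∈ D ∧ orderOf d = 2}
    let K : Subgroup H := M ⊓ Subgroup.normalizer S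
    have hnormS : ∀ c : H, (∀ d ∈ S, c * d * c⁻¹ ∈ S) → c ∈ Subgroup.normalizer S := by
      intro c hc
      rw [Subgroup.mem_set_normalizer_iff]
      refine fun d => ⟨hc d, fun hd => ?_⟩
      have heq : (fun y => c * y * c⁻¹) '' S = S := by
        refine Set.eq_of_subset_of_ncard_le ?_ ?_ (Set.toFinite _)
        · rintro _ ⟨y, hy, rfl⟩; exact hc y hy
        · rw [Set.ncard_image_of_injective _ (fun y y' hyy => by simpa using hyy)]
      obtain ⟨y, hy, hye⟩ : c * d * c⁻¹ ∈ (fun y => c * y * c⁻¹) '' S := heq.symm ▸ hd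
      have : y = d := by simpa using hye
      exact this ▸ hy
    have hzS : (z : H) ∈ S := ⟨Subgroup.mem_inf.mpr ⟨hF.le z.2, hzx⟩, hzo⟩
    have hstab : ∀ s ∈ stab φ x, s ∈ Subgroup.normalizer S := fun s hs => hnormS s fun d hd =>
      ⟨Subgroup.mem_inf.mpr ⟨hM.conj_mem d hd.1.1 s, mul_mem (mul_mem hs hd.1.2) (inv_mem hs)⟩,
        by rw [orderOf_conj_eq, hd.2]⟩
    have hK : K ≤ stab φ x := by
      refine h.le_stab_of_normalized M hx1 K inf_le_left (fun he => ?_) ?_ ?_
      · have hMn : M ≤ Subgroup.normalizer S := he ▸ inf_le_right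
        haveI : (Subgroup.closure S).Normal := by
          refine ⟨fun n hn c => ?_⟩
          have hc : c ∈ Subgroup.normalizer S := by
            obtain ⟨s, hs, k, hk, rfl⟩ := h.exists_mul M hM1 hx1 c
            exact mul_mem (hstab s hs) (hMn hk)
          have hle : Subgroup.closure S ≤
              (Subgroup.closure S).comap (MulAut.conj c).toMonoidHom := by
            rw [Subgroup.closure_le]
            intro d hd
            exact Subgroup.subset_closure ((Subgroup.mem_set_normalizer_iff.mp hc d).mp hd)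
          simpa using hle hn
        have hb := h.eq_bot_of_normal_fix (Subgroup.closure S) hx1
          ((Subgroup.closure_le _).mpr fun d hd => hd.1.2)
        have := Subgroup.subset_closure (k := S) hzS
        rw [hb, SetLike.mem_coe, Subgroup.mem_bot] at this
        exact ne_one_of_orderOf_two hzo this
      · rintro d ⟨hdM, hds⟩
        exact Subgroup.mem_inf.mpr ⟨hdM, hstab d hds⟩
      · intro s hs k hk
        exact Subgroup.mem_inf.mpr ⟨hM.conj_mem k hk.1 s,
          mul_mem (mul_mem (hstab s hs) hk.2) (inv_mem (hstab s hs))⟩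
    refine Subgroup.mem_subgroupOf.mpr (hK (Subgroup.mem_inf.mpr ⟨hF.le g.2, hnormS _ ?_⟩))
    rintro d ⟨⟨hdM, hds⟩, hdo⟩
    refine ⟨Subgroup.mem_inf.mpr ⟨hM.conj_mem d hdM g, ?_⟩, by rw [orderOf_conj_eq, hdo]⟩
    obtain ⟨a, ha, b, hb, rfl⟩ := hF.exists_mul d hdM
    have hax : φ a x = x := hP a ha b hb hds
    have hbx : b ∈ stab φ x := by
      have := mul_mem (inv_mem (show a ∈ stab φ x from hax)) hds
      rwa [inv_mul_cancel_left] at this
    have e : (g : H) * (a * b) * (g : H)⁻¹ = ((g : H) * a * (g : H)⁻¹) * b := by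
      rw [mul_assoc (g : H) (a * b), mul_assoc a b, ← hF.comm _ (inv_mem g.2) b hb]
      group
    rw [e]
    refine mul_mem ?_ hbx
    by_cases ha1 : a = 1
    · simp [ha1]
    have ha2 : orderOf a = 2 := by
      refine orderOf_two_of_mul_self ?_ ha1
      have h2 := mul_self_of_orderOf_two hdo
      have h3 : a * a * (b * b) = 1 * 1 := by
        rw [one_mul, ← h2, mul_assoc a b, ← mul_assoc b a b, ← hF.comm a ha b hb]
        group
      exact (hF.mul_inj (mul_mem ha ha) (one_mem T) (mul_mem hb hb) (one_mem _) h3).1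
    have := hg ⟨a, ha⟩ (Subgroup.mem_subgroupOf.mpr hax) (by rw [← Subgroup.orderOf_coe]; exact ha2)
    exact Subgroup.mem_subgroupOf.mp this
  obtain ⟨t, hto, htA, a, haA, ha1, htat⟩ :=
    ExtremelyInvolution.exists_meeting_conjugate hF.noncomm hAne hz hC hN
  refine key x hx1 t t.2 (by rw [Subgroup.orderOf_coe, hto])
    (fun h0 => htA (Subgroup.mem_subgroupOf.mpr h0)) fun t' ht' w hwe hw1 => ?_
  refine (h.product_or_diagonal M T hM1 hF hw1).resolve_right fun h0 => ha1 (Subtype.ext ?_)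
  refine h0.1 a a.2 ?_
  have hta : (a : H) * ((t : H) * t') = (t : H) * t' * ((t : H) * a * t) := by
    have h1 : (t : H) * t = 1 := congrArg Subtype.val (mul_self_of_orderOf_two hto)
    have h2 : t' * ((t : H) * a * t) = (t : H) * a * t * t' :=
      (hF.comm _ (mul_mem (mul_mem t.2 a.2) t.2) t' (cj_le_others hg₂ ht')).symm
    calc (a : H) * ((t : H) * t') = ((t : H) * t) * a * t * t' := by rw [h1]; group
      _ = (t : H) * t' * ((t : H) * a * t) := by rw [mul_assoc (t : H) t', h2]; group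
  have hax : φ (a : H) x = x := Subgroup.mem_subgroupOf.mp haA
  have htax : φ ((t : H) * a * t) x = x := by
    have := Subgroup.mem_subgroupOf.mp htat
    exact this
  rw [hwe, map_mul (φ (a : H)), hax, ← MulAut.mul_apply, ← map_mul φ, hta, map_mul φ,
    MulAut.mul_apply, htax]

/-- **Main result.** -/
theorem Hyp.conclusion [Finite H] [Finite V] [Nontrivial V] (h : Hyp φ p)
    (hFT : ∀ (K : Type u) [Group K] [Finite K], Odd (Nat.card K) → Group.IsSolvable K) :
    p = 2 ∧ ∃ T : Subgroup H, T.Normal ∧ IsSimpleGroup T ∧ ¬ IsMulCommutative T ∧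
      Subgroup.centralizer (T : Set H) = ⊥ := by
  have heven : 2 ∣ Nat.card H := by
    rw [← even_iff_two_dvd, ← Nat.not_odd_iff_even]
    exact fun ho => h.insoluble (hFT H ho)
  obtain rfl : p = 2 := h.two_eq heven
  refine ⟨rfl, ?_⟩
  haveI : Nontrivial H := by
    by_contra hn
    rw [not_nontrivial_iff_subsingleton] at hn
    exact h.insoluble inferInstance
  obtain ⟨M, hM, hM1, hmin⟩ := H69.exists_minimal_normal (G := H)
  have hmin' : ∀ K : Subgroup H, K.Normal → K ≤ M → K = ⊥ ∨ K = M := fun K hK hle => by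
    by_cases h0 : K = ⊥
    · exact Or.inl h0
    · exact Or.inr (hmin K hK h0 hle)
  haveI := hM
  have hnc := h.not_abelian M hM1 hmin
  obtain ⟨T, hF⟩ := exists_factor M hM1 hmin' hnc
  haveI := hF.simple
  have hevT : 2 ∣ Nat.card T := by
    rw [← even_iff_two_dvd, ← Nat.not_odd_iff_even]
    intro ho
    exact hF.noncomm ⟨⟨(IsSimpleGroup.comm_iff_isSolvable (G := T)).mpr (hFT T ho)⟩⟩
  obtain rfl : T = M := h.factor_eq M T hM1 hF hevT
  refine ⟨T, hM, hF.simple, hF.noncomm, ?_⟩
  by_contra hC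
  haveI : Fact (Nat.Prime 2) := ⟨Nat.prime_two⟩
  obtain ⟨s, hs⟩ := exists_prime_orderOf_dvd_card' 2 hevT
  have hso : orderOf (s : H) = 2 := by rw [Subgroup.orderOf_coe, hs]
  obtain ⟨x, hx, hsx⟩ := h.exists_fixed (mul_self_of_orderOf_two hso)
  refine ne_one_of_orderOf_two hso (h.faith ?_)
  -- `s` fixes the orbit of `x`, which generates
  let W : Subgroup V :=
    { carrier := {w | ∀ g : H, φ (s : H) (φ g w) = φ g w}
      one_mem' := fun g => by rw [map_one, map_one]
      mul_mem' := fun ha hb g => by rw [map_mul, map_mul, ha g, hb g]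
      inv_mem' := fun ha g => by rw [map_inv, map_inv, ha g] }
  have hxW : x ∈ W := by
    intro g
    have hg : g ∈ Subgroup.centralizer (T : Set H) ⊔ stab φ x := by
      rw [sup_comm, h.sup_stab _ hC hx]; exact Subgroup.mem_top g
    rw [← SetLike.mem_coe, Subgroup.coe_mul_of_right_le_normalizer_left _ _
      (by rw [Subgroup.normalizer_eq_top]; exact le_top)] at hg
    obtain ⟨c, hc, r, hr, rfl⟩ := hg
    have hcs : (s : H) * c = c * s := Subgroup.mem_centralizer_iff.mp hc s s.2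
    rw [map_mul φ c r, MulAut.mul_apply, (show φ r x = x from hr), ← MulAut.mul_apply, ← map_mul φ, hcs,
      map_mul φ, MulAut.mul_apply, hsx]
  rcases h.irr W (fun g w hw g' => by
      have := hw (g' * g)
      rwa [map_mul φ g' g, MulAut.mul_apply] at this) with h0 | h0
  · rw [h0, Subgroup.mem_bot] at hxW
    exact absurd hxW hx
  · ext w
    rw [map_one φ]
    have := (show w ∈ W from h0 ▸ Subgroup.mem_top w) 1
    simpa using this

end Cfsg.Agent.H72.ExtremelyAffine
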