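import Cfsg.Agent.H72.ExtremelyAffine
import Cfsg.Agent.H68.ExtremelyPrimitive

/-!
An insoluble affine extremely primitive group has characteristic two and an almost simple point
stabilizer, given that groups of odd order are soluble.
-/

set_option autoImplicit false

namespace Cfsg.Agent.H72.ExtremelyAffine

open MulAction

universe u

theorem affine_extremely_primitive {G : Type u} [Group G] [Finite G] {Ω : Type*} [Fintype Ω]
    [MulAction G Ω] [FaithfulSMul G Ω] (p d : ℕ) (hp : p.Prime) (hcard : Fintype.card Ω = p ^ d)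
    (hsol : ¬ Group.IsSolvable G) (N : Subgroup G) [hN' : N.Normal] (hN : N ≠ ⊥)
    (hNc : IsMulCommutative N) (hNreg : ∀ ω : Ω, stabilizer N ω = ⊥)
    (hprim : IsPreprimitive G Ω) (hH : ∀ α : Ω, stabilizer G α ≠ ⊥)
    (hep : ∀ (α : Ω) (ω : Ω), IsPreprimitive (stabilizer G α) (orbit (stabilizer G α) ω))
    (hFT : ∀ (K : Type u) [Group K] [Finite K], Odd (Nat.card K) → Group.IsSolvable K) (α : Ω) :
    p = 2 ∧ ∃ T : Subgroup (stabilizer G α), T.Normal ∧ IsSimpleGroup T ∧ ¬ IsMulCommutative T ∧
      Subgroup.centralizer (T : Set (stabilizer G α)) = ⊥ := by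
  letI : CommGroup N := { (inferInstance : Group N) with mul_comm := hNc.is_comm.comm }
  haveI : Nontrivial N := (Subgroup.nontrivial_iff_ne_bot N).mpr hN
  have hNt : IsPretransitive N Ω := Perm.transitive_of_normal hN
  have hfree := Perm.free_iff.mp hNreg
  let φ : stabilizer G α →* MulAut N :=
    (MulAut.conjNormal : G →* MulAut N).comp (stabilizer G α).subtype
  have hφ : ∀ (h : stabilizer G α) (n : N),
      ((φ h n : N) : G) = (h : G) * n * (h : G)⁻¹ := fun h n => rfl
  have hact : ∀ (h : stabilizer G α) (n : N), φ h n = n ↔ (h : G) • (n : G) • α = (n : G) • α := by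
    intro h n
    rw [Perm.smul_conj_smul h.2, ← hφ]
    exact ⟨fun e => by rw [e], fun e => Subtype.ext
      (Perm.eq_of_smul_eq_of_free hNreg (φ h n).2 n.2 α e)⟩
  have hcardN : Nat.card N = p ^ d := by
    rw [Perm.card_eq_of_regular hNt hNreg α, Nat.card_eq_fintype_card, hcard]
  have hirr : ∀ W : Subgroup N, (∀ h, ∀ w ∈ W, φ h w ∈ W) → W = ⊥ ∨ W = ⊤ := by
    intro W hW
    by_cases h0 : W = ⊥
    · exact Or.inl h0
    right
    haveI : (W.map N.subtype).Normal := by
      refine ⟨fun w hw g => ?_⟩
      obtain ⟨w, hw, rfl⟩ := hw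
      obtain ⟨n, hn, s, hs, rfl⟩ := Perm.exists_mul_stabilizer hNt α g
      refine ⟨φ ⟨s, hs⟩ w, hW _ w hw, ?_⟩
      have hc : n * ((φ ⟨s, hs⟩ w : N) : G) = ((φ ⟨s, hs⟩ w : N) : G) * n :=
        congrArg Subtype.val (hNc.is_comm.comm ⟨n, hn⟩ (φ ⟨s, hs⟩ w))
      simp only [Subgroup.coe_subtype]
      calc ((φ ⟨s, hs⟩ w : N) : G) = ((φ ⟨s, hs⟩ w : N) : G) * n * n⁻¹ := by group
        _ = n * s * w * (n * s)⁻¹ := by rw [← hc, hφ]; group
    have ht : IsPretransitive (W.map N.subtype) Ω := Perm.transitive_of_normal (by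
      rwa [Ne, Subgroup.map_eq_bot_iff_of_injective _ N.subtype_injective])
    rw [eq_top_iff]
    intro n _
    obtain ⟨w, ⟨w', hw', rfl⟩, he⟩ := Perm.exists_mem_smul_eq ht α ((n : G) • α)
    rw [show n = w' from Subtype.ext (Perm.eq_of_smul_eq_of_free hNreg w'.2 n.2 α he).symm]
    exact hw'
  have hns : ¬ Group.IsSolvable (stabilizer G α) := by
    intro hs
    refine hsol ?_
    haveI : Group.IsSolvable N := inferInstance
    haveI : Group.IsSolvable (G ⧸ N) :=
      Group.isSolvable_of_surjective (f := (QuotientGroup.mk' N).comp (stabilizer G α).subtype)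
        (by
          intro q
          obtain ⟨g, rfl⟩ := QuotientGroup.mk'_surjective N q
          obtain ⟨n, hn, s, hs', rfl⟩ := Perm.exists_mul_stabilizer hNt α g
          refine ⟨⟨s, hs'⟩, ?_⟩
          simp [QuotientGroup.mk'_apply, (QuotientGroup.eq_one_iff n).mpr hn])
    exact Group.isSolvable_of_ker_le_range N.subtype (QuotientGroup.mk' N)
      (by rw [QuotientGroup.ker_mk', Subgroup.range_subtype])
  have hhyp : Hyp φ p :=
    { prime := hp
      exp := by
        let K : Subgroup N := (powMonoidHom p : N →* N).ker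
        rcases hirr K (fun h w hw => by
            simp only [K, MonoidHom.mem_ker, powMonoidHom_apply] at hw ⊢
            rw [← map_pow, hw, map_one]) with h0 | h0
        · exfalso
          haveI : Fact p.Prime := ⟨hp⟩
          have hd : d ≠ 0 := fun hd => by
            have := Finite.one_lt_card (α := N)
            rw [hcardN, hd] at this
            simp at this
          obtain ⟨x, hx⟩ := exists_prime_orderOf_dvd_card' p (hcardN ▸ dvd_pow_self p hd)
          have : x ∈ K := by
            simp only [K, MonoidHom.mem_ker, powMonoidHom_apply]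
            rw [← hx]; exact pow_orderOf_eq_one x
          rw [h0, Subgroup.mem_bot] at this
          rw [this, orderOf_one] at hx
          exact hp.one_lt.ne hx
        · intro x
          exact (show x ∈ K from h0 ▸ Subgroup.mem_top x)
      irr := hirr
      faith := by
        rw [← MonoidHom.ker_eq_bot_iff, Subgroup.eq_bot_iff_forall]
        intro h hh
        apply Subtype.ext
        refine eq_of_smul_eq_smul fun ω : Ω => ?_
        obtain ⟨n, hn, rfl⟩ := Perm.exists_mem_smul_eq hNt α ω
        rw [Subgroup.coe_one, one_smul]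
        exact (hact h ⟨n, hn⟩).mp (by rw [MonoidHom.mem_ker.mp hh]; rfl)
      maxl := by
        intro n hn
        have hne : (n : G) • α ≠ α := fun e => hn (Subtype.ext (hfree n n.2 α e))
        have := H68.stabilizer_isCoatom_of_suborbit hprim (hH α) (hep α _) hne
        convert this using 1
        ext h
        exact hact h n
      insoluble := hns }
  exact hhyp.conclusion hFT

end Cfsg.Agent.H72.ExtremelyAffine
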