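import Cfsg.Agent.H26.Invol
import Cfsg.Agent.H61.ZStarInst

/-!
A finite simple non-abelian group has, for every proper subgroup `A` containing the centralizer of an
involution and equal to the normalizer of its set of involutions, an involution `t` outside `A` with
`A ⊓ A ^ t` non-trivial.
-/

set_option autoImplicit false

namespace Cfsg.Agent.H72.ExtremelyInvolution

open Cfsg.Agent.H26

universe u

variable {T : Type u} [Group T] [Finite T]

omit [Finite T] in
theorem exists_involution_not_mem [IsSimpleGroup T] {A : Subgroup T} (hA : A ≠ ⊤) {z : T}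
    (hz : orderOf z = 2) : ∃ t : T, orderOf t = 2 ∧ t ∉ A := by
  by_contra hc
  push Not at hc
  have hne : Subgroup.normalClosure ({z} : Set T) ≠ ⊥ := fun h => ne_one_of_orderOf_two hz
    (Subgroup.mem_bot.mp (h ▸ Subgroup.subset_normalClosure (Set.mem_singleton z)))
  have htop := (Subgroup.normalClosure_normal (s := ({z} : Set T))).eq_bot_or_eq_top.resolve_left hne
  refine hA (eq_top_iff.mpr ?_)
  rw [← htop, Subgroup.normalClosure, Subgroup.closure_le]
  intro y hy
  obtain ⟨a, ha, hay⟩ := Group.mem_conjugatesOfSet_iff.mp hy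
  rw [Set.mem_singleton_iff] at ha
  subst ha
  refine hc y ?_
  rw [← hz]; exact (isConj_orderOf hay).symm

/-- A non-abelian simple group has no involution commuting with no other involution. -/
theorem exists_commuting_involution [IsSimpleGroup T] (hnc : ¬ IsMulCommutative T) {z : T}
    (hz : orderOf z = 2) : ∃ y : T, orderOf y = 2 ∧ Commute y z ∧ y ≠ z := by
  haveI : Fact (Nat.Prime 2) := ⟨Nat.prime_two⟩
  by_contra hc
  push Not at hc
  obtain ⟨S, hS⟩ := ((IsPGroup.of_card (n := 1) (by rw [Nat.card_zpowers, hz]; rfl)) :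
    IsPGroup 2 (Subgroup.zpowers z)).exists_le_sylow
  have hzS : z ∈ S := hS (Subgroup.mem_zpowers z)
  haveI : Nontrivial (S : Subgroup T) :=
    ⟨⟨⟨z, hzS⟩, 1, fun h => ne_one_of_orderOf_two hz (congrArg Subtype.val h)⟩⟩
  have hZ : 2 ∣ Nat.card (Subgroup.center (S : Subgroup T)) :=
    ((S.isPGroup'.to_subgroup (Subgroup.center (S : Subgroup T))).card_eq_or_dvd).resolve_left
      (fun h1 => not_subsingleton_iff_nontrivial.mpr S.isPGroup'.center_nontrivial
        (Nat.card_eq_one_iff_unique.mp h1).1)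
  obtain ⟨c, hcord⟩ := exists_prime_orderOf_dvd_card' 2 hZ
  have hco : orderOf ((c : (S : Subgroup T)) : T) = 2 := by
    rw [Subgroup.orderOf_coe, Subgroup.orderOf_coe, hcord]
  have hcomm : ∀ y ∈ (S : Subgroup T), Commute y ((c : (S : Subgroup T)) : T) := fun y hy =>
    congrArg Subtype.val (Subgroup.mem_center_iff.mp c.2 ⟨y, hy⟩)
  have hcz : ((c : (S : Subgroup T)) : T) = z := hc _ hco (hcomm z hzS).symm
  have hiso : ∀ g : T, g * z * g⁻¹ ∈ S → g * z * g⁻¹ = z := fun g hg =>
    hc _ (by rw [orderOf_conj_eq, hz]) (by have := hcomm _ hg; rwa [hcz] at this)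
  obtain ⟨N, hN, hodd, hcen⟩ := Cfsg.Agent.H61.zStarTheorem S z hz hzS hiso
  rcases hN.eq_bot_or_eq_top with h | h
  · have hzc : z ∈ Subgroup.center T := by
      rw [Subgroup.mem_center_iff]
      intro g
      have := hcen g
      rw [h, Subgroup.mem_bot] at this
      exact (mul_inv_eq_iff_eq_mul.mp (mul_inv_eq_one.mp this)).symm
    rcases (Subgroup.center T).normal_of_characteristic.eq_bot_or_eq_top with hb | hb
    · rw [hb, Subgroup.mem_bot] at hzc
      exact ne_one_of_orderOf_two hz hzc
    · exact hnc ⟨⟨fun x y => Subgroup.mem_center_iff.mp (hb ▸ Subgroup.mem_top y) x⟩⟩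
  · rw [h, Subgroup.card_top] at hodd
    have h2 : 2 ∣ Nat.card T := hz ▸ orderOf_dvd_natCard z
    exact Nat.not_even_iff_odd.mpr hodd (even_iff_two_dvd.mpr h2)

theorem exists_meeting_conjugate [IsSimpleGroup T] (hnc : ¬ IsMulCommutative T) {A : Subgroup T}
    (hA : A ≠ ⊤) {z : T} (hz : orderOf z = 2)
    (hC : ∀ g : T, Commute g z → g ∈ A)
    (hN : ∀ g : T, (∀ x ∈ A, orderOf x = 2 → g * x * g⁻¹ ∈ A) → g ∈ A) :
    ∃ t : T, orderOf t = 2 ∧ t ∉ A ∧ ∃ a ∈ A, a ≠ 1 ∧ t * a * t ∈ A := by
  classical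
  by_contra hc
  have hno : ∀ t : T, orderOf t = 2 → t ∉ A → ∀ a ∈ A, t * a * t ∈ A → a = 1 := fun t h1 h2 a ha h3 =>
    by_contra fun hne => hc ⟨t, h1, h2, a, ha, hne, h3⟩
  have hclosed : ∀ x ∈ A, orderOf x = 2 → ∀ y : T, orderOf y = 2 → Commute y x → y ∈ A := by
    intro x hx hxo y hy hyx
    by_contra hyA
    refine ne_one_of_orderOf_two hxo (hno y hy hyA x hx ?_)
    rw [hyx.eq, mul_assoc, mul_self_of_orderOf_two hy, mul_one]
    exact hx
  have hzA : z ∈ A := hC z (Commute.refl z)
  have hconj : ∀ x ∈ A, orderOf x = 2 → ∀ y : T, orderOf y = 2 → y ∉ A → IsConj x y := by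
    intro x hx hxo y hy hyA
    by_contra hne
    have hev := even_orderOf_of_not_isConj (mul_self_of_orderOf_two hxo)
      (mul_self_of_orderOf_two hy) hne
    obtain ⟨hwo, hwx, hwy⟩ :=
      central_involution (mul_self_of_orderOf_two hxo) (mul_self_of_orderOf_two hy) hev
    exact hyA (hclosed _ (hclosed x hx hxo _ hwo hwx) hwo y hy hwy.symm)
  obtain ⟨t₀, ht₀, ht₀A⟩ := exists_involution_not_mem hA hz
  have hzconj : ∀ y : T, orderOf y = 2 → IsConj z y := by
    intro y hy
    by_cases hyA : y ∈ A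
    · exact (hconj z hzA hz t₀ ht₀ ht₀A).trans (hconj y hyA hy t₀ ht₀ ht₀A).symm
    · exact hconj z hzA hz y hy hyA
  -- counting: the centralizer of `z` is all of `A`
  have hAC : ∀ a ∈ A, Commute a z := by
    set C : Subgroup T := Subgroup.centralizer ({z} : Set T) with hCdef
    have hCA : C ≤ A := fun g hg => hC g (Subgroup.mem_centralizer_singleton_iff.mp hg)
    have hinvset : conjugatesOf z = {y : T | orderOf y = 2} := by
      ext y
      exact ⟨fun h => by rw [Set.mem_ofPred_eq, ← hz]; exact (isConj_orderOf h).symm, hzconj y⟩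
    -- outside involutions give distinct non-trivial cosets
    let f : {y : T // orderOf y = 2 ∧ y ∉ A} → {q : T ⧸ A // q ≠ ((1 : T) : T ⧸ A)} := fun y =>
      ⟨(y : T), fun h => y.2.2 (by simpa using QuotientGroup.eq.mp h.symm)⟩
    have hf : Function.Injective f := by
      intro y y' h
      have h1 : ((y : T) : T ⧸ A) = (y' : T) := congrArg Subtype.val h
      rw [QuotientGroup.eq, inv_eq_self_of_orderOf_two y.2.1] at h1
      have h2 : (y : T) * ((y : T) * y') * y ∈ A := by
        have : (y : T) * ((y : T) * y') * y = ((y : T) * y')⁻¹ := by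
          rw [mul_inv_rev, inv_eq_self_of_orderOf_two y.2.1, inv_eq_self_of_orderOf_two y'.2.1,
            ← mul_assoc, mul_self_of_orderOf_two y.2.1, one_mul]
        rw [this]; exact inv_mem h1
      have h3 := hno _ y.2.1 y.2.2 _ h1 h2
      apply Subtype.ext
      refine inv_mul_eq_one.mp ?_
      rwa [inv_eq_self_of_orderOf_two y.2.1]
    have hle1 : Nat.card {y : T // orderOf y = 2 ∧ y ∉ A} + 1 ≤ A.index := by
      have := Nat.card_le_card_of_injective f hf
      have h2 : Nat.card {q : T ⧸ A // q ≠ ((1 : T) : T ⧸ A)} + 1 = A.index := by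
        haveI : Fintype (T ⧸ A) := Fintype.ofFinite _
        rw [Nat.card_eq_fintype_card, Fintype.card_subtype_compl,
          Subgroup.index_eq_card, Nat.card_eq_fintype_card, Fintype.card_subtype_eq]
        have : 0 < Fintype.card (T ⧸ A) := Fintype.card_pos
        omega
      omega
    have hm : Nat.card {y : T // orderOf y = 2 ∧ y ∈ A} < Nat.card A := by
      haveI : Fintype {y : T // orderOf y = 2 ∧ y ∈ A} := Fintype.ofFinite _
      haveI : Fintype A := Fintype.ofFinite _
      rw [Nat.card_eq_fintype_card, Nat.card_eq_fintype_card]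
      refine Fintype.card_lt_of_injective_of_notMem (fun y => (⟨y.1, y.2.2⟩ : A))
        (fun y y' h => Subtype.ext (congrArg (fun a : A => (a : T)) h)) (b := 1) ?_
      rintro ⟨y, hy⟩
      exact ne_one_of_orderOf_two y.2.1 (congrArg (fun a : A => (a : T)) hy)
    have hsplit : Nat.card {y : T // orderOf y = 2} =
        Nat.card {y : T // orderOf y = 2 ∧ y ∈ A} + Nat.card {y : T // orderOf y = 2 ∧ y ∉ A} := by
      rw [← Nat.card_sum]
      exact Nat.card_congr
        { toFun := fun y => if h : (y : T) ∈ A then Sum.inl ⟨y, y.2, h⟩ else Sum.inr ⟨y, y.2, h⟩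
          invFun := Sum.elim (fun y => ⟨y, y.2.1⟩) (fun y => ⟨y, y.2.1⟩)
          left_inv := fun y => by by_cases h : (y : T) ∈ A <;> simp [h]
          right_inv := by rintro (y | y) <;> simp [y.2.2] }
    have hprod : Nat.card A * Nat.card A ≤ Nat.card T := by
      rw [← Nat.card_prod]
      refine Nat.card_le_card_of_injective (fun p : A × A => (p.1 : T) * t₀ * p.2) ?_
      rintro ⟨a, b⟩ ⟨a', b'⟩ h
      simp only at h
      have h1 : t₀ * ((a' : T)⁻¹ * a) * t₀ = (b' : T) * (b : T)⁻¹ := by
        calc t₀ * ((a' : T)⁻¹ * a) * t₀ = t₀ * (a' : T)⁻¹ * ((a : T) * t₀ * b) * (b : T)⁻¹ := by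
              group
          _ = t₀ * (a' : T)⁻¹ * ((a' : T) * t₀ * b') * (b : T)⁻¹ := by rw [h]
          _ = (t₀ * t₀) * ((b' : T) * (b : T)⁻¹) := by group
          _ = _ := by rw [mul_self_of_orderOf_two ht₀, one_mul]
      have h2 := hno t₀ ht₀ ht₀A _ (mul_mem (inv_mem a'.2) a.2)
        (h1 ▸ mul_mem b'.2 (inv_mem b.2))
      have ha : a = a' := Subtype.ext (inv_mul_eq_one.mp h2).symm
      subst ha
      exact Prod.ext rfl (Subtype.ext (mul_left_cancel h))
    have hcount : Nat.card {y : T // orderOf y = 2} * Nat.card C = Nat.card T := by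
      have := card_conj_mul_card_centralizer z
      rw [← this]
      congr 1
      exact Nat.card_congr (Equiv.subtypeEquivRight fun y =>
        (Set.ext_iff.mp hinvset y).symm.trans Iff.rfl)
    have hAT : A.index * Nat.card A = Nat.card T := A.index_mul_card
    by_contra hne
    push Not at hne
    obtain ⟨a, ha, haz⟩ := hne
    have hlt : C < A := lt_of_le_of_ne hCA fun h =>
      haz (Subgroup.mem_centralizer_singleton_iff.mp (show a ∈ C by rw [h]; exact ha))
    have h2 : 2 * Nat.card C ≤ Nat.card A := by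
      obtain ⟨k, hk⟩ := Subgroup.card_dvd_of_le hCA
      have : Nat.card C < Nat.card A := by
        refine lt_of_le_of_ne (Nat.le_of_dvd Nat.card_pos (Subgroup.card_dvd_of_le hCA)) fun h =>
          hlt.ne (Subgroup.eq_of_le_of_card_ge hCA h.ge)
      rcases k with _ | _ | k <;> nlinarith
    have hi : Nat.card A ≤ A.index := by
      nlinarith [Nat.card_pos (α := A)]
    nlinarith [Nat.card_pos (α := C), hsplit, hle1, hm]
  -- all involutions of `A` equal `z`
  have huniq : ∀ x ∈ A, orderOf x = 2 → x = z := by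
    intro x hx hxo
    obtain ⟨g, hg⟩ := isConj_iff.mp (hzconj x hxo)
    have hgA : g ∈ A := by
      refine hN g fun w hw hwo => hclosed x hx hxo _ (by rw [orderOf_conj_eq, hwo]) ?_
      rw [← hg]
      exact (hAC w hw).map (MulAut.conj g).toMonoidHom
    rw [← hg, (hAC g hgA).eq, mul_assoc, mul_inv_cancel, mul_one]
  obtain ⟨y, hy, hyz, hne⟩ := exists_commuting_involution hnc hz
  exact hne (huniq y (hclosed z hzA hz y hy hyz) hy)

end Cfsg.Agent.H72.ExtremelyInvolution
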