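import Cfsg.Agent.H72.FPFour

set_option autoImplicit false

namespace Cfsg.Agent.H72

open Subgroup
open scoped commutatorElement IsMulCommutative

universe u

/-- Restriction of an automorphism to an invariant subgroup. -/
def restrictAut {G : Type*} [Group G] (H : Subgroup G) (σ : MulAut G) (h : ∀ x, σ x ∈ H ↔ x ∈ H) :
    MulAut H where
  toFun x := ⟨σ x, (h x).2 x.2⟩
  invFun x := ⟨σ⁻¹ (x : G), (h _).1 (by simp)⟩
  left_inv x := Subtype.ext (by simp)
  right_inv x := Subtype.ext (by simp)
  map_mul' x y := Subtype.ext (by simp)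

@[simp] theorem restrictAut_coe {G : Type*} [Group G] (H : Subgroup G) (σ : MulAut G)
    (h : ∀ x, σ x ∈ H ↔ x ∈ H) (x : H) : (restrictAut H σ h x : G) = σ x := rfl

/-- An automorphism of a finite group mapping a subgroup into itself preserves it. -/
theorem mem_iff_of_mapsTo {G : Type*} [Group G] [Finite G] (H : Subgroup G) (σ : MulAut G)
    (h : ∀ x ∈ H, σ x ∈ H) (x : G) : σ x ∈ H ↔ x ∈ H := by
  refine ⟨fun hx => ?_, h x⟩
  have hi : Function.Injective (fun y : H => (⟨σ y, h y y.2⟩ : H)) := fun a b hab =>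
    Subtype.ext (σ.injective (congrArg Subtype.val hab))
  obtain ⟨y, hy⟩ := Finite.injective_iff_surjective.1 hi ⟨σ x, hx⟩
  rw [← σ.injective (congrArg Subtype.val hy)]
  exact y.2

theorem displace_nilpotent : ∀ (n : ℕ) (G : Type u) [Group G] [Finite G], Nat.card G = n →
    Group.IsSolvable G → ∀ σ : MulAut G, σ ^ 4 = 1 → (∀ g, σ g = g → g = 1) →
      Group.IsNilpotent (displaceSubgroup (σ ^ 2 : MulAut G)) := by
  intro n
  induction n using Nat.strong_induction_on with
  | _ n ih =>
  intro G _ _ hn hG σ h4 hfpf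
  rcases subsingleton_or_nontrivial G with hS | hN
  · infer_instance
  classical
  -- the last nontrivial term of the derived series
  obtain ⟨m, hm⟩ := hG.solvable
  have hex : ∃ k, derivedSeries G k = ⊥ := ⟨m, hm⟩
  obtain ⟨k, hk⟩ : ∃ k, Nat.find hex = k + 1 := by
    refine Nat.exists_eq_succ_of_ne_zero (fun h0 => ?_)
    have := Nat.find_spec hex
    rw [h0, derivedSeries_zero] at this
    exact top_ne_bot this
  set L := derivedSeries G k with hLdef
  have hLne : L ≠ ⊥ := Nat.find_min hex (by omega)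
  have hLcomm : ∀ a ∈ L, ∀ b ∈ L, a * b = b * a := by
    intro a ha b hb
    have h := Nat.find_spec hex
    rw [hk, derivedSeries_succ] at h
    have hab : ⁅a, b⁆ ∈ (⊥ : Subgroup G) := h ▸ commutator_mem_commutator ha hb
    exact commutatorElement_eq_one_iff_mul_comm.1 (mem_bot.1 hab)
  have hLchar : ∀ (e : MulAut G) (x : G), x ∈ L → e x ∈ L := fun e x hx =>
    characteristic_iff_map_le.1 (derivedSeries_characteristic G k) e ⟨x, hx, rfl⟩
  obtain ⟨p, hp, hpd⟩ := Nat.exists_prime_and_dvd
    (fun h => hLne (eq_bot_of_card_eq L h) : Nat.card L ≠ 1)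
  have := Fact.mk hp
  let V : Subgroup G :=
    { carrier := {v | v ∈ L ∧ v ^ p = 1}
      one_mem' := ⟨one_mem L, one_pow p⟩
      mul_mem' := fun {a b} ha hb => ⟨mul_mem ha.1 hb.1, by
        rw [Commute.mul_pow (hLcomm a ha.1 b hb.1), ha.2, hb.2, one_mul]⟩
      inv_mem' := fun {a} ha => ⟨inv_mem ha.1, by rw [inv_pow, ha.2, inv_one]⟩ }
  have hVmem : ∀ v, v ∈ V ↔ v ∈ L ∧ v ^ p = 1 := fun v => Iff.rfl
  have hVne : V ≠ ⊥ := by
    obtain ⟨x, hx⟩ := exists_prime_orderOf_dvd_card' (G := L) p hpd
    intro hbot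
    have hx1 : (x : G) = 1 := mem_bot.1 (hbot ▸ (hVmem _).2 ⟨x.2, by
      rw [← orderOf_coe] at hx; rw [← hx]; exact pow_orderOf_eq_one _⟩)
    rw [show x = 1 from Subtype.ext hx1, orderOf_one] at hx
    exact hp.ne_one hx.symm
  have hVaut : ∀ (e : MulAut G) (x : G), x ∈ V → e x ∈ V := fun e x hx =>
    (hVmem _).2 ⟨hLchar e x hx.1, by rw [← map_pow, hx.2, map_one]⟩
  have hVn : V.Normal := ⟨fun x hx g => hVaut (MulAut.conj g) x hx⟩
  have hVc : IsMulCommutative V :=
    ⟨⟨fun a b => Subtype.ext (hLcomm a a.2.1 b b.2.1)⟩⟩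
  have hexp : ∀ v : V, v ^ p = 1 := fun v => Subtype.ext v.2.2
  -- restriction and quotient automorphisms
  have hVσ : ∀ x, σ x ∈ V ↔ x ∈ V := mem_iff_of_mapsTo V σ (hVaut σ)
  let s : MulAut V := restrictAut V σ hVσ
  have hs4 : s ^ 4 = 1 := by
    ext v
    have := congrArg (fun f : MulAut G => f (v : G)) h4
    simpa [pow_succ, MulAut.mul_apply, s] using this
  have hsfpf : ∀ v, s v = v → v = 1 := fun v hv =>
    Subtype.ext (hfpf _ (congrArg Subtype.val hv))
  have hmapV : V.map σ.toMonoidHom = V := by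
    ext x
    constructor
    · rintro ⟨y, hy, rfl⟩; exact (hVσ y).2 hy
    · intro hx; exact ⟨σ⁻¹ x, (hVσ _).1 (by simpa using hx), by simp⟩
  let σb : MulAut (G ⧸ V) := QuotientGroup.congr V V σ hmapV
  have hσb : ∀ g : G, (QuotientGroup.mk' V (σ g)) = σb (QuotientGroup.mk' V g) := fun g => rfl
  have hσb4 : σb ^ 4 = 1 := by
    ext x
    induction x using QuotientGroup.induction_on with
    | H g =>
      have := congrArg (fun f : MulAut G => QuotientGroup.mk' V (f g)) h4
      simp only [pow_succ, pow_zero, one_mul, MulAut.mul_apply, hσb, MulAut.one_apply] at this ⊢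
      exact this
  have hσbfpf : ∀ x, σb x = x → x = 1 :=
    fpf_of_surjective (QuotientGroup.mk' V) (QuotientGroup.mk'_surjective V) σ (⇑σb) hσb hfpf
  have hlt : Nat.card (G ⧸ V) < n := by
    have h1 := V.card_eq_card_quotient_mul_card_subgroup
    have h2 : 1 < Nat.card V := (one_lt_card_iff_ne_bot V).2 hVne
    have h3 : 0 < Nat.card (G ⧸ V) := Nat.card_pos
    rw [← hn, h1]
    exact lt_mul_of_one_lt_right h3 h2
  have hKb : Group.IsNilpotent (displaceSubgroup (σb ^ 2 : MulAut (G ⧸ V))) :=
    ih _ hlt (G ⧸ V) rfl inferInstance σb hσb4 hσbfpf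
  set τ := (σ ^ 2 : MulAut G) with hτ
  set K := displaceSubgroup τ with hK
  have hKmap : K.map (QuotientGroup.mk' V) = displaceSubgroup (σb ^ 2 : MulAut (G ⧸ V)) :=
    map_displaceSubgroup _ (QuotientGroup.mk'_surjective V) _ _ (fun g => by
      simp only [hτ, pow_two, MulAut.mul_apply, hσb])
  rw [← hKmap] at hKb
  have hστ : ∀ g, σ (τ g) = τ (σ g) := fun g => by simp [hτ, pow_two, MulAut.mul_apply]
  have hKσ0 : ∀ x ∈ K, σ x ∈ K := by
    intro x hx
    have : K.map σ.toMonoidHom ≤ K := by
      rw [hK, displaceSubgroup, MonoidHom.map_closure, closure_le]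
      rintro _ ⟨_, ⟨g, rfl⟩, rfl⟩
      exact subset_closure ⟨σ g, by simp [hστ]⟩
    exact this ⟨x, hx, rfl⟩
  have hKσ := mem_iff_of_mapsTo K σ hKσ0
  -- the action on `V`
  let φ : G →* MulAut V := MulAut.conjNormal
  have hφσ : ∀ g, φ (σ g) = s * φ g * s⁻¹ := by
    intro g
    rw [eq_mul_inv_iff_mul_eq]
    ext v
    simp [φ, s, MulAut.mul_apply, MulAut.conjNormal_apply]
  have hφV : V ≤ φ.ker := by
    intro v hv
    rw [MonoidHom.mem_ker]
    ext w
    simp only [φ, MulAut.conjNormal_apply, MulAut.one_apply]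
    rw [hLcomm v hv.1 w w.2.1, mul_inv_cancel_right]
  let A := K.map φ
  have hAfin : Finite A := Finite.of_surjective (φ.subgroupMap K) (φ.subgroupMap_surjective K)
  have hAnil : Group.IsNilpotent A := by
    let ψ := QuotientGroup.lift V φ hφV
    have h1 : (K.map (QuotientGroup.mk' V)).map ψ = A := by
      rw [map_map]; rfl
    have h2 : Group.IsNilpotent ((K.map (QuotientGroup.mk' V)).map ψ) :=
      Group.nilpotent_of_surjective (h := hKb) (ψ.subgroupMap _) (ψ.subgroupMap_surjective _)
    rwa [h1] at h2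
  have hAodd : Odd (Nat.card A) :=
    Odd.of_dvd_nat (odd_card_of_fpf σ h4 hfpf)
      ((K.card_map_dvd φ).trans K.card_subgroup_dvd_card)
  have hAs : ∀ x ∈ A, s * x * s⁻¹ ∈ A := by
    rintro _ ⟨g, hg, rfl⟩
    exact ⟨σ g, hKσ0 g hg, hφσ g⟩
  have hAfpf : ∀ x ∈ A, s * x * s⁻¹ = x → x = 1 := by
    intro x hx hfix
    have := fpf_of_surjective (φ.subgroupMap K) (φ.subgroupMap_surjective K)
      (restrictAut K σ hKσ) (fun a : A => ⟨s * a * s⁻¹, hAs a a.2⟩)
      (fun g => Subtype.ext (hφσ g)) (fun g hg => Subtype.ext (hfpf _ (congrArg Subtype.val hg)))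
      ⟨x, hx⟩ (Subtype.ext hfix)
    exact congrArg Subtype.val this
  -- `A` is a `p`-group
  have hAp : IsPGroup p A := by
    let S₀ : Set A := {a | ∃ g : G, (a : MulAut V) = φ (g⁻¹ * τ g)}
    have hgen : Subgroup.closure S₀ = ⊤ := by
      rw [eq_top_iff]
      rintro ⟨_, g, hg, rfl⟩ -
      induction hg using Subgroup.closure_induction with
      | mem y hy =>
        obtain ⟨a, rfl⟩ := hy
        exact subset_closure ⟨a, rfl⟩
      | one =>
        convert one_mem (Subgroup.closure S₀) using 1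
        exact Subtype.ext (map_one φ)
      | mul a b ha hb iha ihb =>
        convert mul_mem iha ihb using 1
        exact Subtype.ext (map_mul φ a b)
      | inv a ha iha =>
        convert inv_mem iha using 1
        exact Subtype.ext (map_inv φ a)
    have hpw : ∀ a ∈ S₀, ∀ q : ℕ, q.Prime → q ∣ orderOf a → q = p := by
      rintro a ⟨g, hg⟩ q hq hqa
      by_contra hqp
      have := Fact.mk hq
      have hq2 : q ≠ 2 := by
        intro h
        have := hAodd.of_dvd_nat (hqa.trans (orderOf_dvd_natCard a))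
        rw [h] at this
        exact absurd this (by decide)
      obtain ⟨b, hb, hbord⟩ : ∃ b ∈ zpowers a, orderOf b = q :=
        ⟨a ^ (orderOf a / q), pow_mem (mem_zpowers a) _,
          orderOf_pow_orderOf_div (orderOf_pos a).ne' hqa⟩
      obtain ⟨Q⟩ : Nonempty (Sylow q A) := inferInstance
      have hQn : (Q : Subgroup A).Normal := inferInstance
      have hQall : ∀ c : A, (∃ j : ℕ, c ^ (q ^ j) = 1) → c ∈ (Q : Subgroup A) := by
        rintro c ⟨j, hj⟩
        have hc : IsPGroup q (zpowers c) := by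
          intro z
          refine ⟨j, Subtype.ext ?_⟩
          obtain ⟨e, he⟩ := mem_zpowers_iff.1 z.2
          rw [SubmonoidClass.coe_pow, ← he, ← zpow_natCast, ← zpow_mul, mul_comm, zpow_mul,
            zpow_natCast, hj, one_zpow, OneMemClass.coe_one]
        have hsup : IsPGroup q ((zpowers c) ⊔ (Q : Subgroup A) : Subgroup A) :=
          hc.to_sup_of_normal_right Q.isPGroup'
        exact (Q.is_maximal' hsup le_sup_right) ▸ mem_sup_left (mem_zpowers c)
      let Q' : Subgroup (MulAut V) := (Q : Subgroup A).map A.subtype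
      have hQ' : ∀ x ∈ Q', s * x * s⁻¹ ∈ Q' := by
        rintro _ ⟨c, hc, rfl⟩
        refine ⟨⟨s * c * s⁻¹, hAs c c.2⟩, hQall _ ?_, rfl⟩
        obtain ⟨j, hj⟩ := Q.isPGroup' ⟨c, hc⟩
        refine ⟨j, Subtype.ext ?_⟩
        simp only [SubmonoidClass.coe_pow, conj_pow]
        rw [show (c : MulAut V) ^ q ^ j = 1 from
          congrArg (fun z : (Q : Subgroup A) => ((z : A) : MulAut V)) hj]
        simp
      have hbQ : (b : MulAut V) ∈ Q' :=
        ⟨b, hQall b ⟨1, by rw [pow_one, ← hbord]; exact pow_orderOf_eq_one b⟩, rfl⟩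
      have hfix := sq_centralizes_qGroup s hs4 hsfpf hexp hq2
        ((Nat.coprime_primes hp hq).2 (Ne.symm hqp)) _ Q' rfl (Q.isPGroup'.map A.subtype) hQ'
        (fun x hx => hAfpf x (map_subtype_le _ hx)) _ hbQ
      -- the generator is inverted
      have hinv : s ^ 2 * (a : MulAut V) * (s ^ 2)⁻¹ = (a : MulAut V)⁻¹ := by
        rw [hg]
        have e : ∀ x, φ (τ x) = s ^ 2 * φ x * (s ^ 2)⁻¹ := fun x => by
          simp only [hτ, pow_two, MulAut.mul_apply, hφσ]; group
        rw [← e, ← map_inv]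
        congr 1
        have hτ2 : τ (τ g) = g := by
          have := congrArg (fun f : MulAut G => f g) h4
          simpa [hτ, pow_succ, MulAut.mul_apply] using this
        simp [hτ2]
      obtain ⟨e, he⟩ := mem_zpowers_iff.1 hb
      have hbinv : s ^ 2 * (b : MulAut V) * (s ^ 2)⁻¹ = (b : MulAut V)⁻¹ := by
        rw [← he, SubgroupClass.coe_zpow, ← conj_zpow, hinv, inv_zpow]
      rw [hfix] at hbinv
      have hb1 : b = 1 := eq_one_of_sq_eq_one_of_odd hAodd
        (Subtype.ext (mul_eq_one_iff_eq_inv.2 hbinv))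
      rw [hb1, orderOf_one] at hbord
      exact hq.ne_one hbord.symm
    obtain ⟨P⟩ : Nonempty (Sylow p A) := inferInstance
    have hPn : (P : Subgroup A).Normal := inferInstance
    have hPtop : (P : Subgroup A) = ⊤ := by
      rw [eq_top_iff, ← hgen, closure_le]
      intro a ha
      have ho : orderOf a = p ^ (orderOf a).primeFactorsList.length :=
        Nat.eq_prime_pow_of_unique_prime_dvd (orderOf_pos a).ne' (fun {q} hq hqa => hpw a ha q hq hqa)
      have hc : IsPGroup p (zpowers a) := IsPGroup.of_card ((Nat.card_zpowers a).trans ho)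
      have hsup : IsPGroup p ((zpowers a) ⊔ (P : Subgroup A) : Subgroup A) :=
        hc.to_sup_of_normal_right P.isPGroup'
      exact (P.is_maximal' hsup le_sup_right) ▸ mem_sup_left (mem_zpowers a)
    intro a
    obtain ⟨j, hj⟩ := P.isPGroup' ⟨a, hPtop ▸ mem_top a⟩
    exact ⟨j, congrArg Subtype.val hj⟩
  -- all Sylow subgroups of `K` are normal
  refine (Group.isNilpotent_of_finite_tfae.out 3 0).mp ?_
  intro q hq Q
  let f := (QuotientGroup.mk' V).subgroupMap K
  have hf : Function.Surjective f := (QuotientGroup.mk' V).subgroupMap_surjective K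
  have hker : ∀ x : K, x ∈ f.ker ↔ (x : G) ∈ V := by
    intro x
    rw [MonoidHom.mem_ker, Subtype.ext_iff]
    exact QuotientGroup.eq_one_iff (x : G)
  have hQb : ((Q : Subgroup K).map f).Normal := by
    rw [← Sylow.coe_mapSurjective hf Q]
    have := hKb
    infer_instance
  have hQW : ((Q : Subgroup K) ⊔ f.ker).Normal := by
    rw [← comap_map_eq]
    exact hQb.comap f
  have hWp : IsPGroup p f.ker := by
    intro x
    refine ⟨1, Subtype.ext (Subtype.ext ?_)⟩
    simpa using ((hker x).1 x.2).2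
  by_cases hqp : q = p
  · subst hqp
    have hsup : IsPGroup q ((Q : Subgroup K) ⊔ f.ker : Subgroup K) :=
      Q.isPGroup'.to_sup_of_normal_right hWp
    rwa [Q.is_maximal' hsup le_sup_left] at hQW
  · have hcent : ∀ x ∈ (Q : Subgroup K), ∀ w ∈ f.ker, x * w = w * x := by
      intro x hx w hw
      have hxA : φ (x : G) ∈ A := ⟨x, x.2, rfl⟩
      have h1 : φ (x : G) = 1 := by
        obtain ⟨i, hi⟩ := Q.isPGroup' ⟨x, hx⟩
        obtain ⟨j, hj⟩ := hAp ⟨_, hxA⟩
        have hi' : φ (x : G) ^ q ^ i = 1 := by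
          rw [← map_pow]
          have : (x : G) ^ q ^ i = 1 := congrArg (fun z : (Q : Subgroup K) => ((z : K) : G)) hi
          rw [this, map_one]
        have hj' : φ (x : G) ^ p ^ j = 1 := congrArg Subtype.val hj
        have := pow_gcd_eq_one.2 ⟨hi', hj'⟩
        rwa [((Nat.coprime_primes hq.out hp).2 hqp).pow i j, pow_one] at this
      have h2 := congrArg (fun e : MulAut V => (e ⟨(w : G), (hker w).1 hw⟩ : G)) h1
      simp only [φ, MulAut.conjNormal_apply, MulAut.one_apply] at h2
      exact Subtype.ext (mul_inv_eq_iff_eq_mul.1 h2)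
    have hle : (Q : Subgroup K) ⊔ f.ker ≤ normalizer ((Q : Subgroup K) : Set K) := by
      refine sup_le le_normalizer ?_
      intro w hw
      rw [mem_normalizer_iff]
      intro y
      constructor
      · intro hy
        rw [← hcent y hy w hw, mul_inv_cancel_right]
        exact hy
      · intro hy
        have h := hcent _ hy w hw
        have hyeq : y = w * y * w⁻¹ := by
          calc y = w⁻¹ * ((w * y * w⁻¹) * w) := by group
            _ = w⁻¹ * (w * (w * y * w⁻¹)) := by rw [h]
            _ = w * y * w⁻¹ := by group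
        rwa [hyeq]
    have htop := Sylow.normalizer_sup_eq_top' (N := (Q : Subgroup K) ⊔ f.ker) Q le_sup_left
    rw [show (↑(↑Q : Subgroup K) : Set K) = ((Q : Set K)) from rfl] at hle
    rw [sup_of_le_left hle] at htop
    exact normalizer_eq_top_iff.1 htop

theorem commutator_nilpotent_of_fpf_four {G : Type*} [Group G] [Finite G] (hG : Group.IsSolvable G)
    (σ : MulAut G) (hσ : σ ^ 4 = 1) (hfpf : ∀ g : G, σ g = g → g = 1) :
    Group.IsNilpotent (commutator G) := by
  set τ := (σ ^ 2 : MulAut G) with hτ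
  have hK := displace_nilpotent _ G rfl hG σ hσ hfpf
  rw [← hτ] at hK
  set K := displaceSubgroup τ with hKdef
  have := displaceSubgroup_normal τ
  have hKσ : ∀ x, σ x ∈ K ↔ x ∈ K := mem_iff_of_mapsTo K σ (by
    intro x hx
    have : K.map σ.toMonoidHom ≤ K := by
      rw [hKdef, displaceSubgroup, MonoidHom.map_closure, closure_le]
      rintro _ ⟨_, ⟨g, rfl⟩, rfl⟩
      exact subset_closure ⟨σ g, by simp [hτ, pow_two, MulAut.mul_apply]⟩
    exact this ⟨x, hx, rfl⟩)
  have hmap : K.map σ.toMonoidHom = K := by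
    ext x
    constructor
    · rintro ⟨y, hy, rfl⟩; exact (hKσ y).2 hy
    · intro hx; exact ⟨σ⁻¹ x, (hKσ _).1 (by simpa using hx), by simp⟩
  let σb : MulAut (G ⧸ K) := QuotientGroup.congr K K σ hmap
  have hinvol : ∀ x, σb (σb x) = x := by
    intro x
    induction x using QuotientGroup.induction_on with
    | H g =>
      have h : (QuotientGroup.mk' K) (σ (σ g)) = (QuotientGroup.mk' K) g := by
        refine (QuotientGroup.eq.2 ?_).symm
        show g⁻¹ * σ (σ g) ∈ displaceSubgroup τ
        exact displace_mem τ g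
      exact h
  have hbfpf : ∀ x, σb x = x → x = 1 :=
    fpf_of_surjective (QuotientGroup.mk' K) (QuotientGroup.mk'_surjective K) σ (⇑σb)
      (fun g => rfl) hfpf
  have hinv : ∀ x, σb x = x⁻¹ := by
    intro x
    obtain ⟨y, rfl⟩ := displace_surjective σb hbfpf x
    simp only [map_mul, map_inv, hinvol, mul_inv_rev]
    group
  have hab : ∀ a b : G ⧸ K, a * b = b * a := by
    intro a b
    have := map_mul σb a b
    rw [hinv, hinv, hinv, ← mul_inv_rev] at this
    exact inv_injective this
  have hle : commutator G ≤ K := by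
    rw [_root_.commutator_def, commutator_le]
    intro a _ b _
    rw [← QuotientGroup.eq_one_iff]
    rw [← QuotientGroup.mk'_apply, map_commutatorElement, commutatorElement_eq_one_iff_mul_comm]
    exact hab _ _
  exact Group.nilpotent_of_mulEquiv (_h := inferInstance) (subgroupOfEquivOfLe hle)

end Cfsg.Agent.H72
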