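import Cfsg.Agent.H72.Asymmetric
import Cfsg.Agent.Components.Basic
import Cfsg.Agent.S1265

/-!
Overgroups of the preimage `F` of `F*(M†/C(Y_M))`: there `Y_M` is `p`-reduced.
-/

set_option autoImplicit false
set_option linter.style.haveILetI false
set_option linter.unusedSectionVars false

namespace Cfsg.Agent.H72.FittingCentre

open Subgroup
open H60 (cj)

variable {G : Type*} [Group G] [Finite G] {p : ℕ} [Fact p.Prime]

/-- A `p`-subgroup normalised by `F*` is trivial when `O_p = 1`. -/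
theorem eq_bot_of_genFitting_le_normalizer (hO : Cfsg.pCore p G = ⊥) {N : Subgroup G}
    (hN : IsPGroup p N) (hF : Cfsg.generalizedFittingSubgroup G ≤ normalizer (N : Set G)) : N = ⊥ := by
  set F := Cfsg.generalizedFittingSubgroup G
  set I := N ⊓ F with hI
  have hI1 : I ≤ Cfsg.pCoreOf p F :=
    H60.le_pCoreOf inf_le_right (H60.le_normalizer_inf hF Subgroup.le_normalizer) hN.to_inf_left
  haveI : (Cfsg.pCoreOf p F).Normal :=
    Subgroup.normalizer_eq_top_iff.1 (top_le_iff.1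
      ((Subgroup.normalizer_eq_top_iff.2 (inferInstance : F.Normal)).ge.trans
        (H60.normalizer_le_normalizer_pCoreOf F)))
  have hI2 : I = ⊥ := le_bot_iff.1 (hI1.trans ((Cores.le_pCore (H60.pCoreOf_isPGroup F)).trans hO.le))
  have h1 : ⁅N, F⁆ ≤ I := by
    refine le_inf ?_ (Subgroup.commutator_le_right N F)
    rw [commutator_comm]; exact H60.commutator_le_of_le_normalizer hF
  rw [hI2, le_bot_iff, commutator_eq_bot_iff_le_centralizer] at h1
  have h2 : N ≤ F := h1.trans S1265.result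
  rw [← hI2, hI, inf_eq_left.2 h2]

/-- The preimage `F` of `F*(D/C_D(Y))`. -/
theorem pow_mem_centralizer_imp {D C : Subgroup G} [(C.subgroupOf D).Normal]
    (hO : Cfsg.pCore p (↥D ⧸ C.subgroupOf D) = ⊥) {F N : Subgroup G}
    (hF : F = ((Cfsg.generalizedFittingSubgroup (↥D ⧸ C.subgroupOf D)).comap
      (QuotientGroup.mk' (C.subgroupOf D))).map D.subtype)
    (hN : N ≤ D) (hFN : F ≤ normalizer (N : Set G))
    (hpow : ∀ x ∈ N, ∃ k, x ^ p ^ k ∈ C) : N ≤ C := by
  set f := QuotientGroup.mk' (C.subgroupOf D)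
  have hp : IsPGroup p ((N.subgroupOf D).map f) := by
    rintro ⟨_, x, hx, rfl⟩
    obtain ⟨k, hk⟩ := hpow _ hx
    exact ⟨k, Subtype.ext (by
      rw [Subgroup.coe_pow, ← map_pow]
      exact (QuotientGroup.eq_one_iff _).2 hk)⟩
  have h1 := eq_bot_of_genFitting_le_normalizer hO hp fun a ha => by
    obtain ⟨d, rfl⟩ := QuotientGroup.mk'_surjective _ a
    refine Subgroup.le_normalizer_map f (mem_map_of_mem f ?_)
    have hd : (d : G) ∈ normalizer (N : Set G) := hFN (hF ▸ ⟨d, ha, rfl⟩)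
    exact mem_normalizer_iff.2 fun z => mem_normalizer_iff.1 hd (z : G)
  intro x hx
  have h2 : f ⟨x, hN hx⟩ ∈ (N.subgroupOf D).map f := mem_map_of_mem f hx
  rw [h1, Subgroup.mem_bot] at h2
  exact (QuotientGroup.eq_one_iff (⟨x, hN hx⟩ : D)).1 h2

variable {S : Sylow p G} {Q M : Subgroup G}

local notation "Y[" p ", " M "]" => Cfsg.largestPReducedOf p M

theorem pCore_quotient_eq_bot (hM : Cfsg.IsInFrakM p M)
    [((centralizer (Y[p, M] : Set G)).subgroupOf (M ⊔ centralizer (Y[p, M] : Set G))).Normal] :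
    Cfsg.pCore p (↥(M ⊔ centralizer (Y[p, M] : Set G)) ⧸
      (centralizer (Y[p, M] : Set G)).subgroupOf (M ⊔ centralizer (Y[p, M] : Set G))) = ⊥ := by
  set D := M ⊔ centralizer (Y[p, M] : Set G) with hD
  set C := centralizer (Y[p, M] : Set G) with hC
  set C' := C.subgroupOf D
  have heq : Y[p, M] = (Cfsg.largestPReduced p ↥D).map D.subtype := hM.2.2.2.1
  have hCC : C' = centralizer (Cfsg.largestPReduced p ↥D : Set ↥D) := by
    ext d
    rw [Subgroup.mem_subgroupOf, hC, mem_centralizer_iff, mem_centralizer_iff]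
    constructor
    · intro h y hy
      exact Subtype.ext (h (y : G) (heq ▸ mem_map_of_mem D.subtype hy))
    · intro h y hy
      rw [heq] at hy
      obtain ⟨y', hy', rfl⟩ := hy
      exact congrArg Subtype.val (h y' hy')
  set N := (Cfsg.pCore p (↥D ⧸ C')).comap (QuotientGroup.mk' C') with hN
  have h := (H59.isPReducedNormal_iff.1 (H60.isPReducedNormal_largest (p := p) (L := ↥D))).2 N
    inferInstance fun x hx => by
      obtain ⟨k, hk⟩ := Cores.pCore_isPGroup (⟨QuotientGroup.mk' C' x, hx⟩ : Cfsg.pCore p (↥D ⧸ C'))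
      refine ⟨k, ?_⟩
      rw [← hCC, ← QuotientGroup.eq_one_iff]
      exact congrArg Subtype.val hk
  rw [eq_bot_iff]
  intro a ha
  obtain ⟨d, rfl⟩ := QuotientGroup.mk'_surjective C' a
  rw [Subgroup.mem_bot]
  refine (QuotientGroup.eq_one_iff d).2 ?_
  rw [hCC]
  exact h ha

/-- `Y_M ≤ Y_H` for overgroups `H` of `F` of characteristic `p`. -/
theorem yOf_le_yOf (h : Asymmetric.Setup p S Q M) (hasym : ¬ Cfsg.IsSymmetricIn Y[p, M])
    [((centralizer (Y[p, M] : Set G)).subgroupOf (M ⊔ centralizer (Y[p, M] : Set G))).Normal]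
    {F : Subgroup G}
    (hF : F = ((Cfsg.generalizedFittingSubgroup (↥(M ⊔ centralizer (Y[p, M] : Set G)) ⧸
      (centralizer (Y[p, M] : Set G)).subgroupOf (M ⊔ centralizer (Y[p, M] : Set G)))).comap
      (QuotientGroup.mk' ((centralizer (Y[p, M] : Set G)).subgroupOf
        (M ⊔ centralizer (Y[p, M] : Set G))))).map (M ⊔ centralizer (Y[p, M] : Set G)).subtype)
    {H : Subgroup G} (hFH : F ≤ H)
    (hH : centralizer (Cfsg.pCore p ↥H : Set ↥H) ≤ Cfsg.pCore p ↥H) :
    Y[p, M] ≤ Cfsg.largestPReducedOf p H := by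
  set D := M ⊔ centralizer (Y[p, M] : Set G) with hD
  set Y := Y[p, M] with hY
  have hCF : centralizer (Y : Set G) ≤ F := fun c hc => by
    rw [hF]
    refine ⟨⟨c, mem_sup_right hc⟩, ?_, rfl⟩
    show QuotientGroup.mk' ((centralizer (Y : Set G)).subgroupOf D) ⟨c, mem_sup_right hc⟩ ∈
      Cfsg.generalizedFittingSubgroup (↥D ⧸ (centralizer (Y : Set G)).subgroupOf D)
    rw [QuotientGroup.mk'_apply, (QuotientGroup.eq_one_iff (⟨c, mem_sup_right hc⟩ : D)).2
      (hc : (⟨c, mem_sup_right hc⟩ : D) ∈ (centralizer (Y : Set G)).subgroupOf D)]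
    exact one_mem _
  have hFD : F ≤ D := hF ▸ map_subtype_le _
  have hPH : Cfsg.pCoreOf p M ≤ H := ((H60.pCoreOf_le_centralizer_yOf M).trans hCF).trans hFH
  have hYF : Y ≤ F := (H60.yOf_le_pCoreOf M).trans ((H60.pCoreOf_le_centralizer_yOf M).trans hCF)
  set R := (H ⊓ D).subgroupOf H with hR
  obtain ⟨T, hT⟩ := h.parabolic_inf hasym hPH
  set X : Subgroup R := (Y.subgroupOf H).subgroupOf R with hX
  have hmemR : ∀ z ∈ Y, z ∈ H ∧ z ∈ D := fun z hz => ⟨hFH (hYF hz), hFD (hYF hz)⟩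
  haveI hXn : X.Normal := ⟨fun y hy r => by
    show ((r : H) : G) * ((y : H) : G) * ((r : H) : G)⁻¹ ∈ Y
    have hr : ((r : H) : G) ∈ D := (r.2 : ((r : H) : G) ∈ H ⊓ D).2
    exact (mem_normalizer_iff.1 (H60.sup_centralizer_le_normalizer_yOf M hr) _).1 hy⟩
  have hel := H60.isElementaryAbelian_yOf (p := p) M
  have hred : Cfsg.IsPReducedNormal p X := by
    refine H59.isPReducedNormal_iff.2 ⟨⟨⟨⟨fun a b => Subtype.ext (Subtype.ext (Subtype.ext ?_))⟩⟩,
      fun a ha => Subtype.ext (Subtype.ext (hel.2 _ ha))⟩, fun N hN hpow => ?_⟩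
    · exact congrArg (fun z : Y => (z : G))
        (hel.1.is_comm.comm (⟨_, a.2⟩ : Y) ⟨_, b.2⟩)
    · set e : R →* G := H.subtype.comp R.subtype with he
      have hcen : ∀ z : R, z ∈ centralizer (X : Set R) ↔ e z ∈ centralizer (Y : Set G) := by
        intro z
        rw [mem_centralizer_iff, mem_centralizer_iff]
        constructor
        · intro hz y hy
          exact congrArg e (hz ⟨⟨y, (hmemR y hy).1⟩, (hmemR y hy : y ∈ H ⊓ D)⟩ hy)
        · intro hz y hy
          exact Subtype.ext (Subtype.ext (hz (e y) hy))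
      have h1 : N.map e ≤ centralizer (Y : Set G) := by
        refine pow_mem_centralizer_imp (pCore_quotient_eq_bot h.hM) hF ?_ ?_ ?_
        · rintro _ ⟨z, -, rfl⟩; exact (z.2 : ((z : H) : G) ∈ H ⊓ D).2
        · intro a ha
          have : a = e ⟨⟨a, hFH ha⟩, (⟨hFH ha, hFD ha⟩ : a ∈ H ⊓ D)⟩ := rfl
          rw [this]
          refine Subgroup.le_normalizer_map e (mem_map_of_mem e ?_)
          rw [Subgroup.normalizer_eq_top_iff.2 hN]; trivial
        · rintro _ ⟨z, hz, rfl⟩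
          obtain ⟨k, hk⟩ := hpow z hz
          exact ⟨k, by rw [← map_pow]; exact (hcen _).1 hk⟩
      exact fun z hz => (hcen z).2 (h1 (mem_map_of_mem e hz))
  have h2 := H59.isPReducedNormal_normalClosure hH T R hT X hred
  intro y hy
  refine ⟨⟨y, (hmemR y hy).1⟩, le_sSup (α := Subgroup H) h2 (subset_normalClosure ?_), rfl⟩
  exact ⟨⟨⟨y, (hmemR y hy).1⟩, (hmemR y hy : y ∈ H ⊓ D)⟩, hy, rfl⟩

end Cfsg.Agent.H72.FittingCentre
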