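import Cfsg.Agent.H62.CoprimeFix
import Cfsg.Agent.S0029

/-!
Odd order automorphisms of a 2-group fixing all subgroups of one intermediate order.
-/

set_option autoImplicit false

namespace Cfsg.Agent.H72.FixSub

open Subgroup

variable {X : Type*} [Group X] [Finite X]

theorem mem_normalizer_of_conj {A L : Subgroup X} (h : ∀ a ∈ A, ∀ y ∈ L, a * y * a⁻¹ ∈ L) :
    A ≤ Subgroup.normalizer (L : Set X) := fun a ha => by
  rw [Subgroup.mem_normalizer_iff]
  refine fun y => ⟨h a ha y, fun hy => ?_⟩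
  have h2 := h a⁻¹ (A.inv_mem ha) _ hy
  simpa [mul_assoc] using h2

theorem fixes_of_cyclic {A E : Subgroup X} [IsCyclic E] {j : ℕ} (hE : Nat.card E = 2 ^ j)
    (hA : Odd (Nat.card A)) (hn : A ≤ Subgroup.normalizer (E : Set X)) {a : X} (ha : a ∈ A) {x : X}
    (hx : x ∈ E) : a * x * a⁻¹ = x := by
  have ho : Odd (orderOf a) := hA.of_dvd_nat (A.orderOf_dvd_natCard ha)
  exact H62.commute_of_normalizes_cyclic Nat.prime_two E hE
    ⟨Nat.coprime_two_right.mpr ho, fun q hq _ => hq.two_le⟩ (hn ha) hx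

theorem le_centralizer_of_fix_small {A P : Subgroup X} (hP : IsPGroup 2 P) (hA : Odd (Nat.card A))
    (hAP : A ≤ Subgroup.normalizer (P : Set X))
    (h : ∀ a ∈ A, ∀ x ∈ P, x ^ 4 = 1 → a * x * a⁻¹ = x) : A ≤ Subgroup.centralizer (P : Set X) := by
  intro a ha
  have ho : Odd (orderOf a) := hA.of_dvd_nat (A.orderOf_dvd_natCard ha)
  have h1 := H62.fix_all (p := 2) hP (H62.conjAut P (hAP ha)) (n := orderOf a)
    (Nat.coprime_two_right.mpr ho) (H62.conjAut_pow_orderOf P (hAP ha))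
    (fun x hx => Subtype.ext (h a ha x x.2
      (by rw [show (4 : ℕ) = 2 * 2 by rfl, pow_mul, ← Subgroup.coe_pow, hx, Subgroup.coe_one, one_pow])))
    (fun _ x hx => Subtype.ext (h a ha x x.2 (congrArg Subtype.val hx)))
  rw [Subgroup.mem_centralizer_iff]
  intro x hx
  have h2 : a * x * a⁻¹ = x := congrArg Subtype.val (DFunLike.congr_fun h1 (⟨x, hx⟩ : P))
  exact (mul_inv_eq_iff_eq_mul.1 h2).symm

theorem exists_overgroup {P : Subgroup X} (hP : IsPGroup 2 P) {H : Subgroup X} (hHP : H ≤ P) {i m : ℕ}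
    (hH : Nat.card H = 2 ^ i) (him : i ≤ m) (hm : 2 ^ m ∣ Nat.card P) :
    ∃ K : Subgroup X, H ≤ K ∧ K ≤ P ∧ Nat.card K = 2 ^ m := by
  haveI : Fact (Nat.Prime 2) := ⟨Nat.prime_two⟩
  obtain ⟨K, hK, hle⟩ := Sylow.exists_subgroup_card_pow_prime_le 2 hm (H.subgroupOf P)
    (by rw [Nat.card_congr (Subgroup.subgroupOfEquivOfLe hHP).toEquiv, hH]) him
  refine ⟨K.map P.subtype, fun x hx => ⟨⟨x, hHP hx⟩, hle hx, rfl⟩, Subgroup.map_subtype_le _, ?_⟩
  rw [Subgroup.card_map_of_injective P.subtype_injective, hK]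

theorem card_coatom {P : Subgroup X} (hP : IsPGroup 2 P) {k : ℕ} (hk : Nat.card P = 2 ^ (k + 1))
    {M : Subgroup P} (hM : IsCoatom M) : Nat.card (M.map P.subtype) = 2 ^ k := by
  haveI : Fact (Nat.Prime 2) := ⟨Nat.prime_two⟩
  have h := M.card_mul_index
  rw [PGroups.index_eq_of_isCoatom hP hM, hk, pow_succ] at h
  rw [Subgroup.card_map_of_injective P.subtype_injective]
  omega

theorem main (A : Subgroup X) (hA : Odd (Nat.card A)) (k : ℕ) (hk : 1 ≤ k) : ∀ (n : ℕ) (P : Subgroup X),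
    IsPGroup 2 P → Nat.card P = n → A ≤ Subgroup.normalizer (P : Set X) → 2 ^ k < Nat.card P →
    (∀ E : Subgroup X, E ≤ P → (Nat.card E = 2 ^ k ∨ (k = 1 ∧ Nat.card E = 4)) →
      A ≤ Subgroup.normalizer (E : Set X)) →
    A ≤ Subgroup.centralizer (P : Set X) := by
  haveI : Fact (Nat.Prime 2) := ⟨Nat.prime_two⟩
  intro n
  induction n using Nat.strong_induction_on with
  | _ n ih =>
    intro P hP hn hAP hlt hinv
    obtain ⟨m, hm⟩ := hP.exists_card_eq
    have hkm : k < m := (Nat.pow_lt_pow_iff_right (by norm_num)).1 (hm ▸ hlt)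
    rcases Nat.lt_or_ge k 2 with hk2 | hk2
    · have hk1 : k = 1 := by omega
      refine le_centralizer_of_fix_small hP hA hAP fun a ha x hx h4 => ?_
      have hd : Nat.card (zpowers x) ∣ 2 ^ 2 := by
        rw [Nat.card_zpowers]; exact orderOf_dvd_of_pow_eq_one h4
      obtain ⟨j, hj, hcard⟩ := (Nat.dvd_prime_pow Nat.prime_two).1 hd
      rcases Nat.eq_zero_or_pos j with rfl | hj0
      · rw [pow_zero, Subgroup.card_eq_one, zpowers_eq_bot] at hcard
        simp [hcard]
      have hE : Nat.card (zpowers x) = 2 ^ k ∨ (k = 1 ∧ Nat.card (zpowers x) = 4) := by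
        interval_cases j
        · exact Or.inl (by rw [hcard, hk1])
        · exact Or.inr ⟨hk1, by rw [hcard]; rfl⟩
      exact fixes_of_cyclic hcard hA (hinv _ (zpowers_le.2 hx) hE) ha (mem_zpowers x)
    rcases Nat.lt_or_ge (k + 1) m with hbig | hsmall
    · refine le_centralizer_of_fix_small hP hA hAP fun a ha x hx h4 => ?_
      obtain ⟨j, hj, hcard⟩ := (Nat.dvd_prime_pow Nat.prime_two).1
        (show Nat.card (zpowers x) ∣ 2 ^ 2 by rw [Nat.card_zpowers]; exact orderOf_dvd_of_pow_eq_one h4)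
      obtain ⟨E, hxE, hEP, hE⟩ := exists_overgroup hP (zpowers_le.2 hx) hcard (hj.trans hk2)
        (hm ▸ pow_dvd_pow 2 hkm.le)
      obtain ⟨L, hEL, hLP, hL⟩ := exists_overgroup hP hEP hE (Nat.le_succ k)
        (hm ▸ pow_dvd_pow 2 (by omega))
      have hxE' : x ∈ E := hxE (mem_zpowers x)
      by_cases hcyc : IsCyclic L
      · have : IsCyclic E := isCyclic_of_injective (Subgroup.inclusion hEL) (Subgroup.inclusion_injective hEL)
        exact fixes_of_cyclic hE hA (hinv E hEP (Or.inl hE)) ha hxE'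
      have hLgrp : IsPGroup 2 L := IsPGroup.of_card hL
      have hAL : A ≤ Subgroup.normalizer (L : Set X) := by
        refine mem_normalizer_of_conj fun b hb y hy => ?_
        have hne : zpowers (⟨y, hy⟩ : L) ≠ ⊤ := fun h => hcyc (isCyclic_iff_exists_zpowers_eq_top.2 ⟨_, h⟩)
        obtain ⟨M, hM, hyM⟩ := (eq_top_or_exists_le_coatom _).resolve_left hne
        have hMn := hinv (M.map L.subtype) ((Subgroup.map_subtype_le _).trans hLP)
          (Or.inl (card_coatom hLgrp hL hM)) hb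
        exact Subgroup.map_subtype_le M
          ((Subgroup.mem_normalizer_iff.1 hMn y).1 ⟨⟨y, hy⟩, hyM (mem_zpowers _), rfl⟩)
      have hlt2 : Nat.card L < n := by
        rw [← hn, hL, hm]; exact Nat.pow_lt_pow_right (by norm_num) hbig
      have hc := ih _ hlt2 L hLgrp rfl hAL (by rw [hL]; exact Nat.pow_lt_pow_right (by norm_num) (Nat.lt_succ_self k))
        (fun E' hE' => hinv E' (hE'.trans hLP)) ha
      exact mul_inv_eq_iff_eq_mul.2 (Subgroup.mem_centralizer_iff.1 hc x (hEL hxE')).symm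
    · have hmk : Nat.card P = 2 ^ (k + 1) := by rw [hm, show m = k + 1 by omega]
      refine Cfsg.Agent.S0029.result A P hAP ?_ fun a ha x hx => ?_
      · refine Nat.Coprime.coprime_dvd_right (Subgroup.card_subgroup_dvd_card (frattini P)) ?_
        rw [hm]
        exact (Nat.coprime_two_right.mpr hA).pow_right m
      have hax : a * x * a⁻¹ ∈ P := (Subgroup.mem_normalizer_iff.1 (hAP ha) x).1 hx
      refine ⟨⟨a * x * a⁻¹, hax⟩ * ⟨x, hx⟩⁻¹, ?_, rfl⟩
      simp only [frattini, Order.radical, SetLike.mem_coe, Subgroup.mem_iInf]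
      intro M hM
      rw [Subgroup.mul_mem_iff_of_index_two (PGroups.index_eq_of_isCoatom hP hM), inv_mem_iff]
      have hMn := hinv (M.map P.subtype) (Subgroup.map_subtype_le _)
        (Or.inl (card_coatom hP hmk hM)) ha
      have h := Subgroup.mem_normalizer_iff.1 hMn x
      have h1 : x ∈ M.map P.subtype ↔ (⟨x, hx⟩ : P) ∈ M :=
        ⟨fun ⟨y, hy, e⟩ => by
          have : y = ⟨x, hx⟩ := Subtype.ext e
          rwa [this] at hy, fun h => ⟨_, h, rfl⟩⟩
      have h2 : a * x * a⁻¹ ∈ M.map P.subtype ↔ (⟨a * x * a⁻¹, hax⟩ : P) ∈ M :=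
        ⟨fun ⟨y, hy, e⟩ => by
          have : y = ⟨a * x * a⁻¹, hax⟩ := Subtype.ext e
          rwa [this] at hy, fun h => ⟨_, h, rfl⟩⟩
      rw [h1, h2] at h
      exact h.symm

end Cfsg.Agent.H72.FixSub
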