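import Cfsg.Agent.S0080
import Cfsg.Agent.Cores.Basic
import Mathlib.GroupTheory.Solvable

/-!
A soluble Hall subgroup `D` whose prime power elements are fused in the group only by elements of
`D` times elements of coprime order centralising them has a normal complement.
-/

set_option autoImplicit false
set_option linter.style.haveILetI false

namespace Cfsg.Agent.H72

open Subgroup
open scoped commutatorElement

variable {G : Type*} [Group G]

/-- Fusion in `H` of the prime power elements of `D` is made by elements of `D` and by elements of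
order prime to `|D|` centralising them. -/
def RigidFusion (H D : Subgroup G) : Prop :=
  ∀ x ∈ D, IsPrimePow (orderOf x) → ∀ h ∈ H, h * x * h⁻¹ ∈ D →
    ∃ d ∈ D, ∃ q ∈ H, Commute q x ∧ (orderOf q).Coprime (Nat.card D) ∧ h = d * q

/-- A homomorphism to a commutative group which agrees on all prime power parts agrees. -/
theorem map_eq_of_primePow_parts {D A : Type*} [Group D] [Finite D] [CommGroup A] (f : D →* A)
    (x y : D) (hxy : orderOf y = orderOf x)
    (h : ∀ k : ℕ, IsPrimePow (orderOf (x ^ k)) → f (x ^ k) = f (y ^ k)) : f x = f y := by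
  set e := f x / f y with he
  suffices he1 : e = 1 from div_eq_one.mp he1
  by_contra hne
  have heo : orderOf e ≠ 1 := fun h => hne (orderOf_eq_one_iff.mp h)
  obtain ⟨p, hp, hpe⟩ := Nat.exists_prime_and_dvd heo
  haveI : Fact p.Prime := ⟨hp⟩
  have hedvd : orderOf e ∣ orderOf x := by
    refine orderOf_dvd_of_pow_eq_one ?_
    rw [he, div_pow, ← map_pow, ← map_pow, pow_orderOf_eq_one, ← hxy, pow_orderOf_eq_one]
    simp
  have hx0 : orderOf x ≠ 0 := (orderOf_pos x).ne'
  set k := orderOf x / p ^ (orderOf x).factorization p with hk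
  have hkdvd : k ∣ orderOf x := Nat.div_dvd_of_dvd (Nat.ordProj_dvd _ _)
  have hord : orderOf (x ^ k) = p ^ (orderOf x).factorization p := by
    rw [orderOf_pow_of_dvd ?_ hkdvd, hk, Nat.div_div_self (Nat.ordProj_dvd _ _) hx0]
    exact fun h0 => hx0 (Nat.eq_zero_of_zero_dvd (h0 ▸ hkdvd))
  have hpos : 0 < (orderOf x).factorization p :=
    hp.factorization_pos_of_dvd hx0 (hpe.trans hedvd)
  have hek : e ^ k = 1 := by
    rw [he, div_pow, ← map_pow, ← map_pow,
      h k (hord ▸ hp.isPrimePow.pow hpos.ne'), div_self']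
  exact Nat.not_dvd_ordCompl hp hx0 (hpe.trans (orderOf_dvd_of_pow_eq_one hek))

variable [Finite G]

/-- Rigid fusion makes the focal subgroup as small as possible. -/
theorem commutator_inf_eq (D : Subgroup G) (hcop : (Nat.card D).Coprime D.index)
    (hfus : RigidFusion ⊤ D) : commutator G ⊓ D = ⁅D, D⁆ := by
  have h80 := Cfsg.Agent.S0080.result D
    (hcop.coprime_dvd_left (Subgroup.relIndex_dvd_card _ _)).symm
  rw [← h80.1]
  refine le_antisymm ?_ (Subgroup.commutator_le_focalSubgroup D)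
  rw [Subgroup.focalSubgroup, closure_le]
  rintro _ ⟨hgD, x, hx, u, rfl⟩
  have huD : u * x * u⁻¹ ∈ D := by
    have h := inv_mem (mul_mem (inv_mem hx) hgD)
    rw [show (x⁻¹ * ⁅x, u⁆)⁻¹ = u * x * u⁻¹ by simp only [commutatorElement_def]; group] at h
    exact h
  set f := (Abelianization.of : D →* Abelianization D) with hf
  have key : f ⟨x, hx⟩ = f ⟨_, huD⟩ := by
    refine map_eq_of_primePow_parts f _ _ ?_ fun k hk => ?_
    · simp only [← Subgroup.orderOf_coe]
      exact (MulAut.conj u).orderOf_eq x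
    · rw [← Subgroup.orderOf_coe] at hk
      have hconj : u * x ^ k * u⁻¹ ∈ D := by
        rw [← conj_pow]
        exact pow_mem huD k
      obtain ⟨d, hd, q, -, hq, -, rfl⟩ :=
        hfus (x ^ k) (pow_mem hx k) hk u (mem_top _) hconj
      have e : ((⟨_, huD⟩ : D) ^ k) = ⟨d, hd⟩ * ⟨x, hx⟩ ^ k * ⟨d, hd⟩⁻¹ := Subtype.ext (by
        simp only [SubgroupClass.coe_pow, Subgroup.coe_mul, Subgroup.coe_inv, conj_pow]
        rw [mul_inv_rev, mul_assoc d q, hq.eq]
        group)
      rw [e, map_mul, map_mul, map_inv, mul_inv_cancel_comm]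
  have hmem : (⟨_, hgD⟩ : D) ∈ commutator D := by
    rw [← Abelianization.ker_of, MonoidHom.mem_ker,
      show (⟨⁅x, u⁆, hgD⟩ : D) = ⟨x, hx⟩ * (⟨u * x * u⁻¹, huD⟩ : D)⁻¹ from Subtype.ext (by
        simp only [Subgroup.coe_mul, Subgroup.coe_inv, commutatorElement_def]; group),
      map_mul, map_inv, ← hf, key, mul_inv_cancel]
  have h := Subgroup.mem_map_of_mem D.subtype hmem
  rwa [Subgroup.map_subtype_commutator] at h

/-- A soluble Hall subgroup with rigid fusion has a normal complement, consisting of the elements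
of order prime to its order. -/
theorem exists_complement_of_rigidFusion (H D : Subgroup G) (hDH : D ≤ H) [Group.IsSolvable D]
    (hcop : (Nat.card D).Coprime (D.relIndex H)) (hfus : RigidFusion H D) :
    ∃ Q : Subgroup G, (∀ g, g ∈ Q ↔ g ∈ H ∧ (orderOf g).Coprime (Nat.card D)) ∧
      Nat.card Q * Nat.card D = Nat.card H := by
  induction hn : Nat.card D using Nat.strong_induction_on generalizing H D with
  | _ n ih =>
  subst hn
  by_cases hD : D = ⊥
  · subst hD
    exact ⟨H, fun g => by simp, by simp⟩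
  set D₀ := D.subgroupOf H with hD₀
  have hcard₀ : Nat.card D₀ = Nat.card D := Nat.card_congr (subgroupOfEquivOfLe hDH).toEquiv
  have hcop₀ : (Nat.card D₀).Coprime D₀.index := hcard₀.symm ▸ hcop
  have hfus₀ : RigidFusion (⊤ : Subgroup H) D₀ := by
    intro x hx hpp h _ hh
    obtain ⟨d, hd, q, hq, hqx, hqc, e⟩ :=
      hfus x hx (by rwa [Subgroup.orderOf_coe]) h h.2 hh
    exact ⟨⟨d, hDH hd⟩, hd, ⟨q, hq⟩, mem_top _, Subtype.ext hqx.eq,
      by rw [hcard₀, ← Subgroup.orderOf_coe]; exact hqc, Subtype.ext e⟩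
  have hfoc := commutator_inf_eq D₀ hcop₀ hfus₀
  obtain ⟨-, N, hN, hND, hNsup⟩ := Cfsg.Agent.S0080.result D₀
    (hcop₀.coprime_dvd_left (Subgroup.relIndex_dvd_card _ _)).symm
  rw [hfoc] at hND
  set D₁ := ⁅D, D⁆ with hD₁
  set H₁ := N.map H.subtype with hH₁
  have hD₁D : D₁ ≤ D := Subgroup.commutator_le_self D
  have hmap₁ : (⁅D₀, D₀⁆).map H.subtype = D₁ := by
    rw [Subgroup.map_commutator, hD₀, subgroupOf_map_subtype, inf_eq_left.mpr hDH]
  have hD₁H₁ : D₁ ≤ H₁ := hmap₁ ▸ Subgroup.map_mono (hND ▸ inf_le_left)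
  have hinf : ∀ g ∈ H₁, g ∈ D → g ∈ D₁ := by
    rintro _ ⟨g, hg, rfl⟩ hgD
    exact hmap₁ ▸ Subgroup.mem_map_of_mem _ (hND ▸ (⟨hg, hgD⟩ : g ∈ N ⊓ D₀))
  -- orders
  have hcN : Nat.card H₁ = Nat.card N := Subgroup.card_map_of_injective H.subtype_injective
  have hprod : Nat.card H * Nat.card D₁ = Nat.card D * Nat.card H₁ := by
    have h := Cores.card_sup_mul_card_inf D₀ N
    rw [sup_comm, hNsup, inf_comm, hND, hcard₀, Subgroup.card_top] at h
    rw [hcN, ← h, ← hmap₁, Subgroup.card_map_of_injective H.subtype_injective]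
  have hrel : D₁.relIndex H₁ = D.relIndex H := by
    have h1 : Nat.card D₁ * D₁.relIndex H₁ = Nat.card H₁ := by
      rw [← Subgroup.relIndex_bot_left, ← Subgroup.relIndex_bot_left]
      exact Subgroup.relIndex_mul_relIndex _ _ _ bot_le hD₁H₁
    have h2 : Nat.card D * D.relIndex H = Nat.card H := by
      rw [← Subgroup.relIndex_bot_left, ← Subgroup.relIndex_bot_left]
      exact Subgroup.relIndex_mul_relIndex _ _ _ bot_le hDH
    refine Nat.eq_of_mul_eq_mul_left (Nat.mul_pos (Nat.card_pos (α := D)) (Nat.card_pos (α := D₁))) ?_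
    calc Nat.card D * Nat.card D₁ * D₁.relIndex H₁ = Nat.card D * Nat.card H₁ := by
          rw [mul_assoc, h1]
      _ = Nat.card D * Nat.card D₁ * D.relIndex H := by rw [← hprod, ← h2]; ring
  -- elements of order prime to `|D|` lie in `H₁`
  have hmemH₁ : ∀ g ∈ H, (orderOf g).Coprime (Nat.card D) → g ∈ H₁ := by
    intro g hg hgc
    refine ⟨⟨g, hg⟩, ?_, rfl⟩
    have hidx : N.index ∣ Nat.card D := by
      rw [← relIndex_top_right, ← hNsup, relIndex_sup_left, ← hcard₀]
      exact Subgroup.relIndex_dvd_card _ _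
    rw [SetLike.mem_coe, ← QuotientGroup.eq_one_iff, ← orderOf_eq_one_iff]
    refine Nat.eq_one_of_dvd_coprimes hgc ?_ ?_
    · exact (orderOf_map_dvd (QuotientGroup.mk' N) _).trans (Subgroup.orderOf_coe (⟨g, hg⟩ : H)).symm.dvd
    · exact (_root_.orderOf_dvd_natCard _).trans (by rwa [← Subgroup.index_eq_card])
  have hsolv : Group.IsSolvable D₁ :=
    Group.isSolvable_of_isSolvable_injective (f := inclusion hD₁D) (inclusion_injective hD₁D)
  have hcardlt : Nat.card D₁ < Nat.card D := by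
    haveI : Nontrivial D := (Subgroup.nontrivial_iff_ne_bot D).mpr hD
    have hne : commutator D ≠ ⊤ := (Group.IsSolvable.commutator_lt_top_of_nontrivial (G := D)).ne
    rw [hD₁, ← Subgroup.map_subtype_commutator, Subgroup.card_map_of_injective D.subtype_injective]
    exact lt_of_le_of_ne (Subgroup.card_le_card_group _) fun h =>
      hne (Subgroup.eq_top_of_card_eq _ h)
  have hdvd : Nat.card D₁ ∣ Nat.card D := Subgroup.card_dvd_of_le hD₁D
  haveI := hsolv
  obtain ⟨Q, hQ, hQc⟩ := ih _ hcardlt H₁ D₁ hD₁H₁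
    (hrel.symm ▸ hcop.coprime_dvd_left hdvd) (fun x hx hpp h hh hhx => by
      obtain ⟨d, hd, q, hq, hqx, hqc, e⟩ :=
        hfus x (hD₁D hx) hpp h (Subgroup.map_subtype_le _ hh) (hD₁D hhx)
      have hq₁ := hmemH₁ q hq hqc
      refine ⟨d, hinf d ?_ hd, q, hq₁, hqx, hqc.coprime_dvd_right hdvd, e⟩
      rw [show d = h * q⁻¹ by rw [e, mul_inv_cancel_right]]
      exact mul_mem hh (inv_mem hq₁)) rfl
  have hQcard : Nat.card Q * Nat.card D = Nat.card H := by
    refine Nat.eq_of_mul_eq_mul_right (Nat.card_pos (α := D₁)) ?_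
    rw [hprod, ← hQc]; ring
  refine ⟨Q, fun g => ⟨fun hg => ⟨Subgroup.map_subtype_le _ ((hQ g).mp hg).1, ?_⟩,
    fun hg => (hQ g).mpr ⟨hmemH₁ g hg.1 hg.2, hg.2.coprime_dvd_right hdvd⟩⟩, hQcard⟩
  refine Nat.Coprime.coprime_dvd_left (Subgroup.orderOf_dvd_natCard Q hg) ?_
  have h2 : Nat.card D * D.relIndex H = Nat.card H := by
    rw [← Subgroup.relIndex_bot_left, ← Subgroup.relIndex_bot_left]
    exact Subgroup.relIndex_mul_relIndex _ _ _ bot_le hDH
  rw [Nat.eq_of_mul_eq_mul_left (Nat.card_pos (α := D))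
    ((mul_comm (Nat.card D) _).trans (hQcard.trans h2.symm))]
  exact hcop.symm

/-- The complement as a normal subgroup of `H` meeting `D` trivially. -/
theorem exists_normal_complement_of_rigidFusion (H D : Subgroup G) (hDH : D ≤ H)
    [Group.IsSolvable D] (hcop : (Nat.card D).Coprime (D.relIndex H)) (hfus : RigidFusion H D) :
    ∃ Q : Subgroup G, Q ≤ H ∧ H ≤ normalizer (Q : Set G) ∧ Q ⊓ D = ⊥ ∧
      Nat.card Q * Nat.card D = Nat.card H ∧
      ∀ g, g ∈ Q ↔ g ∈ H ∧ (orderOf g).Coprime (Nat.card D) := by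
  obtain ⟨Q, hQ, hcard⟩ := exists_complement_of_rigidFusion H D hDH hcop hfus
  refine ⟨Q, fun g hg => ((hQ g).mp hg).1, fun h hh => ?_, ?_, hcard, hQ⟩
  · refine Subgroup.mem_normalizer_iff.mpr fun g => ?_
    rw [hQ, hQ]
    refine and_congr ⟨fun hg => mul_mem (mul_mem hh hg) (inv_mem hh), fun hg => ?_⟩ ?_
    · simpa [mul_assoc] using mul_mem (mul_mem (inv_mem hh) hg) hh
    · rw [show orderOf (h * g * h⁻¹) = orderOf g from (MulAut.conj h).orderOf_eq g]
  · refine (Subgroup.eq_bot_iff_forall _).mpr fun g hg => orderOf_eq_one_iff.mp ?_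
    exact Nat.eq_one_of_dvd_coprimes ((hQ g).mp hg.1).2 dvd_rfl
      (Subgroup.orderOf_dvd_natCard D hg.2)

end Cfsg.Agent.H72
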