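import Cfsg.Agent.H72.Asymmetric
import Cfsg.Agent.Fusion.PResidual
import Cfsg.Agent.H59.PIrred

/-!
Structure of a minimal overgroup of `O_p(M)` outside whose core `Y_M` lies.
-/

set_option autoImplicit false
set_option linter.style.haveILetI false
set_option linter.unusedSectionVars false
set_option linter.unusedVariables false

namespace Cfsg.Agent.H72.FrakH

open Subgroup
open scoped commutatorElement
open H60 (cj)

variable {G : Type*} [Group G] [Finite G] {p : ℕ} [Fact p.Prime]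

/-- The standing hypotheses for a minimal overgroup `H`. -/
structure Ctx (p : ℕ) (S : Sylow p G) (Q M H : Subgroup G) : Prop where
  base : Asymmetric.Setup p S Q M
  hasym : ¬ Cfsg.IsSymmetricIn (Cfsg.largestPReducedOf p M)
  hH : Cfsg.IsInFrakH p M H

variable {S : Sylow p G} {Q M H : Subgroup G}

local notation "Y[" p ", " M "]" => Cfsg.largestPReducedOf p M
local notation "P[" p ", " M "]" => Cfsg.pCoreOf p M
local notation "R[" p ", " H "]" => Subgroup.map (Subgroup.subtype H) (Cfsg.pResidual p H)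

theorem Ctx.p_le (c : Ctx p S Q M H) : P[p, M] ≤ H := c.hH.2.1

theorem Ctx.y_le (c : Ctx p S Q M H) : Y[p, M] ≤ H := (H60.yOf_le_pCoreOf M).trans c.p_le

theorem Ctx.not_le (c : Ctx p S Q M H) : ¬ Y[p, M] ≤ Cfsg.pCoreOf p H := c.hH.2.2.1

theorem Ctx.small (c : Ctx p S Q M H) {K : Subgroup G} (hPK : P[p, M] ≤ K) (hK : K ≤ H) (hne : K ≠ H) :
    Y[p, M] ≤ Cfsg.pCoreOf p K := c.hH.2.2.2 K hPK (lt_of_le_of_ne hK hne)

theorem pCoreOf_le_pCoreOf_of_normal {H N : Subgroup G} (hN : N ≤ H)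
    (hn : H ≤ normalizer (N : Set G)) : Cfsg.pCoreOf p N ≤ Cfsg.pCoreOf p H :=
  H60.le_pCoreOf ((H60.pCoreOf_le N).trans hN) (hn.trans (H60.normalizer_le_normalizer_pCoreOf N))
    (H60.pCoreOf_isPGroup N)

theorem le_pCoreOf_of_le {U J A : Subgroup G} (hUJ : U ≤ J) (hA : A ≤ U) (hAJ : A ≤ Cfsg.pCoreOf p J) :
    A ≤ Cfsg.pCoreOf p U :=
  (le_inf hA hAJ).trans (H60.le_pCoreOf inf_le_left
    (H60.le_normalizer_inf Subgroup.le_normalizer (hUJ.trans (H60.le_normalizer_pCoreOf J)))
    (H60.pCoreOf_isPGroup J).to_inf_right)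

/-- A normal subgroup of `H` over `O_p(M)` is everything. -/
theorem Ctx.eq_of_normal (c : Ctx p S Q M H) {K : Subgroup G} (hPK : P[p, M] ≤ K) (hK : K ≤ H)
    (hn : H ≤ normalizer (K : Set G)) : K = H := by
  by_contra hne
  exact c.not_le ((c.small hPK hK hne).trans (pCoreOf_le_pCoreOf_of_normal hK hn))

theorem residual_le (H : Subgroup G) : R[p, H] ≤ H := map_subtype_le _

theorem le_normalizer_residual (H : Subgroup G) : H ≤ normalizer (R[p, H] : Set G) := by
  rw [le_normalizer_iff]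
  rintro h hh _ ⟨x, hx, rfl⟩
  exact ⟨⟨h, hh⟩ * x * ⟨h, hh⟩⁻¹, (inferInstance : (Cfsg.pResidual p H).Normal).conj_mem x hx _, rfl⟩

theorem mem_residual {x : G} (hxH : x ∈ H) (hx : (orderOf x).Coprime p) : x ∈ R[p, H] :=
  Fusion.mem_pResidual_subgroup hxH hx

/-- A normal subgroup that, with a `p`-subgroup, generates `H` contains `O^p(H)`. -/
theorem residual_le_of_sup {N T : Subgroup G} (hN : N ≤ H) (hn : H ≤ normalizer (N : Set G))
    (hT : IsPGroup p T) (hTH : T ≤ H) (hsup : H ≤ N ⊔ T) : R[p, H] ≤ N := by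
  rw [map_le_iff_le_comap]
  refine H59.pResidual_le_of_forall_pow fun x => ?_
  have hx : (x : G) ∈ N ⊔ T := hsup x.2
  rw [← SetLike.mem_coe, Subgroup.coe_mul_of_right_le_normalizer_left N T (hTH.trans hn)] at hx
  obtain ⟨a, ha, b, hb, hab⟩ := hx
  obtain ⟨k, hk⟩ := hT ⟨b, hb⟩
  refine ⟨k, ?_⟩
  show ((x ^ p ^ k : H) : G) ∈ N
  rw [Subgroup.coe_pow, ← hab]
  have key : ∀ n : ℕ, ∃ a' ∈ N, (a * b) ^ n = a' * b ^ n := by
    intro n
    induction n with
    | zero => exact ⟨1, one_mem _, by simp⟩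
    | succ n ih =>
      obtain ⟨a', ha', he⟩ := ih
      refine ⟨a' * (b ^ n * a * (b ^ n)⁻¹), mul_mem ha'
        ((mem_normalizer_iff.1 (hn (H.pow_mem (hTH hb) n)) a).1 ha), ?_⟩
      rw [pow_succ, he, pow_succ]; group
  obtain ⟨a', ha', he⟩ := key (p ^ k)
  rw [he, show b ^ p ^ k = 1 from congrArg Subtype.val hk, mul_one]
  exact ha'

/-- Every overgroup of `O_p(M)` has a Sylow subgroup over `O_p(M)` normalizing it. -/
theorem exists_sylow (h : Asymmetric.Setup p S Q M) (hasym : ¬ Cfsg.IsSymmetricIn Y[p, M])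
    {L : Subgroup G} (hPL : P[p, M] ≤ L) :
    ∃ T : Sylow p L, P[p, M] ≤ (T : Subgroup L).map L.subtype ∧
      (T : Subgroup L).map L.subtype ≤ normalizer (P[p, M] : Set G) := by
  obtain ⟨T, hT⟩ := ((H60.pCoreOf_isPGroup M).comap_subtype :
    IsPGroup p ((P[p, M]).subgroupOf L)).exists_le_sylow
  have hPT : P[p, M] ≤ (T : Subgroup L).map L.subtype := fun x hx => ⟨⟨x, hPL hx⟩, hT hx, rfl⟩
  exact ⟨T, hPT, Subgroup.le_normalizer.trans (h.normalizer_le hasym (T.isPGroup'.map _) hPT)⟩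

theorem pCoreOf_le_normalizer (h : Asymmetric.Setup p S Q M) (hasym : ¬ Cfsg.IsSymmetricIn Y[p, M])
    {L : Subgroup G} (hPL : P[p, M] ≤ L) :
    Cfsg.pCoreOf p L ≤ normalizer (P[p, M] : Set G) := by
  obtain ⟨T, -, hT⟩ := exists_sylow h hasym hPL
  exact (Subgroup.map_mono (Cores.pCore_le_sylow T)).trans hT

theorem sylow_sup_residual (T : Sylow p H) : (T : Subgroup H).map H.subtype ⊔ R[p, H] = H := by
  rw [← Subgroup.map_sup, Fusion.sylow_sup_pResidual T, ← MonoidHom.range_eq_map, Subgroup.range_subtype]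

theorem Ctx.residual_sup (c : Ctx p S Q M H) : R[p, H] ⊔ P[p, M] = H := by
  obtain ⟨T, hPT, hTN⟩ := exists_sylow c.base c.hasym c.p_le
  refine c.eq_of_normal le_sup_right (sup_le (residual_le H) c.p_le) ?_
  refine (sylow_sup_residual T).ge.trans (sup_le ?_ (le_sup_left.trans Subgroup.le_normalizer))
  exact H60.le_normalizer_sup ((map_subtype_le _).trans (le_normalizer_residual H)) hTN

theorem cj_le_of_le_normalizer {A B : Subgroup G} (hAB : A ≤ normalizer (B : Set G)) {a : G}
    (ha : a ∈ A) : cj B a = B := H60.cj_eq_self_iff.2 (hAB ha)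

theorem le_normalizer_commutator {A B C : Subgroup G} (hB : A ≤ normalizer (B : Set G))
    (hC : A ≤ normalizer (C : Set G)) : A ≤ normalizer ((⁅B, C⁆ : Subgroup G) : Set G) := fun a ha =>
  H60.cj_eq_self_iff.1 (by
    show ⁅B, C⁆.map _ = _
    rw [Subgroup.map_commutator]
    exact congrArg₂ (fun X Z : Subgroup G => ⁅X, Z⁆) (cj_le_of_le_normalizer hB ha)
      (cj_le_of_le_normalizer hC ha))

theorem le_normalizer_sup_of_commutator_le {A B C : Subgroup G} (hAB : A ≤ normalizer (B : Set G))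
    (hAC : ⁅A, C⁆ ≤ B) : A ≤ normalizer ((B ⊔ C : Subgroup G) : Set G) := fun a ha => by
  refine H60.cj_eq_self_iff.1 (eq_of_le_of_card_ge ?_ (H60.card_cj _ a).ge)
  rw [H60.cj_sup]
  refine sup_le ((cj_le_of_le_normalizer hAB ha).le.trans le_sup_left) ?_
  rintro _ ⟨x, hx, rfl⟩
  have h1 := mul_mem (mem_sup_left (T := C) (hAC (commutator_mem_commutator ha hx)))
    (mem_sup_right (S := B) hx)
  rw [commutatorElement_def, inv_mul_cancel_right] at h1
  exact h1

theorem Ctx.commutator_residual (c : Ctx p S Q M H) : ⁅R[p, H], Y[p, M]⁆ = R[p, H] := by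
  obtain ⟨T, hPT, hTN⟩ := exists_sylow c.base c.hasym c.p_le
  set Tg := (T : Subgroup H).map H.subtype with hTg
  set R := R[p, H] with hR
  set Y := Y[p, M] with hY
  set K := ⁅R, Y⁆ with hK
  have hTH : Tg ≤ H := map_subtype_le _
  have hKR : K ≤ R := by
    rw [hK, commutator_comm]
    exact H60.commutator_le_of_le_normalizer (c.y_le.trans (le_normalizer_residual H))
  have hTY : Tg ≤ normalizer (Y : Set G) := hTN.trans c.base.normalizer_pCoreOf_le
  have hTK : Tg ≤ normalizer (K : Set G) :=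
    le_normalizer_commutator (hTH.trans (le_normalizer_residual H)) hTY
  have hHK : H ≤ normalizer (K : Set G) :=
    (sylow_sup_residual T).ge.trans (sup_le hTK (normalizer_commutator_ge_left R Y))
  refine le_antisymm hKR (residual_le_of_sup (p := p) (hKR.trans (residual_le H)) hHK (T.isPGroup'.map _) hTH ?_)
  refine le_of_eq (Eq.symm (by_contra fun hne => c.not_le ?_))
  have hJ := c.small (hPT.trans le_sup_right) (sup_le (hKR.trans (residual_le H)) hTH) hne
  have hYU : Y ≤ K ⊔ Y := le_sup_right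
  have hUJ : K ⊔ Y ≤ K ⊔ Tg := sup_le le_sup_left (((H60.yOf_le_pCoreOf M).trans hPT).trans le_sup_right)
  refine (le_pCoreOf_of_le hUJ hYU hJ).trans (pCoreOf_le_pCoreOf_of_normal
    (sup_le (hKR.trans (residual_le H)) c.y_le) ?_)
  exact (sylow_sup_residual T).ge.trans (sup_le (H60.le_normalizer_sup hTK hTY)
    (le_normalizer_sup_of_commutator_le (normalizer_commutator_ge_left R Y) le_rfl))

theorem map_normalClosure_eq {A N : Subgroup G} (hA : A ≤ N) (hN : N ≤ H)
    (hn : H ≤ normalizer (N : Set G)) :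
    (normalClosure ((A.subgroupOf H : Subgroup H) : Set H)).map H.subtype ≤ N := by
  rw [map_le_iff_le_comap]
  haveI : (N.subgroupOf H).Normal := (normal_subgroupOf_iff_le_normalizer hN).2 hn
  exact normalClosure_le_normal (N := N.subgroupOf H) fun x hx => hA hx

theorem le_map_normalClosure {A : Subgroup G} (hA : A ≤ H) :
    A ≤ (normalClosure ((A.subgroupOf H : Subgroup H) : Set H)).map H.subtype := fun a ha =>
  ⟨⟨a, hA ha⟩, subset_normalClosure ha, rfl⟩

theorem le_normalizer_map_normalClosure (A : Subgroup G) :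
    H ≤ normalizer (((normalClosure ((A.subgroupOf H : Subgroup H) : Set H)).map H.subtype :
      Subgroup G) : Set G) := by
  rw [le_normalizer_iff]
  rintro h hh _ ⟨x, hx, rfl⟩
  exact ⟨⟨h, hh⟩ * x * ⟨h, hh⟩⁻¹, normalClosure_normal.conj_mem x hx _, rfl⟩

theorem Ctx.normalClosure_y (c : Ctx p S Q M H) :
    R[p, H] ⊔ Y[p, M] =
      (normalClosure (((Y[p, M]).subgroupOf H : Subgroup H) : Set H)).map H.subtype := by
  obtain ⟨T, hPT, hTN⟩ := exists_sylow c.base c.hasym c.p_le
  refine le_antisymm (sup_le ?_ (le_map_normalClosure c.y_le)) ?_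
  · rw [← c.commutator_residual]
    refine commutator_le.2 fun r hr y hy => ?_
    have hn := le_normalizer_map_normalClosure (H := H) Y[p, M] (residual_le H hr)
    exact mul_mem ((mem_normalizer_iff.1 hn _).1 (le_map_normalClosure c.y_le hy))
      (inv_mem (le_map_normalClosure c.y_le hy))
  · refine map_normalClosure_eq le_sup_right (sup_le (residual_le H) c.y_le) ?_
    refine (sylow_sup_residual T).ge.trans (sup_le ?_ (le_sup_left.trans Subgroup.le_normalizer))
    exact H60.le_normalizer_sup ((map_subtype_le _).trans (le_normalizer_residual H))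
      (hTN.trans c.base.normalizer_pCoreOf_le)

theorem Ctx.normalClosure_p (c : Ctx p S Q M H) :
    (normalClosure (((P[p, M]).subgroupOf H : Subgroup H) : Set H)).map H.subtype = H :=
  c.eq_of_normal (le_map_normalClosure c.p_le) (map_subtype_le _) (le_normalizer_map_normalClosure _)

theorem exists_sylow_map_eq {H J : Subgroup G} (hJH : J ≤ H) (T₀ : Sylow p H)
    (h1 : (T₀ : Subgroup H).map H.subtype ≤ J) (T : Sylow p J) :
    ∃ P : Sylow p H, (P : Subgroup H).map H.subtype = (T : Subgroup J).map J.subtype := by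
  set Tg := (T : Subgroup J).map J.subtype with hTg
  have hTH : Tg ≤ H := (map_subtype_le _).trans hJH
  obtain ⟨P, hP⟩ := ((T.isPGroup'.map J.subtype).comap_subtype :
    IsPGroup p (Tg.subgroupOf H)).exists_le_sylow
  have hle : Tg ≤ (P : Subgroup H).map H.subtype := fun x hx => ⟨⟨x, hTH hx⟩, hP hx, rfl⟩
  refine ⟨P, (eq_of_le_of_card_ge hle ?_).symm⟩
  obtain ⟨T₁, hT₁⟩ := ((T₀.isPGroup'.map H.subtype).comap_subtype :
    IsPGroup p (((T₀ : Subgroup H).map H.subtype).subgroupOf J)).exists_le_sylow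
  rw [hTg, Subgroup.card_map_of_injective J.subtype_injective,
    Subgroup.card_map_of_injective H.subtype_injective, P.card_eq_multiplicity,
    ← T₀.card_eq_multiplicity, T.card_eq_multiplicity, ← T₁.card_eq_multiplicity]
  refine le_trans (le_of_eq ?_) (Subgroup.card_le_of_le hT₁)
  show _ = Nat.card (((T₀ : Subgroup H).map H.subtype).subgroupOf J)
  rw [Nat.card_congr (Subgroup.subgroupOfEquivOfLe h1).toEquiv,
    Subgroup.card_map_of_injective H.subtype_injective]

theorem Ctx.sylow_parabolic (c : Ctx p S Q M H)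
    (T : Sylow p ↥(H ⊓ (M ⊔ centralizer (Y[p, M] : Set G)))) :
    ∃ P : Sylow p ↥H, ((P : Subgroup ↥H).map H.subtype) =
      (T : Subgroup ↥(H ⊓ (M ⊔ centralizer (Y[p, M] : Set G)))).map
        (H ⊓ (M ⊔ centralizer (Y[p, M] : Set G))).subtype := by
  obtain ⟨T₀, hT₀⟩ := c.base.parabolic_inf c.hasym c.p_le
  refine exists_sylow_map_eq inf_le_left T₀ ?_ T
  rintro _ ⟨x, hx, rfl⟩
  exact (hT₀ hx : (x : G) ∈ H ⊓ (M ⊔ centralizer (Y[p, M] : Set G)))

end Cfsg.Agent.H72.FrakH
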