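import Cfsg.Agent.H72.FrakH

/-!
`H·Q^g` is `p`-irreducible for a minimal overgroup `H`.
-/

set_option autoImplicit false
set_option linter.style.haveILetI false
set_option linter.unusedSectionVars false
set_option linter.unusedVariables false

namespace Cfsg.Agent.H72.FrakH

open Subgroup
open scoped commutatorElement
open H60 (cj)

variable {G : Type*} [Group G] [Finite G] {p : ℕ} [Fact p.Prime]

/-- A normal subgroup which is a `p`-extension of a central subgroup has order prime to `p`
when `O_p = 1`. -/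
theorem not_dvd_card_of_central (hO : Cfsg.pCore p G = ⊥) {N X : Subgroup G} [N.Normal]
    (hX : X ≤ N) (hNX : N ≤ centralizer (X : Set G)) (hpow : ∀ n ∈ N, ∃ k, n ^ p ^ k ∈ X) :
    ¬ p ∣ Nat.card N := by
  obtain ⟨T⟩ := Sylow.nonempty (p := p) (G := N)
  set X' := X.subgroupOf N with hX'
  have hcen : ∀ x ∈ X', ∀ t : N, x * t = t * x := fun x hx t =>
    Subtype.ext (mem_centralizer_iff.1 (hNX t.2) _ hx)
  haveI : X'.Normal := ⟨fun x hx g => by rwa [← hcen x hx g, mul_inv_cancel_right]⟩
  have h1 : Cfsg.pResidual p N ≤ X' :=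
    H59.pResidual_le_of_forall_pow fun n => hpow (n : G) n.2
  have hTn : (T : Subgroup N).Normal := by
    rw [← Subgroup.normalizer_eq_top_iff, eq_top_iff, ← Fusion.sylow_sup_eq_top T h1]
    refine sup_le Subgroup.le_normalizer fun x hx => mem_normalizer_iff.2 fun t => ?_
    rw [hcen x hx t, mul_inv_cancel_right]
  have h2 : (T : Subgroup N) = ⊥ := by
    have h3 : (T : Subgroup N).map N.subtype ≤ Cfsg.pCore p G :=
      (Subgroup.map_mono (Cores.le_pCore (N := (T : Subgroup N)) T.isPGroup')).trans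
        (Cores.map_pCore_le_of_normal N)
    rw [hO, le_bot_iff, Subgroup.map_eq_bot_iff_of_injective _ N.subtype_injective] at h3
    exact h3
  have h3 := T.not_dvd_index
  rwa [h2, Subgroup.index_bot] at h3

/-- The abstract form of the irreducibility argument. -/
theorem not_dvd_card_of_residual (hO : Cfsg.pCore p G = ⊥) {N R X Y : Subgroup G}
    [N.Normal] [X.Normal] (hR : ⁅R, Y⁆ = R) (hXN : X ≤ N) (hXR : X ≤ R) (hNR : ⁅N, R⁆ ≤ X)
    (hpow : ∀ n ∈ N, ∃ k, n ^ p ^ k ∈ X) (hXY : ⁅X, Y⁆ = ⊥) : ¬ p ∣ Nat.card N := by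
  set C := centralizer (X : Set G) with hC
  have hCn : C.Normal := normal_centralizer
  have hYC : Y ≤ C := by rwa [← commutator_eq_bot_iff_le_centralizer, commutator_comm]
  have hRC : R ≤ C := by
    rw [← hR]
    refine commutator_le.2 fun r _ y hy => ?_
    exact C.mul_mem (hCn.conj_mem y (hYC hy) r) (C.inv_mem (hYC hy))
  set B := N ⊓ C with hB
  have hXB : X ≤ B := le_inf hXN (hXR.trans hRC)
  have hBX : B ≤ X := by
    intro b hb
    obtain ⟨k, hk⟩ := hpow b hb.1
    refine H59.mem_of_pow_prime_pow_mem ?_ hk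
    have hcard := not_dvd_card_of_central hO hXB inf_le_right fun n hn => hpow n hn.1
    exact ((Fact.out : p.Prime).coprime_iff_not_dvd.2 fun hd =>
      hcard (hd.trans (B.orderOf_dvd_natCard hb))).symm
  have hYN : ⁅Y, N⁆ ≤ X := by
    refine le_trans (le_inf (Subgroup.commutator_le_right Y N) ?_) hBX
    exact commutator_le.2 fun y hy n _ => by
      rw [commutatorElement_def, mul_assoc, mul_assoc]
      refine C.mul_mem (hYC hy) ?_
      rw [← mul_assoc]
      exact hCn.conj_mem _ (C.inv_mem (hYC hy)) n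
  have h1 : ⁅⁅Y, N⁆, R⁆ = ⊥ := by
    refine le_bot_iff.1 ((commutator_mono hYN le_rfl).trans (le_of_eq ?_))
    rw [commutator_comm, commutator_eq_bot_iff_le_centralizer]; exact hRC
  have h2 : ⁅⁅N, R⁆, Y⁆ = ⊥ :=
    le_bot_iff.1 ((commutator_mono hNR le_rfl).trans hXY.le)
  have h3 := commutator_commutator_eq_bot_of_rotate h1 h2
  rw [hR, commutator_comm, commutator_eq_bot_iff_le_centralizer] at h3
  exact not_dvd_card_of_central hO hXN (h3.trans (centralizer_le hXR)) hpow

variable {S : Sylow p G} {Q M H : Subgroup G}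

local notation "Y[" p ", " M "]" => Cfsg.largestPReducedOf p M
local notation "P[" p ", " M "]" => Cfsg.pCoreOf p M
local notation "R[" p ", " H "]" => Subgroup.map (Subgroup.subtype H) (Cfsg.pResidual p H)

theorem normalizer_le_normalizer_residual (H : Subgroup G) :
    normalizer (H : Set G) ≤ normalizer (R[p, H] : Set G) := fun n hn => by
  refine H60.cj_eq_self_iff.1 (eq_of_le_of_card_ge ?_ (H60.card_cj _ n).ge)
  rw [map_le_iff_le_comap, map_le_iff_le_comap]
  refine Fusion.pResidual_le.2 fun g hg => ?_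
  refine mem_residual ((mem_normalizer_iff.1 hn _).1 g.2) ?_
  show (orderOf (n * (g : G) * n⁻¹)).Coprime p
  rw [show orderOf (n * (g : G) * n⁻¹) = orderOf (g : G) from (MulAut.conj n).orderOf_eq (g : G),
    Subgroup.orderOf_coe]
  exact hg

/-- The conclusions of S2854 for a subgroup `A` normalized by `H`. -/
theorem Ctx.with_normalized (c : Ctx p S Q M H) {A : Subgroup G} (hA : IsPGroup p A)
    (hHA : H ≤ normalizer (A : Set G)) :
    A ≤ Cfsg.pCoreOf p (H ⊔ A) ∧ Cfsg.pCoreOf p (H ⊔ A) ≤ normalizer (P[p, M] : Set G) ∧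
    (H.subgroupOf (H ⊔ A)).Normal ∧ R[p, H] = R[p, (H ⊔ A : Subgroup G)] ∧
    Cfsg.IsPIrreducible p ↥(H ⊔ A) := by
  set L := H ⊔ A with hL
  have hHL : H ≤ L := le_sup_left
  have hPL : P[p, M] ≤ L := c.p_le.trans hHL
  have hAW : A ≤ Cfsg.pCoreOf p L :=
    H60.le_pCoreOf le_sup_right (sup_le hHA Subgroup.le_normalizer) hA
  have hWP := pCoreOf_le_normalizer c.base c.hasym hPL
  have hAP : A ≤ normalizer (P[p, M] : Set G) := hAW.trans hWP
  have hAH : A ≤ normalizer (H : Set G) := by
    intro a ha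
    refine H60.cj_eq_self_iff.1 (eq_of_le_of_card_ge ?_ (H60.card_cj _ a).ge)
    conv_lhs => rw [← c.normalClosure_p]
    rw [map_le_iff_le_comap, map_le_iff_le_comap]
    refine (closure_le _).2 fun z hz => ?_
    obtain ⟨y, hy, hyz⟩ := Group.mem_conjugatesOfSet_iff.1 hz
    obtain ⟨u, rfl⟩ := isConj_iff.1 hyz
    show a * ((u : G) * (y : G) * (u : G)⁻¹) * a⁻¹ ∈ H
    have ha' : (u : G)⁻¹ * a * u ∈ A := by
      have := (mem_normalizer_iff.1 (hHA (H.inv_mem u.2)) a).1 ha
      simpa using this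
    have h1 := c.p_le ((mem_normalizer_iff.1 (hAP ha') _).1 hy)
    have h2 := H.mul_mem (H.mul_mem u.2 h1) (H.inv_mem u.2)
    simpa [mul_assoc] using h2
  have hLH : L ≤ normalizer (H : Set G) := sup_le Subgroup.le_normalizer hAH
  obtain ⟨T, hPT, hTN⟩ := exists_sylow c.base c.hasym c.p_le
  set Tg := (T : Subgroup H).map H.subtype with hTg
  have hTH : Tg ≤ H := map_subtype_le _
  have hLR : L ≤ normalizer (R[p, H] : Set G) :=
    hLH.trans (normalizer_le_normalizer_residual H)
  have hres : R[p, H] = R[p, L] := by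
    refine le_antisymm ?_ ?_
    · rw [map_le_iff_le_comap]
      exact Fusion.pResidual_le.2 fun g hg => mem_residual (hHL g.2) (by
        rw [show orderOf (H.subtype g) = orderOf g from Subgroup.orderOf_coe g]; exact hg)
    · refine residual_le_of_sup (p := p) ((residual_le H).trans hHL) hLR
        ((T.isPGroup'.map H.subtype).to_sup_of_normal_right' hA (hTH.trans hHA))
        (sup_le (hTH.trans hHL) le_sup_right) ?_
      exact sup_le ((sylow_sup_residual T).ge.trans
        (sup_le (le_sup_left.trans le_sup_right) le_sup_left)) (le_sup_right.trans le_sup_right)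
  refine ⟨hAW, hWP, (normal_subgroupOf_iff_le_normalizer hHL).2 hLH, hres, ?_, ?_⟩
  · intro hcl
    apply c.not_le
    refine le_pCoreOf_of_le hHL c.y_le fun y hy => ?_
    refine ⟨⟨y, hHL (c.y_le hy)⟩, H59.le_pCore_of_isPClosed hcl
      (((H60.pCoreOf_isPGroup M).to_le (H60.yOf_le_pCoreOf M)).comap_subtype) ?_, rfl⟩
    exact hy
  intro N hN hcl
  by_contra hRN
  apply hcl
  set NG := N.map L.subtype with hNG
  set X := NG ⊓ R[p, H] with hX
  have hXH : X ≤ H := inf_le_right.trans (residual_le H)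
  have hLX : L ≤ normalizer (X : Set G) := H60.le_normalizer_inf (by
    rw [le_normalizer_iff]
    rintro l hl _ ⟨n, hn, rfl⟩
    exact ⟨⟨l, hl⟩ * n * ⟨l, hl⟩⁻¹, hN.conj_mem n hn _, rfl⟩) hLR
  have hne : X ⊔ Tg ≠ H := by
    intro he
    apply hRN
    have h1 : R[p, L] ≤ NG := hres ▸
      (residual_le_of_sup (p := p) hXH (hHL.trans hLX) (T.isPGroup'.map _) hTH he.ge).trans inf_le_left
    exact (map_le_map_iff_of_injective L.subtype_injective).1 h1
  have hYK := c.small (hPT.trans le_sup_right) (sup_le hXH hTH) hne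
  have hYX : Y[p, M] ≤ normalizer (X : Set G) := (c.y_le.trans hHL).trans hLX
  have hXY : ⁅X, Y[p, M]⁆ ≤ Cfsg.pCoreOf p L := by
    refine le_trans (le_inf ?_ ?_) (b := X ⊓ Cfsg.pCoreOf p (X ⊔ Tg)) ?_
    · rw [commutator_comm]; exact H60.commutator_le_of_le_normalizer hYX
    · exact (commutator_mono le_sup_left hYK).trans
        (H60.commutator_le_of_le_normalizer (H60.le_normalizer_pCoreOf _))
    · refine le_trans ?_ (pCoreOf_le_pCoreOf_of_normal (hXH.trans hHL) hLX)
      exact le_pCoreOf_of_le le_sup_left inf_le_left inf_le_right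
  set f := QuotientGroup.mk' (Cfsg.pCore p L) with hf
  have hfs : Function.Surjective f := QuotientGroup.mk'_surjective _
  set X₀ := N ⊓ Cfsg.pResidual p L with hX₀
  have hXX : X₀.map L.subtype = X := by
    rw [hX, hres, hX₀, Subgroup.map_inf _ _ _ L.subtype_injective]
  haveI : (N.map f).Normal := hN.map _ hfs
  haveI : (X₀.map f).Normal := (inferInstance : X₀.Normal).map _ hfs
  have hYL : (Y[p, M]).subgroupOf L = (Y[p, M]).comap L.subtype := rfl
  have hcard : ¬ p ∣ Nat.card (N.map f) := by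
    refine not_dvd_card_of_residual (Cores.pCore_quotient_pCore) (R := (Cfsg.pResidual p L).map f)
      (X := X₀.map f) (Y := ((Y[p, M]).subgroupOf L).map f) ?_ (Subgroup.map_mono inf_le_left)
      (Subgroup.map_mono inf_le_right) ?_ ?_ ?_
    · rw [← Subgroup.map_commutator]
      refine congrArg (Subgroup.map f) (Subgroup.map_injective L.subtype_injective ?_)
      rw [Subgroup.map_commutator, subgroupOf_map_subtype, inf_of_le_left (c.y_le.trans hHL)]
      exact hres ▸ c.commutator_residual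
    · rw [← Subgroup.map_commutator]
      exact Subgroup.map_mono
        (le_inf (Subgroup.commutator_le_left _ _) (Subgroup.commutator_le_right _ _))
    · rintro _ ⟨n, hn, rfl⟩
      obtain ⟨k, hk⟩ := Fusion.exists_pow_mem_pResidual (p := p) n
      exact ⟨k, n ^ p ^ k, ⟨N.pow_mem hn _, hk⟩, map_pow f n _⟩
    · rw [← Subgroup.map_commutator, Subgroup.map_eq_bot_iff, QuotientGroup.ker_mk',
        ← map_le_map_iff_of_injective L.subtype_injective, Subgroup.map_commutator, hXX,
        subgroupOf_map_subtype, inf_of_le_left (c.y_le.trans hHL)]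
      exact hXY
  obtain ⟨T'⟩ := Sylow.nonempty (p := p) (G := L)
  refine (H59.isPClosed_normal_iff N T').2 fun x hx => ?_
  refine (QuotientGroup.eq_one_iff x).1 ?_
  obtain ⟨k, hk⟩ := T'.isPGroup' ⟨x, hx.1⟩
  have h1 : orderOf (f x) ∣ p ^ k := orderOf_dvd_of_pow_eq_one (by
    rw [← map_pow, show x ^ p ^ k = 1 from congrArg Subtype.val hk, map_one])
  exact orderOf_eq_one_iff.1 (Nat.eq_one_of_dvd_coprimes
    (((Fact.out : p.Prime).coprime_iff_not_dvd.2 hcard).pow_left k) h1
    ((N.map f).orderOf_dvd_natCard (mem_map_of_mem f hx.2)))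

end Cfsg.Agent.H72.FrakH
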