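import Cfsg.Agent.H72.FrakH
import Cfsg.Agent.Thompson.BaerSuzuki

/-!
Minimal subgroups `L` of `H` with `Y_M` outside the core.
-/

set_option autoImplicit false
set_option linter.style.haveILetI false
set_option linter.unusedSectionVars false
set_option linter.unusedVariables false

namespace Cfsg.Agent.H72.FrakH

open Subgroup
open scoped commutatorElement
open H60 (cj)

variable {G : Type*} [Group G] [Finite G] {p : ℕ} [Fact p.Prime]

theorem sup_commutator_le {A A' B D : Subgroup G} (hA : A ≤ normalizer (D : Set G))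
    (hA' : A' ≤ normalizer (D : Set G)) (h : ⁅A, B⁆ ≤ D) (h' : ⁅A', B⁆ ≤ D) : ⁅A ⊔ A', B⁆ ≤ D := by
  rw [sup_eq_iSup]
  exact H60.iSup_commutator_le (fun b => by cases b <;> assumption) (fun b => by cases b <;> assumption)

/-- A `p`-group fixes an element of a nontrivial section it normalizes. -/
theorem exists_fixed {P V W : Subgroup G} (hP : IsPGroup p P) (hV : IsPGroup p V) (hWV : W < V)
    (hPV : P ≤ normalizer (V : Set G)) (hPW : P ≤ normalizer (W : Set G))
    (hVW : V ≤ normalizer (W : Set G)) :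
    ∃ v ∈ V, v ∉ W ∧ ∀ x ∈ P, ⁅x, v⁆ ∈ W := by
  set S := P ⊔ V with hS
  have hSp : IsPGroup p S := hP.to_sup_of_normal_right' hV hPV
  haveI hWn : (W.subgroupOf S).Normal :=
    (normal_subgroupOf_iff_le_normalizer (hWV.le.trans le_sup_right)).2 (sup_le hPW hVW)
  haveI hVn : (V.subgroupOf S).Normal :=
    (normal_subgroupOf_iff_le_normalizer le_sup_right).2 (sup_le hPV Subgroup.le_normalizer)
  set f := QuotientGroup.mk' (W.subgroupOf S) with hf
  haveI : ((V.subgroupOf S).map f).Normal := hVn.map _ (QuotientGroup.mk'_surjective _)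
  obtain ⟨v, hv, hvW⟩ := SetLike.exists_of_lt hWV
  have hne : (V.subgroupOf S).map f ≠ ⊥ := by
    intro h
    have h1 : f ⟨v, mem_sup_right hv⟩ ∈ (V.subgroupOf S).map f := mem_map_of_mem f hv
    rw [h, Subgroup.mem_bot] at h1
    exact hvW ((QuotientGroup.eq_one_iff (⟨v, mem_sup_right hv⟩ : S)).1 h1)
  have h2 := PGroups.inf_center_ne_bot (hSp.to_quotient (W.subgroupOf S)) _ hne
  obtain ⟨z', hz'⟩ := Subgroup.ne_bot_iff_exists_ne_one.1 h2
  obtain ⟨z, hz, hz1⟩ : ∃ z, z ∈ (V.subgroupOf S).map f ⊓ center (S ⧸ W.subgroupOf S) ∧ z ≠ 1 :=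
    ⟨z', z'.2, fun h => hz' (Subtype.ext h)⟩
  obtain ⟨⟨w, hw, rfl⟩, hzc⟩ := hz
  refine ⟨(w : G), hw, fun h => hz1 ((QuotientGroup.eq_one_iff w).2 h), fun x hx => ?_⟩
  have h3 := Subgroup.mem_center_iff.1 hzc (f ⟨x, mem_sup_left hx⟩)
  have h4 : f ⁅(⟨x, mem_sup_left hx⟩ : S), w⁆ = 1 := by
    rw [map_commutatorElement, commutatorElement_eq_one_iff_mul_comm]
    exact h3
  exact (QuotientGroup.eq_one_iff ⁅(⟨x, mem_sup_left hx⟩ : S), w⁆).1 h4

theorem le_normalizer_normal_of_closure {L : Type*} [Group L] [Finite L] (hL : IsPGroup p L)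
    {Y : Subgroup L} (h : normalClosure (Y : Set L) = ⊤) : Y = ⊤ := by
  rcases eq_top_or_exists_le_coatom Y with h' | ⟨M, hM, hYM⟩
  · exact h'
  · haveI := PGroups.normal_of_isCoatom hL hM
    exact absurd (top_le_iff.1 (h ▸ normalClosure_le_normal hYM)) hM.1

theorem commutator_zpowers_le {P X : Subgroup G} {c : G} (hPX : P ≤ normalizer (X : Set G))
    (hcX : c ∈ normalizer (X : Set G)) (h : ∀ x ∈ P, ⁅x, c⁆ ∈ X) : ⁅P, Subgroup.zpowers c⁆ ≤ X := by
  refine commutator_le.2 fun x hx y hy => ?_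
  obtain ⟨n, rfl⟩ := Subgroup.mem_zpowers_iff.1 hy
  haveI hn' : (X.subgroupOf (normalizer (X : Set G))).Normal := Subgroup.normal_in_normalizer
  set f := QuotientGroup.mk' (X.subgroupOf (normalizer (X : Set G)))
  have h8 : f ⁅(⟨x, hPX hx⟩ : normalizer (X : Set G)), ⟨c, hcX⟩⁆ = 1 :=
    (QuotientGroup.eq_one_iff _).2 (h x hx)
  rw [map_commutatorElement, commutatorElement_eq_one_iff_commute] at h8
  have h9 := commutatorElement_eq_one_iff_commute.2 (h8.zpow_right n)
  rw [← map_zpow, ← map_commutatorElement] at h9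
  exact (QuotientGroup.eq_one_iff
    ⁅(⟨x, hPX hx⟩ : normalizer (X : Set G)), (⟨c, hcX⟩ : normalizer (X : Set G)) ^ n⁆).1 h9

variable {S : Sylow p G} {Q M H L : Subgroup G}

local notation "Y[" p ", " M "]" => Cfsg.largestPReducedOf p M
local notation "P[" p ", " M "]" => Cfsg.pCoreOf p M
local notation "R[" p ", " H "]" => Subgroup.map (Subgroup.subtype H) (Cfsg.pResidual p H)

/-- A minimal subgroup `L` of `H` over `Y_M`. -/
structure Small (p : ℕ) (S : Sylow p G) (Q M H L : Subgroup G) : Prop where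
  ctx : Ctx p S Q M H
  hLH : L ≤ H
  hYL : Y[p, M] ≤ L
  hYO : ¬ Y[p, M] ≤ Cfsg.pCoreOf p L
  hmin : ∀ L' : Subgroup G, L' ≤ L → Y[p, M] ≤ L' → ¬ Y[p, M] ≤ Cfsg.pCoreOf p L' → L' = L

theorem Small.proper (s : Small p S Q M H L) {X : Subgroup G} (hX : X ≤ L) (hYX : Y[p, M] ≤ X)
    (hne : X ≠ L) : Y[p, M] ≤ Cfsg.pCoreOf p X := by_contra fun h => hne (s.hmin X hX hYX h)

theorem Small.sup_pCore (s : Small p S Q M H L) : L ⊔ P[p, M] = H := by
  by_contra hne
  exact s.hYO (le_pCoreOf_of_le le_sup_left s.hYL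
    (s.ctx.small le_sup_right (sup_le s.hLH s.ctx.p_le) hne))

theorem yOf_isPGroup (M : Subgroup G) : IsPGroup p Y[p, M] :=
  (H60.pCoreOf_isPGroup M).to_le (H60.yOf_le_pCoreOf M)

theorem Small.exists_generated (s : Small p S Q M H L) :
    ∃ h ∈ L, Y[p, M] ⊔ cj Y[p, M] h = L := by
  set Y := Y[p, M] with hY
  by_contra hno
  push Not at hno
  have hle : ∀ h ∈ L, cj Y h ≤ L := fun h hh =>
    (H60.cj_mono s.hYL h).trans (H60.cj_eq_self_iff.2 (Subgroup.le_normalizer hh)).le
  have hp : ∀ h : L, IsPGroup p ↥(Y.subgroupOf L ⊔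
      (Y.subgroupOf L).map (MulAut.conj h).toMonoidHom) := by
    intro h
    have hA : IsPGroup p ↥(Y ⊔ cj Y (h : G)) := by
      refine (H60.pCoreOf_isPGroup (Y ⊔ cj Y (h : G))).to_le (sup_le
        (s.proper (sup_le s.hYL (hle h h.2)) le_sup_left (hno h h.2)) ?_)
      have h' : (h : G)⁻¹ ∈ L := inv_mem h.2
      have h1 : cj (Y ⊔ cj Y (h : G)⁻¹) (h : G) = Y ⊔ cj Y (h : G) := by
        rw [H60.cj_sup, H60.cj_cj, mul_inv_cancel, H60.cj_one, sup_comm]
      have h2 := H60.cj_mono (s.proper (sup_le s.hYL (hle _ h')) le_sup_left (hno _ h')) (h : G)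
      refine h2.trans (H60.le_pCoreOf ?_ ?_ (H60.isPGroup_cj (H60.pCoreOf_isPGroup _) _))
      · exact (H60.cj_mono (H60.pCoreOf_le _) _).trans h1.le
      · rw [← H60.cj_normalizer]
        exact h1.ge.trans (H60.cj_mono (H60.le_normalizer_pCoreOf _) _)
    refine (hA.comap_subtype : IsPGroup p ((Y ⊔ cj Y (h : G)).subgroupOf L)).to_le (sup_le ?_ ?_)
    · exact fun x hx => mem_sup_left (T := cj Y (h : G)) hx
    · rintro _ ⟨x, hx, rfl⟩
      exact mem_sup_right (S := Y) (mem_map_of_mem (MulAut.conj (h : G)).toMonoidHom hx)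
  obtain ⟨N, hN, hNp, hYN⟩ := Thompson.baer_suzuki_subgroup (Y.subgroupOf L) hp
  exact s.hYO fun y hy =>
    ⟨⟨y, s.hYL hy⟩, Cores.le_pCore (N := N) hNp (hYN (x := ⟨y, s.hYL hy⟩) hy), rfl⟩

theorem commutator_conj_le {V Y : Subgroup G} (h₁ : V ≤ normalizer (Y : Set G))
    (h₂ : Y ≤ normalizer (V : Set G)) : ⁅V, Y⁆ ≤ Y ⊓ V :=
  inf_comm V Y ▸ H60.commutator_le_inf_of_le_normalizer h₁ h₂

/-- The facts on `W = O_p(H)` used for a pair `Y`, `Y^h` generating `L`. -/
theorem Small.core_data (s : Small p S Q M H L) {h : G} (hh : h ∈ L)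
    (hgen : Y[p, M] ⊔ cj Y[p, M] h = L) :
    L ≤ normalizer (((Y[p, M] ⊓ Cfsg.pCoreOf p H) ⊔ cj (Y[p, M] ⊓ Cfsg.pCoreOf p H) h :
        Subgroup G) : Set G) ∧
      ⁅L, Cfsg.pCoreOf p H⁆ ≤ (Y[p, M] ⊓ Cfsg.pCoreOf p H) ⊔ cj (Y[p, M] ⊓ Cfsg.pCoreOf p H) h ∧
      (∀ e ∈ (Y[p, M] ⊓ Cfsg.pCoreOf p H) ⊔ cj (Y[p, M] ⊓ Cfsg.pCoreOf p H) h,
        e ∈ centralizer (Y[p, M] : Set G) → e ∈ Y[p, M] ⊓ Cfsg.pCoreOf p H) ∧
      ∀ w ∈ Cfsg.pCoreOf p H ⊓ centralizer (Y[p, M] : Set G),
        ∃ a ∈ Y[p, M] ⊓ Cfsg.pCoreOf p H, w * a ∈ centralizer (L : Set G) := by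
  set Y := Y[p, M] with hY
  set W := Cfsg.pCoreOf p H with hW
  set A := Y ⊓ W with hA
  set Y₁ := cj Y h with hY₁
  set B := cj A h with hB
  have hhH : h ∈ H := s.hLH hh
  have hWn : ∀ g ∈ H, cj W g = W := fun g hg => H60.cj_eq_self_iff.2 (H60.le_normalizer_pCoreOf H hg)
  have hWY : W ≤ normalizer (Y : Set G) :=
    (pCoreOf_le_normalizer s.ctx.base s.ctx.hasym s.ctx.p_le).trans s.ctx.base.normalizer_pCoreOf_le
  have hWY₁ : W ≤ normalizer (Y₁ : Set G) := by
    rw [hY₁, ← H60.cj_normalizer]; exact (hWn h hhH).ge.trans (H60.cj_mono hWY h)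
  have hYH : Y ≤ H := s.ctx.y_le
  have hYW : Y ≤ normalizer (W : Set G) := hYH.trans (H60.le_normalizer_pCoreOf H)
  have hY₁H : Y₁ ≤ H := (le_sup_right.trans hgen.le).trans s.hLH
  have hY₁W : Y₁ ≤ normalizer (W : Set G) := hY₁H.trans (H60.le_normalizer_pCoreOf H)
  have hBe : B = Y₁ ⊓ W := by rw [hB, hA, H60.cj_inf, hWn h hhH]
  have hBW : B ≤ W := hBe ▸ inf_le_right
  have hYA : Y ≤ normalizer (A : Set G) := H60.le_normalizer_inf Subgroup.le_normalizer hYW
  have hY₁B : Y₁ ≤ normalizer (B : Set G) := hBe ▸ H60.le_normalizer_inf Subgroup.le_normalizer hY₁W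
  have hcomm : ⁅Y, W⁆ ≤ A := by
    rw [commutator_comm]; exact commutator_conj_le hWY hYW
  have hcomm₁ : ⁅Y₁, W⁆ ≤ B := by
    rw [commutator_comm, hBe]; exact commutator_conj_le hWY₁ hY₁W
  have hAB : A ≤ normalizer (B : Set G) := hBe ▸
    H60.le_normalizer_inf (inf_le_right.trans hWY₁) (inf_le_right.trans Subgroup.le_normalizer)
  set E := A ⊔ B with hE
  have hEW : E ≤ W := sup_le inf_le_right hBW
  have hYE : Y ≤ normalizer (E : Set G) :=
    le_normalizer_sup_of_commutator_le hYA ((commutator_mono le_rfl hBW).trans hcomm)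
  have hY₁E : Y₁ ≤ normalizer (E : Set G) := by
    rw [hE, sup_comm]
    exact le_normalizer_sup_of_commutator_le hY₁B ((commutator_mono le_rfl inf_le_right).trans hcomm₁)
  have hLE : L ≤ normalizer (E : Set G) := hgen.ge.trans (sup_le hYE hY₁E)
  have hLW : ⁅L, W⁆ ≤ E := by
    rw [← hgen]
    exact sup_commutator_le hYE hY₁E (hcomm.trans le_sup_left) (hcomm₁.trans le_sup_right)
  have hYab := (H60.isElementaryAbelian_yOf (p := p) M).1.is_comm.comm
  have hYc : ∀ a ∈ Y, a ∈ centralizer (Y : Set G) := fun a ha =>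
    mem_centralizer_iff.2 fun y hy => congrArg Subtype.val (hYab ⟨y, hy⟩ ⟨a, ha⟩)
  have hY₁c : ∀ b ∈ Y₁, b ∈ centralizer (Y₁ : Set G) := by
    rintro _ ⟨a, ha, rfl⟩
    rw [hY₁, ← H60.cj_centralizer]
    exact mem_map_of_mem _ (hYc a ha)
  have hcl : ∀ z, z ∈ centralizer (Y : Set G) → z ∈ centralizer (Y₁ : Set G) →
      z ∈ centralizer (L : Set G) := by
    intro z h1 h2
    have : L ≤ centralizer ({z} : Set G) := hgen.ge.trans (sup_le
      (fun y hy => mem_centralizer_singleton_iff.2 (mem_centralizer_iff.1 h1 y hy))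
      (fun y hy => mem_centralizer_singleton_iff.2 (mem_centralizer_iff.1 h2 y hy)))
    exact mem_centralizer_iff.2 fun l hl => mem_centralizer_singleton_iff.1 (this hl)
  refine ⟨hLE, hLW, fun e he hec => ?_, fun w hw => ?_⟩
  · rw [← SetLike.mem_coe, Subgroup.coe_mul_of_left_le_normalizer_right A B hAB] at he
    obtain ⟨a, ha, b, hb, rfl⟩ := he
    have hbc : b ∈ centralizer (Y : Set G) := by
      simpa using mul_mem (inv_mem (hYc a ha.1)) hec
    have hb₁ : b ∈ Y₁ := (hBe.le hb).1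
    have hbL := hcl b hbc (hY₁c b hb₁)
    have hfix : b * h = h * b := (mem_centralizer_iff.1 hbL h hh).symm
    have hbY : b ∈ Y := by
      have h1 := H60.mem_cj.1 hb₁
      rwa [mul_assoc, hfix, inv_mul_cancel_left] at h1
    exact mul_mem ha ⟨hbY, hBW hb⟩
  · have hw' : h * w * h⁻¹ ∈ centralizer (Y₁ : Set G) := by
      rw [hY₁, ← H60.cj_centralizer]; exact mem_map_of_mem _ hw.2
    have he : w⁻¹ * (h * w * h⁻¹) ∈ E := by
      have h1 : ⁅h, w⁆ ∈ E := hLW (commutator_mem_commutator hh hw.1)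
      have h2 : h * w * h⁻¹ ∈ W := (mem_normalizer_iff.1 (H60.le_normalizer_pCoreOf H hhH) w).1 hw.1
      have hWE : W ≤ normalizer (E : Set G) := by
        refine H60.le_normalizer_sup ?_ ?_
        · exact H60.le_normalizer_inf hWY Subgroup.le_normalizer
        · exact hBe ▸ H60.le_normalizer_inf hWY₁ Subgroup.le_normalizer
      have h3 := (mem_normalizer_iff.1 (hWE (inv_mem hw.1)) _).1 h1
      simpa [commutatorElement_def, mul_assoc] using h3
    rw [← SetLike.mem_coe, Subgroup.coe_mul_of_left_le_normalizer_right A B hAB] at he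
    obtain ⟨a, ha, b, hb, hab⟩ := he
    refine ⟨a, ha, hcl _ (mul_mem hw.2 (hYc a ha.1)) ?_⟩
    rw [show w * a = h * w * h⁻¹ * b⁻¹ by
      simp only at hab; rw [eq_mul_inv_iff_mul_eq, mul_assoc w a b, hab, mul_inv_cancel_left]]
    exact mul_mem hw' (inv_mem (hY₁c b (hBe.le hb).1))

/-- A conjugate of `Y` under `L`, mutually normalizing with `Y`, equals `Y`. -/
theorem Small.eq_of_mutual (s : Small p S Q M H L) {m : G} (hm : m ∈ L)
    (h₁ : Y[p, M] ≤ normalizer (cj Y[p, M] m : Set G))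
    (h₂ : cj Y[p, M] m ≤ normalizer (Y[p, M] : Set G)) : cj Y[p, M] m = Y[p, M] := by
  obtain ⟨h, hh, hgen⟩ := s.exists_generated
  obtain ⟨hLE, hLW, hEC, hCd⟩ := s.core_data hh hgen
  set Y := Y[p, M] with hY
  set P := P[p, M] with hP
  set W := Cfsg.pCoreOf p H with hW
  set A := Y ⊓ W with hA
  set E := A ⊔ cj A h with hE
  have hmH : m ∈ H := s.hLH hm
  have hWm : cj W m = W := H60.cj_eq_self_iff.2 (H60.le_normalizer_pCoreOf H hmH)
  have hUY : cj Y m ≤ centralizer (Y : Set G) := by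
    have := H60.commutator_eq_bot_of_not_symmetric s.ctx.hasym h₁ h₂
    rwa [commutator_comm, commutator_eq_bot_iff_le_centralizer] at this
  have hAm : cj A m = A := by
    refine eq_of_le_of_card_ge (fun e he => hEC e ?_ ?_) (H60.card_cj _ _).ge
    · exact (H60.cj_eq_self_iff.2 (hLE hm)).le (H60.cj_mono (le_sup_left (a := A)) m he)
    · exact hUY (H60.cj_mono inf_le_left m he)
  have hmA : m ∈ normalizer (A : Set G) := H60.cj_eq_self_iff.1 hAm
  set C := W ⊓ centralizer (Y : Set G) with hC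
  have hWP := pCoreOf_le_normalizer s.ctx.base s.ctx.hasym s.ctx.p_le
  have hPp : IsPGroup p P := H60.pCoreOf_isPGroup M
  have hCP : C ≤ P := by
    have h5 := s.ctx.base.eq_of_le_centralizer (X := C ⊔ P)
      (((H60.pCoreOf_isPGroup H).to_le inf_le_left).to_sup_of_normal_right' hPp (inf_le_left.trans hWP))
      (sup_le inf_le_right (H60.pCoreOf_le_centralizer_yOf M)) le_sup_right
    exact le_sup_left.trans h5.le
  have hPH := s.ctx.p_le
  have hPW : P ≤ normalizer (W : Set G) := hPH.trans (H60.le_normalizer_pCoreOf H)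
  have hPWC : ⁅P, W⁆ ≤ C := by
    have h6 := commutator_conj_le hWP hPW
    rw [commutator_comm] at h6
    exact h6.trans (le_inf inf_le_right (inf_le_left.trans (H60.pCoreOf_le_centralizer_yOf M)))
  have hPC : P ≤ normalizer (C : Set G) := H60.le_normalizer_inf hPW
    ((H60.pCoreOf_le_centralizer_yOf M).trans Subgroup.le_normalizer)
  -- `m` is trivial on `C/A`
  have hmC : ∀ c ∈ C, ⁅m, c⁆ ∈ A := by
    intro c hc
    obtain ⟨a, ha, hca⟩ := hCd c hc
    have h1 : m * (c * a) = (c * a) * m := mem_centralizer_iff.1 hca m hm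
    have h2 : m * a⁻¹ * m⁻¹ ∈ A := (mem_normalizer_iff.1 hmA _).1 (A.inv_mem ha)
    have e : ⁅m, c⁆ = c * (a * (m * a⁻¹ * m⁻¹)) * c⁻¹ := by
      calc ⁅m, c⁆ = m * (c * a) * a⁻¹ * m⁻¹ * c⁻¹ := by rw [commutatorElement_def]; group
        _ = (c * a) * m * a⁻¹ * m⁻¹ * c⁻¹ := by rw [h1]
        _ = _ := by group
    rw [e]
    have hcA : c ∈ normalizer (A : Set G) :=
      H60.le_normalizer_inf ((hC.le.trans inf_le_right).trans (centralizer_le_normalizer _))
        ((hC.le.trans inf_le_left).trans Subgroup.le_normalizer) hc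
    exact (mem_normalizer_iff.1 hcA _).1 (mul_mem ha h2)
  set J := P ⊔ cj P m with hJ
  have hPmH : cj P m ≤ H := (H60.cj_mono hPH m).trans (H60.cj_eq_self_iff.2 (Subgroup.le_normalizer hmH)).le
  have hJH : J ≤ H := sup_le hPH hPmH
  -- subgroups between `A` and `C` are normalized by `m`
  have hmX : ∀ X : Subgroup G, A ≤ X → X ≤ C → cj X m = X := by
    intro X hAX hXC
    refine eq_of_le_of_card_ge ?_ (H60.card_cj _ _).ge
    rintro _ ⟨x, hx, rfl⟩
    have := mul_mem (hAX (hmC x (hXC hx))) hx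
    simpa [commutatorElement_def] using this
  have hAC : A ≤ C := le_inf inf_le_right fun a ha => (H60.pCoreOf_le_centralizer_yOf M)
    (H60.yOf_le_pCoreOf M ha.1)
  have hCm : cj C m = C := hmX C hAC le_rfl
  have hJp : IsPGroup p J := by
    refine H60.isPGroup_of_coprime_eq_one fun g hg hco => ?_
    have hgen' : ∀ X : Subgroup G, A ≤ X → X ≤ C → P ≤ normalizer (X : Set G) →
        J ≤ normalizer (X : Set G) := by
      intro X hAX hXC hPX
      refine sup_le hPX ?_
      rw [← hmX X hAX hXC, ← H60.cj_normalizer]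
      exact H60.cj_mono hPX m
    have h13 : J ≤ centralizer (A : Set G) := by
      have hPA : P ≤ centralizer (A : Set G) :=
        (H60.pCoreOf_le_centralizer_yOf M).trans (centralizer_le inf_le_left)
      refine sup_le hPA ?_
      rw [← hAm, ← H60.cj_centralizer]
      exact H60.cj_mono hPA m
    have hgA : ∀ x ∈ A, g * x = x * g := fun x hx => (mem_centralizer_iff.1 (h13 hg) x hx).symm
    have hgC : ∀ c ∈ C, g * c = c * g := by
      obtain ⟨X, -, ⟨hAX, hXC, hPX, hgX⟩, hXmax⟩ := Finite.exists_le_maximal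
        (p := fun X : Subgroup G => A ≤ X ∧ X ≤ C ∧ P ≤ normalizer (X : Set G) ∧ ∀ x ∈ X, g * x = x * g)
        (a := A) ⟨le_rfl, hAC, H60.le_normalizer_inf
          ((H60.pCoreOf_le_centralizer_yOf M).trans (centralizer_le_normalizer _)) hPW, hgA⟩
      · rcases eq_or_lt_of_le hXC with he | hlt
        · exact fun c hc => hgX c (he ▸ hc)
        exfalso
        obtain ⟨c, hc, hcX, hcf⟩ := exists_fixed hPp ((H60.pCoreOf_isPGroup H).to_le inf_le_left) hlt
          hPC hPX (hCP.trans hPX)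
        have hJc : ∀ z ∈ J, ⁅z, c⁆ ∈ X := by
          have hnX := hgen' X hAX hXC hPX
          have h7 : ⁅J, Subgroup.zpowers c⁆ ≤ X := by
            have hP1 : ⁅P, Subgroup.zpowers c⁆ ≤ X :=
              commutator_zpowers_le hPX (hPX (hCP hc)) hcf
            refine sup_commutator_le (hPX) ?_ hP1 ?_
            · rw [← hmX X hAX hXC, ← H60.cj_normalizer]; exact H60.cj_mono hPX m
            · have hc' : m⁻¹ * c * m ∈ X ⊔ Subgroup.zpowers c := by
                have hX' := hmX (X ⊔ Subgroup.zpowers c) (hAX.trans le_sup_left)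
                  (sup_le hXC (Subgroup.zpowers_le.2 hc))
                exact H60.mem_cj.1 (hX'.ge (mem_sup_right (Subgroup.mem_zpowers c)))
              have h10 : ⁅P, X ⊔ Subgroup.zpowers c⁆ ≤ X := by
                rw [commutator_comm]
                refine sup_commutator_le Subgroup.le_normalizer ?_ ?_ ?_
                · exact Subgroup.zpowers_le.2 (hPX (hCP hc))
                · rw [commutator_comm]; exact H60.commutator_le_of_le_normalizer hPX
                · rw [commutator_comm]; exact hP1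
              rw [commutator_le]
              rintro _ ⟨x, hx, rfl⟩ y hy
              have hy' : m⁻¹ * y * m ∈ X ⊔ Subgroup.zpowers c := by
                have hX' := hmX (X ⊔ Subgroup.zpowers c) (hAX.trans le_sup_left)
                  (sup_le hXC (Subgroup.zpowers_le.2 hc))
                exact H60.mem_cj.1 (hX'.ge (mem_sup_right hy))
              have h11 : (MulAut.conj m) ⁅x, m⁻¹ * y * m⁆ ∈ cj X m :=
                mem_map_of_mem (MulAut.conj m).toMonoidHom (h10 (commutator_mem_commutator hx hy'))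
              rw [hmX X hAX hXC, map_commutatorElement] at h11
              simpa [mul_assoc] using h11
          exact fun z hz => h7 (commutator_mem_commutator hz (Subgroup.mem_zpowers c))
        have hcg : g * c = c * g :=
          H60.commute_of_commutator_fixed (M := X) (p := p)
            ((H60.pCoreOf_isPGroup H).to_le (hXC.trans inf_le_left)) hco hgX
            (by simpa [commutatorElement_def] using hJc g hg)
        refine hcX (hXmax (y := X ⊔ Subgroup.zpowers c)
          ⟨hAX.trans le_sup_left, sup_le hXC (Subgroup.zpowers_le.2 hc), ?_, ?_⟩ le_sup_left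
          (mem_sup_right (Subgroup.mem_zpowers c)))
        · exact le_normalizer_sup_of_commutator_le hPX
            (commutator_zpowers_le hPX (hPX (hCP hc)) hcf)
        · have h12 : X ⊔ Subgroup.zpowers c ≤ centralizer ({g} : Set G) :=
            sup_le (fun x hx => mem_centralizer_singleton_iff.2 (hgX x hx).symm)
              (Subgroup.zpowers_le.2 (mem_centralizer_singleton_iff.2 hcg.symm))
          exact fun x hx => (mem_centralizer_singleton_iff.1 (h12 hx)).symm
    have hJW : ⁅J, W⁆ ≤ C := by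
      refine sup_commutator_le hPC ?_ hPWC ?_
      · rw [← hCm, ← H60.cj_normalizer]; exact H60.cj_mono hPC m
      · rw [← hWm, ← hCm]
        exact (Subgroup.map_commutator P W (MulAut.conj m).toMonoidHom).ge.trans (H60.cj_mono hPWC m)
    have hgW : g ∈ W := by
      refine ((H60.hasCharP_iff H).1 s.ctx.hH.1) ⟨hJH hg, mem_centralizer_iff.2 fun w hw => ?_⟩
      exact (H60.commute_of_commutator_fixed (M := C) (p := p)
        ((H60.pCoreOf_isPGroup H).to_le inf_le_left) hco hgC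
        (by simpa [commutatorElement_def] using hJW (commutator_mem_commutator hg hw))).symm
    obtain ⟨k, hk⟩ := H60.pCoreOf_isPGroup H ⟨g, hgW⟩
    exact orderOf_eq_one_iff.1 (Nat.eq_one_of_dvd_coprimes (hco.pow_right k) dvd_rfl
      (orderOf_dvd_of_pow_eq_one (congrArg Subtype.val hk)))
  have h14 := H59.eq_of_isWeaklyClosed (s.ctx.base.isWeaklyClosed s.ctx.hasym) hJp
    le_sup_left (le_sup_right : cj P m ≤ J)
  exact H60.cj_eq_self_iff.2 (s.ctx.base.normalizer_pCoreOf_le (H60.cj_eq_self_iff.1 h14))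

end Cfsg.Agent.H72.FrakH
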