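import Cfsg.Agent.H72.FrakHSmall

/-!
Structure of a minimal subgroup `L` of `H` with `Y_M` outside the core.
-/

set_option autoImplicit false
set_option linter.style.haveILetI false
set_option linter.unusedSectionVars false
set_option linter.unusedVariables false

namespace Cfsg.Agent.H72.FrakH

open Subgroup
open scoped commutatorElement
open H60 (cj)

variable {G : Type*} [Group G] [Finite G] {p : ℕ} [Fact p.Prime] {S : Sylow p G} {Q M H L : Subgroup G}

local notation "Y[" p ", " M "]" => Cfsg.largestPReducedOf p M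
local notation "P[" p ", " M "]" => Cfsg.pCoreOf p M
local notation "R[" p ", " H "]" => Subgroup.map (Subgroup.subtype H) (Cfsg.pResidual p H)

theorem Small.not_le_normalizer (s : Small p S Q M H L) : ¬ L ≤ normalizer (Y[p, M] : Set G) :=
  fun h => s.hYO (H60.le_pCoreOf s.hYL h (yOf_isPGroup M))

theorem Small.le_normalizer_of_lt (s : Small p S Q M H L) {X : Subgroup G} (hYX : Y[p, M] ≤ X)
    (hXL : X ≤ L) (hne : X ≠ L) : X ≤ normalizer (Y[p, M] : Set G) := by
  set Y := Y[p, M] with hY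
  set O := Cfsg.pCoreOf p X with hO
  have hYO : Y ≤ O := s.proper hXL hYX hne
  have hOX : O ≤ X := H60.pCoreOf_le X
  have key : ∀ {Z : Subgroup G}, Y ≤ Z → Z ≤ normalizer (Y : Set G) →
      ∀ x ∈ L, x ∈ normalizer (Z : Set G) → x ∈ normalizer (Y : Set G) := by
    intro Z hYZ hZY x hx hxZ
    refine H60.cj_eq_self_iff.1 (s.eq_of_mutual hx ?_ ?_)
    · rw [← H60.cj_normalizer]
      exact (hYZ.trans (H60.cj_eq_self_iff.2 hxZ).ge).trans (H60.cj_mono hZY x)
    · exact ((H60.cj_mono hYZ x).trans (H60.cj_eq_self_iff.2 hxZ).le).trans hZY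
  have hON : O ≤ normalizer (Y : Set G) := by
    by_contra hnot
    have hlt : O ⊓ normalizer (Y : Set G) < O :=
      lt_of_le_of_ne inf_le_left fun h => hnot (h ▸ inf_le_right)
    have hOp : IsPGroup p O := H60.pCoreOf_isPGroup X
    set N₀ := O ⊓ normalizer (Y : Set G) with hN₀
    have hne' : N₀.subgroupOf O ≠ ⊤ := fun h => hlt.not_ge (subgroupOf_eq_top.1 h)
    obtain ⟨t, ht, htn⟩ := SetLike.exists_of_lt (PGroups.lt_normalizer hOp hne')
    have htN : (t : G) ∈ normalizer (N₀ : Set G) := by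
      have := Subgroup.le_normalizer_map O.subtype (mem_map_of_mem O.subtype ht)
      rwa [subgroupOf_map_subtype, inf_of_le_left hlt.le] at this
    exact htn ⟨t.2, key (le_inf hYO Subgroup.le_normalizer) inf_le_right (t : G) (hXL (hOX t.2)) htN⟩
  exact fun x hx => key hYO hON x (hXL hx) (H60.le_normalizer_pCoreOf X hx)

theorem Small.cj_le (s : Small p S Q M H L) {h : G} (hh : h ∈ L) : cj Y[p, M] h ≤ L :=
  (H60.cj_mono s.hYL h).trans (H60.cj_eq_self_iff.2 (Subgroup.le_normalizer hh)).le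

theorem Small.sup_conj (s : Small p S Q M H L) {h : G} (hh : h ∈ L)
    (hn : h ∉ normalizer (Y[p, M] : Set G)) : Y[p, M] ⊔ cj Y[p, M] h = L := by
  set Y := Y[p, M] with hY
  by_contra hne
  apply hn
  have h1 := s.le_normalizer_of_lt le_sup_left (sup_le s.hYL (s.cj_le hh)) hne
  have hne' : Y ⊔ cj Y h⁻¹ ≠ L := by
    intro he
    apply hne
    have := congrArg (fun A => cj A h) he
    simp only [H60.cj_sup, H60.cj_cj, mul_inv_cancel, H60.cj_one] at this
    rw [sup_comm, this]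
    exact H60.cj_eq_self_iff.2 (Subgroup.le_normalizer hh)
  have h2 := H60.cj_mono
    (le_sup_right.trans (s.le_normalizer_of_lt le_sup_left (sup_le s.hYL (s.cj_le (inv_mem hh))) hne')) h
  rw [H60.cj_cj, mul_inv_cancel, H60.cj_one, H60.cj_normalizer] at h2
  exact H60.cj_eq_self_iff.1 (s.eq_of_mutual hh h2 (le_sup_right.trans h1))

theorem Small.conj_sup_pCore (s : Small p S Q M H L) {h : G} (hh : h ∈ L)
    (hn : h ∉ normalizer (Y[p, M] : Set G)) : cj Y[p, M] h ⊔ P[p, M] = H := by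
  refine le_antisymm (sup_le ((s.cj_le hh).trans s.hLH) s.ctx.p_le) ?_
  rw [← s.sup_pCore]
  refine sup_le ?_ le_sup_right
  rw [← s.sup_conj hh hn]
  exact sup_le ((H60.yOf_le_pCoreOf M).trans le_sup_right) le_sup_left

theorem Small.exists_not_mem (s : Small p S Q M H L) :
    ∃ h ∈ L, h ∉ normalizer (Y[p, M] : Set G) ∧ Y[p, M] ⊔ cj Y[p, M] h = L := by
  obtain ⟨h, hh, hgen⟩ := s.exists_generated
  refine ⟨h, hh, fun hn => s.not_le_normalizer ?_, hgen⟩
  rw [← hgen, H60.cj_eq_self_iff.2 hn, sup_idem]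
  exact Subgroup.le_normalizer

theorem Small.minimal_over (s : Small p S Q M H L) :
    Cfsg.IsMinimalOver ((Y[p, M]).subgroupOf L) := by
  set Y := Y[p, M] with hY
  obtain ⟨h, hh, -, hgen⟩ := s.exists_not_mem
  set N := normalClosure ((Y.subgroupOf L : Subgroup L) : Set L) with hN
  refine ⟨?_, ?_⟩
  · apply Subgroup.map_injective L.subtype_injective
    rw [← MonoidHom.range_eq_map, range_subtype]
    refine le_antisymm (map_subtype_le _) (hgen.ge.trans (sup_le (le_map_normalClosure s.hYL) ?_))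
    refine (H60.cj_mono (le_map_normalClosure s.hYL) h).trans (H60.cj_eq_self_iff.2 ?_).le
    exact le_normalizer_map_normalClosure Y hh
  · set M₁ := (normalizer (Y : Set G)).subgroupOf L with hM₁
    have hYM₁ : Y.subgroupOf L ≤ M₁ := fun y hy => Subgroup.le_normalizer hy
    have hne : M₁ ≠ ⊤ := fun h => s.not_le_normalizer (subgroupOf_eq_top.1 h)
    have hmax : ∀ X : Subgroup L, Y.subgroupOf L ≤ X → X ≠ ⊤ → X ≤ M₁ := by
      intro X hYX hX x hx
      refine s.le_normalizer_of_lt ?_ (map_subtype_le X) ?_ (mem_map_of_mem L.subtype hx)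
      · exact fun y hy => ⟨⟨y, s.hYL hy⟩, hYX hy, rfl⟩
      · intro he
        exact hX (Subgroup.map_injective L.subtype_injective
          (he.trans (L.range_subtype.symm.trans (MonoidHom.range_eq_map _))))
    refine ⟨M₁, ⟨⟨hne, fun X hX => by_contra fun hX' => hX.not_ge (hmax X (hYM₁.trans hX.le) hX')⟩, hYM₁⟩, ?_⟩
    rintro X ⟨hX, hYX⟩
    exact (hX.le_iff_eq hne).1 (hmax X hYX hX.1) |>.symm

theorem Small.charP (s : Small p S Q M H L) :
    centralizer (Cfsg.pCore p ↥L : Set ↥L) ≤ Cfsg.pCore p ↥L := by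
  rw [H60.hasCharP_iff]
  obtain ⟨h, hh, hgen⟩ := s.exists_generated
  obtain ⟨hLE, hLW, -, -⟩ := s.core_data hh hgen
  set W := Cfsg.pCoreOf p H with hW
  set A := Y[p, M] ⊓ W with hA
  set E := A ⊔ cj A h with hE
  set O := Cfsg.pCoreOf p L with hO
  have hWn : cj W h = W := H60.cj_eq_self_iff.2 (H60.le_normalizer_pCoreOf H (s.hLH hh))
  have hEW : E ≤ W := sup_le inf_le_right ((H60.cj_mono inf_le_right h).trans hWn.le)
  have hEL : E ≤ L := sup_le (inf_le_left.trans s.hYL) ((H60.cj_mono inf_le_left h).trans (s.cj_le hh))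
  have hEO : E ≤ O := H60.le_pCoreOf hEL hLE ((H60.pCoreOf_isPGroup H).to_le hEW)
  refine H60.le_pCoreOf inf_le_left
    (H60.le_normalizer_inf Subgroup.le_normalizer
      ((H60.le_normalizer_pCoreOf L).trans (H60.normalizer_le_normalizer_centralizer _))) ?_
  refine H60.isPGroup_of_coprime_eq_one fun x hx hco => ?_
  have hxW : x ∈ W := by
    refine (H60.hasCharP_iff H).1 s.ctx.hH.1 ⟨s.hLH hx.1, mem_centralizer_iff.2 fun w hw => ?_⟩
    refine (H60.commute_of_commutator_fixed (M := E) (p := p)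
      ((H60.pCoreOf_isPGroup H).to_le hEW) hco
      (fun e he => (mem_centralizer_iff.1 hx.2 e (hEO he)).symm) ?_).symm
    simpa [commutatorElement_def] using hLW (commutator_mem_commutator hx.1 hw)
  obtain ⟨k, hk⟩ := H60.pCoreOf_isPGroup H ⟨x, hxW⟩
  exact orderOf_eq_one_iff.1 (Nat.eq_one_of_dvd_coprimes (hco.pow_right k) dvd_rfl
    (orderOf_dvd_of_pow_eq_one (congrArg Subtype.val hk)))

/-- A section between `W₁` and `V` of `H` is minimal. -/
def IsChiefSection (H V W₁ : Subgroup G) : Prop :=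
  W₁ < V ∧ H ≤ normalizer (V : Set G) ∧ H ≤ normalizer (W₁ : Set G) ∧
    ∀ Z : Subgroup G, H ≤ normalizer (Z : Set G) → W₁ ≤ Z → Z ≤ V → Z = W₁ ∨ Z = V

/-- A chief section centralized by `K`, where `H = K P` with `P` a `p`-group, is central. -/
theorem central_of_sup {K P V W₁ : Subgroup G} (hP : IsPGroup p P) (hV : IsPGroup p V)
    (hVH : V ≤ H) (hchief : IsChiefSection H V W₁) (hKH : K ≤ H) (hPH : P ≤ H) (hH : H ≤ K ⊔ P)
    (hK : ⁅K, V⁆ ≤ W₁) : ⁅H, V⁆ ≤ W₁ := by
  obtain ⟨hlt, hHV, hHW, hmin⟩ := hchief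
  obtain ⟨v, hv, hvW, hfix⟩ :=
    exists_fixed hP hV hlt (hPH.trans hHV) (hPH.trans hHW) (hVH.trans hHW)
  set Z := W₁ ⊔ Subgroup.zpowers v with hZ
  have hP' : ⁅P, Subgroup.zpowers v⁆ ≤ W₁ :=
    commutator_zpowers_le (hPH.trans hHW) (hHW (hVH hv)) hfix
  have hK' : ⁅K, Subgroup.zpowers v⁆ ≤ W₁ :=
    (commutator_mono le_rfl (Subgroup.zpowers_le.2 hv)).trans hK
  have hHZ : H ≤ normalizer (Z : Set G) := hH.trans (sup_le
    (le_normalizer_sup_of_commutator_le (hKH.trans hHW) hK')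
    (le_normalizer_sup_of_commutator_le (hPH.trans hHW) hP'))
  have hZV : Z = V := (hmin Z hHZ le_sup_left (sup_le hlt.le (Subgroup.zpowers_le.2 hv))).resolve_left
    fun h => hvW (h ▸ mem_sup_right (Subgroup.mem_zpowers v))
  have hPV : ⁅P, V⁆ ≤ W₁ := by
    rw [← hZV, commutator_comm]
    refine sup_commutator_le Subgroup.le_normalizer (Subgroup.zpowers_le.2 (hHW (hVH hv))) ?_ ?_
    · rw [commutator_comm]; exact H60.commutator_le_of_le_normalizer (hPH.trans hHW)
    · rw [commutator_comm]; exact hP'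
  exact (commutator_mono hH le_rfl).trans
    (sup_commutator_le (hKH.trans hHW) (hPH.trans hHW) hK hPV)

/-- The elements of `H` acting trivially on `V/W₁`. -/
noncomputable def sectionKer (H V W₁ : Subgroup G) (hn : (W₁.subgroupOf H).Normal) : Subgroup G :=
  letI := hn
  ((centralizer (((V.subgroupOf H).map (QuotientGroup.mk' (W₁.subgroupOf H)) :
    Subgroup (↥H ⧸ W₁.subgroupOf H)) : Set (↥H ⧸ W₁.subgroupOf H))).comap
      (QuotientGroup.mk' (W₁.subgroupOf H))).map H.subtype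

theorem mem_sectionKer {H V W₁ : Subgroup G} {hn : (W₁.subgroupOf H).Normal} (hVH : V ≤ H) {g : G} :
    g ∈ sectionKer H V W₁ hn ↔ g ∈ H ∧ ∀ v ∈ V, ⁅g, v⁆ ∈ W₁ := by
  haveI := hn
  set f := QuotientGroup.mk' (W₁.subgroupOf H)
  constructor
  · rintro ⟨x, hx, rfl⟩
    refine ⟨x.2, fun v hv => ?_⟩
    have h1 : f (⟨v, hVH hv⟩ : H) * f x = f x * f ⟨v, hVH hv⟩ :=
      mem_centralizer_iff.1 hx _ (mem_map_of_mem f hv)
    have h2 : f ⁅x, (⟨v, hVH hv⟩ : H)⁆ = 1 := by
      rw [map_commutatorElement, commutatorElement_eq_one_iff_mul_comm]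
      exact h1.symm
    exact (QuotientGroup.eq_one_iff ⁅x, (⟨v, hVH hv⟩ : H)⁆).1 h2
  · rintro ⟨hg, h⟩
    refine ⟨⟨g, hg⟩, mem_centralizer_iff.2 ?_, rfl⟩
    rintro _ ⟨v, hv, rfl⟩
    refine (commutatorElement_eq_one_iff_mul_comm.1 ?_).symm
    rw [← map_commutatorElement]
    exact (QuotientGroup.eq_one_iff ⁅(⟨g, hg⟩ : H), v⁆).2 (h (v : G) hv)

theorem le_normalizer_sectionKer {H V W₁ : Subgroup G} {hn : (W₁.subgroupOf H).Normal} (hVH : V ≤ H)
    (hHV : H ≤ normalizer (V : Set G)) (hHW : H ≤ normalizer (W₁ : Set G)) :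
    H ≤ normalizer (sectionKer H V W₁ hn : Set G) := by
  intro x hx
  refine H60.cj_eq_self_iff.1 (eq_of_le_of_card_ge ?_ (H60.card_cj _ _).ge)
  rintro _ ⟨g, hg, rfl⟩
  obtain ⟨hgH, hg'⟩ := (mem_sectionKer hVH).1 hg
  refine (mem_sectionKer hVH).2 ⟨H.mul_mem (H.mul_mem hx hgH) (H.inv_mem hx), fun v hv => ?_⟩
  have hv' : x⁻¹ * v * x ∈ V := by
    have := (mem_normalizer_iff.1 (hHV (H.inv_mem hx)) v).1 hv
    simpa using this
  have h1 := (mem_normalizer_iff.1 (hHW hx) _).1 (hg' _ hv')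
  simpa [commutatorElement_def, mul_assoc] using h1

/-- `O_p(L) ∩ Y_M` centralizes the noncentral chief sections of `H` in `O_p(H)`. -/
theorem Small.section_trivial (s : Small p S Q M H L) {V W₁ : Subgroup G}
    (hVW : V ≤ Cfsg.pCoreOf p H) (hchief : IsChiefSection H V W₁)
    {y : G} (hy : y ∈ Cfsg.pCoreOf p L ⊓ Y[p, M]) : ∀ v ∈ V, ⁅y, v⁆ ∈ W₁ := by
  obtain ⟨h, hh, -, hgen⟩ := s.exists_not_mem
  obtain ⟨hLE, hLW, -, -⟩ := s.core_data hh hgen
  obtain ⟨hlt, hHV, hHW, hmin⟩ := hchief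
  set Y := Y[p, M] with hY
  set O := Cfsg.pCoreOf p L with hO
  set W := Cfsg.pCoreOf p H with hW
  set Y₁ := cj Y h with hY₁
  set A := Y ⊓ W with hA
  set E := A ⊔ cj A h with hE
  have hVH : V ≤ H := hVW.trans (H60.pCoreOf_le H)
  have hVp : IsPGroup p V := (H60.pCoreOf_isPGroup H).to_le hVW
  have hPp : IsPGroup p P[p, M] := H60.pCoreOf_isPGroup M
  by_cases hcen : ⁅H, V⁆ ≤ W₁
  · exact fun v hv => hcen (commutator_mem_commutator (s.ctx.y_le hy.2) hv)
  have hyc : ∀ x ∈ P[p, M], y * x = x * y := fun x hx =>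
    mem_centralizer_iff.1 (H60.pCoreOf_le_centralizer_yOf M hx) y hy.2
  have hWn : cj W h = W := H60.cj_eq_self_iff.2 (H60.le_normalizer_pCoreOf H (s.hLH hh))
  have hWY : W ≤ normalizer (Y : Set G) :=
    (pCoreOf_le_normalizer s.ctx.base s.ctx.hasym s.ctx.p_le).trans s.ctx.base.normalizer_pCoreOf_le
  have hYab := (H60.isElementaryAbelian_yOf (p := p) M).1.is_comm.comm
  have hYc : Y ≤ centralizer (Y : Set G) := fun a ha =>
    mem_centralizer_iff.2 fun z hz => congrArg Subtype.val (hYab ⟨z, hz⟩ ⟨a, ha⟩)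
  have hY₁c : Y₁ ≤ centralizer (Y₁ : Set G) := by
    have := H60.cj_mono hYc h
    rwa [H60.cj_centralizer] at this
  -- `y` centralizes `E` modulo `W₁`
  have hEV : ∀ e ∈ E ⊓ V, ⁅y, e⁆ ∈ W₁ := by
    intro e he
    set z := ⁅y, e⁆ with hz
    have hzV : z ∈ V := by
      have h1 := (mem_normalizer_iff.1 (hHV (s.ctx.y_le hy.2)) e).1 he.2
      exact mul_mem h1 (inv_mem he.2)
    have hAB : A ≤ normalizer (cj A h : Set G) := by
      have hBe : cj A h = Y₁ ⊓ W := by rw [hA, H60.cj_inf, hWn]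
      rw [hBe]
      refine H60.le_normalizer_inf (inf_le_right.trans ?_) (inf_le_right.trans Subgroup.le_normalizer)
      rw [hY₁, ← H60.cj_normalizer, ← hWn]; exact H60.cj_mono hWY h
    have he' : e ∈ ((A ⊔ cj A h : Subgroup G) : Set G) := he.1
    rw [Subgroup.coe_mul_of_left_le_normalizer_right A _ hAB] at he'
    obtain ⟨a, ha, b, hb, hab⟩ := he'
    have hay : y * a = a * y := mem_centralizer_iff.1 (hYc ha.1) y hy.2
    have hbY₁ : b ∈ Y₁ := H60.cj_mono inf_le_left h hb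
    have hbW : b ∈ W := hWn.le (H60.cj_mono inf_le_right h hb)
    have hzab : z = a * ⁅y, b⁆ * a⁻¹ := by
      simp only at hab
      rw [hz, ← hab, commutatorElement_def, commutatorElement_def]
      calc y * (a * b) * y⁻¹ * (a * b)⁻¹ = (y * a) * b * y⁻¹ * b⁻¹ * a⁻¹ := by group
        _ = _ := by rw [hay]; group
    have h1 : ⁅y, b⁆ ∈ Y := by
      have h2 := (mem_normalizer_iff.1 (hWY hbW) y⁻¹).1 (inv_mem hy.2)
      have h3 := mul_mem hy.2 h2
      simpa [commutatorElement_def, mul_assoc] using h3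
    have hzy : z = ⁅y, b⁆ := by
      rw [hzab, mul_inv_eq_iff_eq_mul]
      exact (mem_centralizer_iff.1 (hYc h1) a ha.1)
    have hyY₁ : y ∈ normalizer (Y₁ : Set G) := by
      have hYON : O ≤ normalizer (Y : Set G) := by
        refine le_sup_right.trans (s.le_normalizer_of_lt (X := Y ⊔ O) le_sup_left
          (sup_le s.hYL (H60.pCoreOf_le L)) ?_)
        intro he
        apply s.hYO
        have hp : IsPGroup p ↥(Y ⊔ O) := (yOf_isPGroup M).to_sup_of_normal_right'
          (H60.pCoreOf_isPGroup L) (s.hYL.trans (H60.le_normalizer_pCoreOf L))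
        rw [he] at hp
        exact s.hYL.trans (H60.le_pCoreOf le_rfl Subgroup.le_normalizer hp)
      rw [hY₁, ← H60.cj_normalizer]
      exact H60.cj_mono hYON h
        ((H60.cj_eq_self_iff.2 (H60.le_normalizer_pCoreOf L hh)).ge hy.1)
    have hz₁ : ⁅y, b⁆ ∈ Y₁ := mul_mem ((mem_normalizer_iff.1 hyY₁ b).1 hbY₁) (inv_mem hbY₁)
    by_contra hzW
    apply hcen
    set Z := W₁ ⊔ Subgroup.zpowers z with hZdef
    have hzcen : H ≤ centralizer ({z} : Set G) := by
      rw [← s.sup_pCore, ← hgen]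
      refine sup_le (sup_le ?_ ?_) ?_
      · exact hYc.trans (centralizer_le (by simpa [hzy] using h1))
      · exact hY₁c.trans (centralizer_le (by simpa [hzy] using hz₁))
      · exact (H60.pCoreOf_le_centralizer_yOf M).trans (centralizer_le (by simpa [hzy] using h1))
    have hHz : ⁅H, Subgroup.zpowers z⁆ ≤ W₁ := by
      refine (le_of_eq ?_).trans bot_le
      rw [commutator_eq_bot_iff_le_centralizer]
      refine hzcen.trans fun x hx => mem_centralizer_iff.2 fun w hw => ?_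
      obtain ⟨n, rfl⟩ := Subgroup.mem_zpowers_iff.1 hw
      exact ((Commute.zpow_right (mem_centralizer_singleton_iff.1 hx) n).eq).symm
    have hZV : Z = V := (hmin Z (le_normalizer_sup_of_commutator_le hHW hHz) le_sup_left
      (sup_le hlt.le (Subgroup.zpowers_le.2 hzV))).resolve_left
      fun h' => hzW (h' ▸ mem_sup_right (Subgroup.mem_zpowers z))
    rw [← hZV, commutator_comm]
    refine sup_commutator_le Subgroup.le_normalizer (Subgroup.zpowers_le.2 (hHW (hVH hzV))) ?_ ?_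
    · rw [commutator_comm]; exact H60.commutator_le_of_le_normalizer hHW
    · rw [commutator_comm]; exact hHz
  -- the centralizer of `y` in the section
  haveI hWnorm : (W₁.subgroupOf H).Normal :=
    (normal_subgroupOf_iff_le_normalizer (hlt.le.trans hVH)).2 hHW
  set f := QuotientGroup.mk' (W₁.subgroupOf H) with hf
  have hyH : y ∈ H := s.ctx.y_le hy.2
  set X := V ⊓ ((centralizer ({f ⟨y, hyH⟩} : Set (↥H ⧸ W₁.subgroupOf H))).comap f).map H.subtype with hX
  have hmemX : ∀ v ∈ V, v ∈ X ↔ ⁅y, v⁆ ∈ W₁ := by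
    intro v hv
    have hiff : ⁅y, v⁆ ∈ W₁ ↔ f ⟨v, hVH hv⟩ * f ⟨y, hyH⟩ = f ⟨y, hyH⟩ * f ⟨v, hVH hv⟩ := by
      rw [eq_comm, ← commutatorElement_eq_one_iff_mul_comm, ← map_commutatorElement]
      exact (QuotientGroup.eq_one_iff (N := W₁.subgroupOf H) ⁅(⟨y, hyH⟩ : H), (⟨v, hVH hv⟩ : H)⁆).symm
    constructor
    · rintro ⟨-, w, hw, rfl⟩
      exact hiff.2 (mem_centralizer_singleton_iff.1 hw)
    · exact fun h1 => ⟨hv, ⟨v, hVH hv⟩, mem_centralizer_singleton_iff.2 (hiff.1 h1), rfl⟩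
  have hWX : W₁ ≤ X := fun w hw => (hmemX w (hlt.le hw)).2
    (mul_mem ((mem_normalizer_iff.1 (hHW hyH) w).1 hw) (inv_mem hw))
  have hLV : ⁅L, V⁆ ≤ E ⊓ V :=
    le_inf ((commutator_mono le_rfl hVW).trans hLW) (H60.commutator_le_of_le_normalizer (s.hLH.trans hHV))
  have hEX : E ⊓ V ≤ X := fun e he => (hmemX e he.2).2 (hEV e he)
  have hHX : H ≤ normalizer (X : Set G) := by
    rw [← s.sup_pCore]
    refine sup_le (fun l hl => ?_) (fun x hx => ?_)
    · refine H60.cj_eq_self_iff.1 (eq_of_le_of_card_ge ?_ (H60.card_cj _ _).ge)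
      rintro _ ⟨v, hv, rfl⟩
      have h1 := mul_mem (hEX (hLV (commutator_mem_commutator hl hv.1))) hv
      simpa [commutatorElement_def] using h1
    · refine H60.cj_eq_self_iff.1 (eq_of_le_of_card_ge ?_ (H60.card_cj _ _).ge)
      rintro _ ⟨v, hv, rfl⟩
      have hxH := s.ctx.p_le hx
      refine (hmemX _ ((mem_normalizer_iff.1 (hHV hxH) v).1 hv.1)).2 ?_
      have h1 := (mem_normalizer_iff.1 (hHW hxH) _).1 ((hmemX v hv.1).1 hv)
      have e : ⁅y, x * v * x⁻¹⁆ = x * ⁅y, v⁆ * x⁻¹ := by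
        rw [commutatorElement_def, commutatorElement_def]
        calc y * (x * v * x⁻¹) * y⁻¹ * (x * v * x⁻¹)⁻¹
            = (y * x) * v * (y * x)⁻¹ * (x * v * x⁻¹)⁻¹ := by group
          _ = (x * y) * v * (x * y)⁻¹ * (x * v * x⁻¹)⁻¹ := by rw [hyc x hx]
          _ = x * (y * v * y⁻¹ * v⁻¹) * x⁻¹ := by group
      show ⁅y, x * v * x⁻¹⁆ ∈ W₁
      rw [e]
      exact h1
  rcases hmin X hHX hWX inf_le_left with h' | h'
  · exact absurd (central_of_sup hPp hVp hVH ⟨hlt, hHV, hHW, hmin⟩ s.hLH s.ctx.p_le s.sup_pCore.ge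
      (hLV.trans (hEX.trans h'.le))) hcen
  · exact fun v hv => (hmemX v hv).1 (h'.ge hv)

/-- `O_p(L) ∩ Y_M ≤ O_p(H)`. -/
theorem Small.inter_le (s : Small p S Q M H L) :
    Cfsg.pCoreOf p L ⊓ Y[p, M] ≤ Cfsg.pCoreOf p H := by
  intro y hy
  set W := Cfsg.pCoreOf p H with hW
  have key : ∀ V : Subgroup G, V ≤ W → H ≤ normalizer (V : Set G) → ∃ K : Subgroup G, K ≤ H ∧
      H ≤ normalizer (K : Set G) ∧ y ∈ K ∧
        ∀ g ∈ K, (orderOf g).Coprime p → ∀ v ∈ V, g * v = v * g := by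
    intro V
    induction V using WellFoundedLT.induction with
    | _ V ih =>
      intro hVW hHV
      rcases eq_or_ne V ⊥ with rfl | hne
      · exact ⟨H, le_rfl, Subgroup.le_normalizer, s.ctx.y_le hy.2, fun g _ _ v hv => by
          rw [Subgroup.mem_bot.1 hv, mul_one, one_mul]⟩
      obtain ⟨W₁, -, hW₁, hmax⟩ := Finite.exists_le_maximal
        (p := fun X : Subgroup G => X < V ∧ H ≤ normalizer (X : Set G)) (a := ⊥)
        ⟨bot_lt_iff_ne_bot.2 hne, fun x _ => by
          rw [Subgroup.normalizer_eq_top_iff.2 (inferInstance : (⊥ : Subgroup G).Normal)]; trivial⟩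
      have hchief : IsChiefSection H V W₁ := ⟨hW₁.1, hHV, hW₁.2, fun Z hHZ h1 h2 => by
        rcases eq_or_lt_of_le h2 with h' | h'
        · exact Or.inr h'
        · exact Or.inl (le_antisymm (hmax ⟨h', hHZ⟩ h1) h1)⟩
      have hVH : V ≤ H := hVW.trans (H60.pCoreOf_le H)
      have hn : (W₁.subgroupOf H).Normal :=
        (normal_subgroupOf_iff_le_normalizer (hW₁.1.le.trans hVH)).2 hW₁.2
      obtain ⟨K, hKH, hHK, hyK, hK⟩ := ih W₁ hW₁.1 (hW₁.1.le.trans hVW) hW₁.2
      refine ⟨K ⊓ sectionKer H V W₁ hn, inf_le_left.trans hKH,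
        H60.le_normalizer_inf hHK (le_normalizer_sectionKer hVH hHV hW₁.2), ⟨hyK, ?_⟩, ?_⟩
      · exact (mem_sectionKer hVH).2 ⟨s.ctx.y_le hy.2, s.section_trivial hVW hchief hy⟩
      · intro g hg hco v hv
        refine H60.commute_of_commutator_fixed (M := W₁) (p := p)
          ((H60.pCoreOf_isPGroup H).to_le (hW₁.1.le.trans hVW)) hco (fun w hw => hK g hg.1 hco w hw) ?_
        simpa [commutatorElement_def] using ((mem_sectionKer hVH).1 hg.2).2 v hv
  obtain ⟨K, hKH, hHK, hyK, hK⟩ := key W le_rfl (H60.le_normalizer_pCoreOf H)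
  refine H60.le_pCoreOf hKH hHK (H60.isPGroup_of_coprime_eq_one fun g hg hco => ?_) hyK
  have hgW : g ∈ W := (H60.hasCharP_iff H).1 s.ctx.hH.1
    ⟨hKH hg, mem_centralizer_iff.2 fun w hw => (hK g hg hco w hw).symm⟩
  obtain ⟨k, hk⟩ := H60.pCoreOf_isPGroup H ⟨g, hgW⟩
  exact orderOf_eq_one_iff.1 (Nat.eq_one_of_dvd_coprimes (hco.pow_right k) dvd_rfl
    (orderOf_dvd_of_pow_eq_one (congrArg Subtype.val hk)))

theorem Small.normalClosure_inter (s : Small p S Q M H L) :
    (normalClosure (((Cfsg.pCoreOf p L ⊓ Y[p, M]).subgroupOf L : Subgroup L) : Set L)).map L.subtype ≤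
      Cfsg.pCoreOf p H := by
  rw [map_le_iff_le_comap]
  haveI : ((Cfsg.pCoreOf p H).comap L.subtype).Normal := by
    refine ⟨fun x hx l => ?_⟩
    exact (mem_normalizer_iff.1 (H60.le_normalizer_pCoreOf H (s.hLH l.2)) (x : G)).1 hx
  exact normalClosure_le_normal (N := (Cfsg.pCoreOf p H).comap L.subtype)
    fun x hx => s.inter_le hx

/-- `O^p(L)` is nontrivial on the noncentral chief sections. -/
theorem Small.chief (s : Small p S Q M H L) {V W₁ : Subgroup G} (hVW : V ≤ Cfsg.pCoreOf p H)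
    (hchief : IsChiefSection H V W₁) (hnc : ¬ ⁅V, H⁆ ≤ W₁) : ¬ ⁅V, R[p, L]⁆ ≤ W₁ := by
  intro hR
  apply hnc
  rw [commutator_comm] at hR ⊢
  have hVH : V ≤ H := hVW.trans (H60.pCoreOf_le H)
  obtain ⟨-, hHV, hHW, -⟩ := id hchief
  have hn : (W₁.subgroupOf H).Normal :=
    (normal_subgroupOf_iff_le_normalizer (hchief.1.le.trans hVH)).2 hHW
  set K := sectionKer H V W₁ hn with hK
  have hKH : K ≤ H := fun g hg => ((mem_sectionKer hVH).1 hg).1
  have hRK : R[p, L] ≤ K := fun r hr => (mem_sectionKer hVH).2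
    ⟨s.hLH (residual_le L hr), fun v hv => hR (commutator_mem_commutator hr hv)⟩
  -- `L = O^p(L) Y`
  set f := QuotientGroup.mk' (Cfsg.pResidual p ↥L) with hf
  have hfY : ((Y[p, M]).subgroupOf L).map f = ⊤ := by
    refine le_normalizer_normal_of_closure Fusion.isPGroup_quotient_pResidual ?_
    rw [coe_map, ← Subgroup.map_normalClosure _ f (QuotientGroup.mk'_surjective _), s.minimal_over.1,
      Subgroup.map_top_of_surjective _ (QuotientGroup.mk'_surjective _)]
  have hL : L ≤ K ⊔ P[p, M] := by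
    intro l hl
    obtain ⟨y, hy, hye⟩ : f ⟨l, hl⟩ ∈ ((Y[p, M]).subgroupOf L).map f := hfY ▸ mem_top _
    have h1 : y⁻¹ * ⟨l, hl⟩ ∈ Cfsg.pResidual p ↥L := QuotientGroup.eq.1 hye
    have h2 : (y : G)⁻¹ * l ∈ K := hRK ⟨_, h1, rfl⟩
    have h3 := mul_mem (mem_sup_right (S := K) (H60.yOf_le_pCoreOf M hy : (y : G) ∈ P[p, M]))
      (mem_sup_left (T := P[p, M]) h2)
    simpa using h3
  exact central_of_sup (H60.pCoreOf_isPGroup M) ((H60.pCoreOf_isPGroup H).to_le hVW) hVH hchief hKH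
    s.ctx.p_le (s.sup_pCore.ge.trans (sup_le hL le_sup_right))
    (commutator_le.2 fun g hg v hv => ((mem_sectionKer hVH).1 hg).2 v hv)

end Cfsg.Agent.H72.FrakH
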