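import Cfsg.Agent.H60.Dagger
import Cfsg.Agent.H59.YClosure
import Cfsg.Agent.H59.SubnormalY
import Cfsg.Agent.H59.PIrred

/-!
Existence of members of `𝔐` over a given member of `𝓛` containing a Sylow subgroup.
-/

set_option autoImplicit false
set_option linter.style.haveILetI false
set_option linter.unusedSectionVars false
set_option linter.unusedVariables false

namespace Cfsg.Agent.H72.FrakMExists

open Subgroup
open H60 (cj)

variable {G : Type*} [Group G] [Finite G] {p : ℕ} [Fact p.Prime]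

local notation "Y[" p ", " M "]" => Cfsg.largestPReducedOf p M

/-- Every subgroup over `T` with nontrivial core lies in `𝓛`. -/
def Par (p : ℕ) (T : Sylow p G) : Prop :=
  ∀ R : Subgroup G, (T : Subgroup G) ≤ R → Cfsg.pCore p ↥R ≠ ⊥ → R ∈ Cfsg.charPSubgroups p G

theorem charP_inner {L : Subgroup G} (hL : L ∈ Cfsg.charPSubgroups p G) :
    centralizer (Cfsg.pCore p ↥L : Set ↥L) ≤ Cfsg.pCore p ↥L :=
  (H60.hasCharP_iff L).2 (inf_le_right.trans hL.2)

theorem par_of_isOfParabolicCharacteristic (h : Cfsg.IsOfParabolicCharacteristic p G) (T : Sylow p G) :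
    Par p T := by
  intro R hTR hO
  refine ⟨hO, ?_⟩
  set P := Cfsg.pCoreOf p R with hP
  have hP1 : P ≠ ⊥ := fun hb => hO ((H60.pCoreOf_eq_bot_iff R).1 hb)
  have hRN := H60.le_normalizer_pCoreOf (p := p) R
  have h1 := (H60.hasCharP_iff _).1
    (h P (H60.pCoreOf_isPGroup R) hP1 ⟨T, hTR.trans hRN⟩)
  set N := normalizer (P : Set G) with hN
  have h2 : Cfsg.pCoreOf p N ≤ P := H60.le_pCoreOf
    ((H59.pCoreOf_le_sylow T (hTR.trans hRN)).trans hTR)
    (hRN.trans (H60.le_normalizer_pCoreOf N)) (H60.pCoreOf_isPGroup N)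
  show centralizer (P : Set G) ≤ P
  exact ((le_inf (centralizer_le_normalizer _) (centralizer_le h2)).trans h1).trans h2

theorem yOf_ne_bot (T : Sylow p G) {L : Subgroup G} (hTL : (T : Subgroup G) ≤ L)
    (hL : L ∈ Cfsg.charPSubgroups p G) : Y[p, L] ≠ ⊥ := by
  intro hb
  have hT1 : (T : Subgroup G) ≠ ⊥ := fun h => hL.1
    ((H60.pCoreOf_eq_bot_iff L).1 (le_bot_iff.1 (h ▸ H59.pCoreOf_le_sylow T hTL)))
  set Z := (T : Subgroup G) ⊓ centralizer ((T : Subgroup G) : Set G) with hZ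
  have hZ1 : Z ≠ ⊥ := H60.inf_centralizer_ne_bot T.2 T.2 Subgroup.le_normalizer hT1
  haveI : Nontrivial Z := (Subgroup.nontrivial_iff_ne_bot Z).2 hZ1
  have hZp : IsPGroup p Z := T.2.to_inf_left
  obtain ⟨k, hk0, hk⟩ := hZp.nontrivial_iff_card.1 inferInstance
  obtain ⟨z, hz⟩ := exists_prime_orderOf_dvd_card' (G := Z) p (hk ▸ dvd_pow_self p hk0.ne')
  have hmem : (z : G) ∈ Y[p, L] := H59.sylowCenterClosure_le_yOf (charP_inner hL)
    (H59.omegaOne_center_le_sylowCenterClosure T hTL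
      (subset_closure ⟨z.2, by rw [← Subgroup.coe_pow, ← hz, pow_orderOf_eq_one, Subgroup.coe_one]⟩))
  rw [hb, Subgroup.mem_bot] at hmem
  rw [show z = 1 from Subtype.ext hmem, orderOf_one] at hz
  exact (Fact.out : p.Prime).ne_one hz.symm

/-- `Y` is monotone on subgroups over a Sylow subgroup. -/
theorem yOf_mono (T : Sylow p G) {L K : Subgroup G} (hTL : (T : Subgroup G) ≤ L) (hLK : L ≤ K)
    (hK : centralizer (Cfsg.pCore p ↥K : Set ↥K) ≤ Cfsg.pCore p ↥K) :
    Y[p, L] ≤ Y[p, K] := by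
  set e := Subgroup.subgroupOfEquivOfLe hLK
  set X : Subgroup (L.subgroupOf K) := (Cfsg.largestPReduced p L).map e.symm.toMonoidHom with hX
  have hred : Cfsg.IsPReducedNormal p X :=
    H59.isPReducedNormal_map e.symm (H60.isPReducedNormal_largest (p := p) (L := L))
  have h := H59.isPReducedNormal_normalClosure hK (T.subtype (hTL.trans hLK)) (L.subgroupOf K)
    (fun x hx => hTL hx) X hred
  rintro _ ⟨y, hy, rfl⟩
  refine ⟨Subgroup.inclusion hLK y, le_sSup (α := Subgroup K) h (subset_normalClosure ?_), rfl⟩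
  exact ⟨e.symm y, mem_map_of_mem _ hy, rfl⟩

/-- Elementary abelian subgroups centralized by `T ∩ C(Y_L)` and over `Y_L` lie in `Y_L`. -/
theorem le_yOf_of_centralized (T : Sylow p G) {L : Subgroup G} (hTL : (T : Subgroup G) ≤ L)
    (hL : L ∈ Cfsg.charPSubgroups p G) {Z : Subgroup G} (hZ : Cfsg.IsElementaryAbelian p Z)
    (hZL : Z ≤ L) (hYZ : Y[p, L] ≤ Z)
    (hBZ : (T : Subgroup G) ⊓ centralizer (Y[p, L] : Set G) ≤ centralizer (Z : Set G)) :
    Z ≤ Y[p, L] := by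
  set A := centralizer (Cfsg.pCore p ↥L : Set ↥L) with hA
  have hAn : A.Normal := normal_centralizer
  have hchar := charP_inner hL
  have hAA : A ≤ centralizer (A : Set L) := fun a ha b hb =>
    mem_centralizer_iff.mp ha b (hchar hb)
  haveI hOn : (H59.omegaAb p A hAA).Normal := ⟨fun v hv g => ⟨hAn.conj_mem v hv.1 g, by
    rw [conj_pow, hv.2, mul_one, mul_inv_cancel]⟩⟩
  have hOB : Cfsg.pCoreOf p L ≤ (T : Subgroup G) ⊓ centralizer (Y[p, L] : Set G) :=
    le_inf (H59.pCoreOf_le_sylow T hTL) (H60.pCoreOf_le_centralizer_yOf L)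
  set Z' := Z.subgroupOf L with hZ'
  set R := normalClosure (Z' : Set L) with hR
  have hRO : R ≤ H59.omegaAb p A hAA := normalClosure_le_normal fun z hz =>
    ⟨fun q hq => Subtype.ext
      (mem_centralizer_iff.1 (hBZ (hOB ⟨q, hq, rfl⟩)) (z : G) hz).symm,
      Subtype.ext (hZ.2 _ hz)⟩
  have hred : Cfsg.IsPReducedNormal p R := by
    refine H59.isPReducedNormal_iff.2
      ⟨H59.isElementaryAbelian_mono (H59.isElementaryAbelian_omegaAb A hAA) hRO, fun N hN hpow => ?_⟩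
    set YL := Cfsg.largestPReduced p ↥L with hYL
    have hYR : YL ≤ R := fun y hy => subset_normalClosure
      (hYZ (mem_map_of_mem L.subtype hy) : (y : G) ∈ Z)
    have hNY : N ≤ centralizer (YL : Set L) :=
      (H59.isPReducedNormal_iff.1 (H60.isPReducedNormal_largest (p := p) (L := L))).2 N hN
        fun x hx => (hpow x hx).imp fun k hk => centralizer_le hYR hk
    have hCn : (centralizer (R : Set L)).Normal := normal_centralizer
    set f := QuotientGroup.mk' (centralizer (R : Set L)) with hf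
    have hNle : N ≤ centralizer (Z' : Set L) := by
      intro n hn
      have h1 : f n ∈ ((((T.subtype hTL).mapSurjective (f := f) (QuotientGroup.mk'_surjective _)) :
          Sylow p (L ⧸ centralizer (R : Set L))) : Subgroup (L ⧸ centralizer (R : Set L))) := by
        refine Cores.pCore_le_sylow _ (Cores.le_pCore (N := N.map f) (hN :=
          hN.map _ (QuotientGroup.mk'_surjective _)) ?_ (mem_map_of_mem f hn))
        rintro ⟨_, x, hx, rfl⟩
        obtain ⟨k, hk⟩ := hpow x hx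
        exact ⟨k, Subtype.ext ((QuotientGroup.eq_one_iff _).mpr hk)⟩
      rw [Sylow.coe_mapSurjective] at h1
      obtain ⟨t, ht, htn⟩ := h1
      have hc : t⁻¹ * n ∈ centralizer (R : Set L) := QuotientGroup.eq.mp htn
      have htY : t ∈ centralizer (YL : Set L) := by
        rw [show t = n * (t⁻¹ * n)⁻¹ by group]
        exact mul_mem (hNY hn) (inv_mem (centralizer_le hYR hc))
      have htB : (t : G) ∈ (T : Subgroup G) ⊓ centralizer (Y[p, L] : Set G) := by
        refine ⟨ht, ?_⟩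
        rintro _ ⟨y, hy, rfl⟩
        exact congrArg Subtype.val (htY y hy)
      have htZ : t ∈ centralizer (Z' : Set L) := fun z hz =>
        Subtype.ext (mem_centralizer_iff.1 (hBZ htB) (z : G) hz)
      rw [show n = t * (t⁻¹ * n) by group]
      exact mul_mem htZ (centralizer_le subset_normalClosure hc)
    rw [← le_centralizer_iff]
    exact normalClosure_le_normal fun x hx => le_centralizer_iff.mp hNle hx
  exact fun z hz => ⟨⟨z, hZL hz⟩, le_sSup (α := Subgroup L) hred (subset_normalClosure hz), rfl⟩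

/-- Frattini argument for `T ∩ C` inside an overgroup `K` of `T` normalizing `C`. -/
theorem exists_frattini (T : Sylow p G) {K C : Subgroup G} (hTK : (T : Subgroup G) ≤ K)
    (hKC : K ≤ normalizer (C : Set G)) {x : G} (hx : x ∈ K) :
    ∃ n ∈ K ⊓ normalizer (((T : Subgroup G) ⊓ C : Subgroup G) : Set G),
      ∃ c ∈ K ⊓ C, x = n * c := by
  set B := (T : Subgroup G) ⊓ C with hB
  set C₀ := K ⊓ C with hC₀
  have hKC₀ : K ≤ normalizer (C₀ : Set G) := H60.le_normalizer_inf Subgroup.le_normalizer hKC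
  have hBC₀ : B ≤ C₀ := inf_le_inf_right _ hTK
  have hB' : (T : Subgroup G) ⊓ C₀ = B := by
    rw [hC₀, hB, ← inf_assoc, inf_eq_left.2 hTK]
  obtain ⟨P, hP⟩ := H59.exists_sylow_eq_inf T (C := C₀) (hTK.trans hKC₀)
  rw [hB'] at hP
  have hxB : cj B x ≤ C₀ := (H60.cj_mono hBC₀ x).trans (H60.cj_eq_self_iff.2 (hKC₀ hx)).le
  obtain ⟨P', hP'⟩ := (((T.isPGroup'.to_le inf_le_left).map (MulAut.conj x).toMonoidHom).comap_subtype :
    IsPGroup p ((cj B x).subgroupOf C₀)).exists_le_sylow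
  obtain ⟨c, hc⟩ := MulAction.exists_smul_eq C₀ P' P
  have hle : cj B ((c : G) * x) ≤ B := by
    rw [← H60.cj_cj]
    rintro _ ⟨y, hy, rfl⟩
    have h1 : c * ⟨y, hxB hy⟩ * c⁻¹ ∈ (P : Subgroup C₀) := by
      rw [← hc]; exact ⟨⟨y, hxB hy⟩, hP' hy, rfl⟩
    rw [hP] at h1
    exact h1
  have hn : (c : G) * x ∈ normalizer (B : Set G) :=
    H60.cj_eq_self_iff.1 (eq_of_le_of_card_ge hle (H60.card_cj _ _).ge)
  refine ⟨(c : G) * x, ⟨mul_mem c.2.1 hx, hn⟩, x⁻¹ * (c : G)⁻¹ * x, ?_, by group⟩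
  have := (mem_normalizer_iff.1 (hKC₀ (inv_mem hx)) _).1 (inv_mem c.2)
  simpa using this

theorem exists_eq_mul_of_sup_eq_top {L : Type*} [Group L] {X C : Subgroup L} [C.Normal]
    (h : X ⊔ C = ⊤) (x : L) : ∃ m ∈ X, ∃ c ∈ C, x = m * c := by
  have hx : x ∈ ((X ⊔ C : Subgroup L) : Set L) := h ▸ mem_top x
  rw [mul_normal] at hx
  obtain ⟨m, hm, c, hc, rfl⟩ := hx
  exact ⟨m, hm, c, hc, rfl⟩

/-- A supplement of a normal subgroup containing the part of a Sylow subgroup inside it contains a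
Sylow subgroup. -/
theorem exists_sylow_le_supplement {L : Type*} [Group L] [Finite L] {X C : Subgroup L} [C.Normal]
    (hsup : X ⊔ C = ⊤) (hXC : ∀ V : Sylow p L, (V : Subgroup L) ⊓ C ≤ X) :
    ∃ V : Sylow p L, (V : Subgroup L) ≤ X := by
  obtain ⟨U⟩ := Sylow.nonempty (p := p) (G := X)
  set f := QuotientGroup.mk' C with hf
  have hfX : Function.Surjective (f.comp X.subtype) := fun a => by
    obtain ⟨x, rfl⟩ := QuotientGroup.mk'_surjective C a
    obtain ⟨m, hm, c, hc, rfl⟩ := exists_eq_mul_of_sup_eq_top hsup x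
    exact ⟨⟨m, hm⟩, ((QuotientGroup.mk_mul_of_mem m hc).symm : f m = f (m * c))⟩
  obtain ⟨V, hV⟩ := (U.isPGroup'.map X.subtype).exists_le_sylow
  have himg : (V : Subgroup L).map f = ((U.mapSurjective hfX : Sylow p (L ⧸ C)) : Subgroup (L ⧸ C)) := by
    refine (U.mapSurjective hfX).is_maximal' (V.isPGroup'.map f) ?_
    rw [Sylow.coe_mapSurjective, ← Subgroup.map_map]
    exact Subgroup.map_mono hV
  refine ⟨V, fun v hv => ?_⟩
  have h1 : f v ∈ ((U.mapSurjective hfX : Sylow p (L ⧸ C)) : Subgroup (L ⧸ C)) :=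
    himg ▸ mem_map_of_mem f hv
  rw [Sylow.coe_mapSurjective] at h1
  obtain ⟨u, hu, huv⟩ := h1
  have h2 : (u : L)⁻¹ * v ∈ C := QuotientGroup.eq.mp huv
  have h3 : (u : L)⁻¹ * v ∈ X := by
    refine hXC V ⟨?_, h2⟩
    exact (V : Subgroup L).mul_mem ((V : Subgroup L).inv_mem (hV (mem_map_of_mem X.subtype hu))) hv
  simpa using mul_mem u.2 h3

/-- `x ∈ X·C` as sets, for all `x ∈ K`. -/
def Covers (X K C : Subgroup G) : Prop := ∀ x ∈ K, ∃ m ∈ X, m⁻¹ * x ∈ C

theorem Covers.trans {X K L C D : Subgroup G} (h₁ : Covers X K C) (h₂ : Covers K L D) (hCD : C ≤ D) :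
    Covers X L D := fun x hx => by
  obtain ⟨k, hk, hkx⟩ := h₂ x hx
  obtain ⟨m, hm, hmk⟩ := h₁ k hk
  refine ⟨m, hm, ?_⟩
  simpa [mul_assoc] using mul_mem (hCD hmk) hkx

theorem Covers.sup_eq {X K C : Subgroup G} (h : Covers X K C) (hXK : X ≤ K) : K ⊔ C = X ⊔ C := by
  refine le_antisymm (sup_le (fun x hx => ?_) le_sup_right) (sup_le_sup_right hXK C)
  obtain ⟨m, hm, hmx⟩ := h x hx
  simpa using mul_mem (mem_sup_left (T := C) hm) (mem_sup_right (S := X) hmx)

/-- The main construction. -/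
theorem exists_frakM (T : Sylow p G) (hpar : Par p T) {L : Subgroup G}
    (hTL : (T : Subgroup G) ≤ L) (hL : L ∈ Cfsg.charPSubgroups p G) :
    ∃ M Ls : Subgroup G, (T : Subgroup G) ≤ M ∧ Cfsg.IsInFrakM p M ∧ (T : Subgroup G) ≤ Ls ∧ Ls ≤ M ∧
      Ls ∈ Cfsg.charPSubgroups p G ∧ Y[p, L] = Y[p, Ls] ∧ Y[p, L] ≤ Y[p, M] ∧
      L ⊔ centralizer (Y[p, L] : Set G) = Ls ⊔ centralizer (Y[p, L] : Set G) := by
  set CL := centralizer (Y[p, L] : Set G) with hCL
  let Good : Subgroup G → Prop := fun K =>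
    K ∈ Cfsg.maxCharPSubgroups p G ∧ (T : Subgroup G) ≤ K ∧ Covers K L CL ∧ Y[p, L] ≤ Y[p, K]
  have hmaxex : ∀ {X : Subgroup G}, X ∈ Cfsg.charPSubgroups p G →
      ∃ Z ∈ Cfsg.maxCharPSubgroups p G, X ≤ Z := by
    intro X hX
    obtain ⟨Z, hXZ, hZ⟩ := Finite.exists_le_maximal (p := fun Z => Z ∈ Cfsg.charPSubgroups p G) hX
    exact ⟨Z, ⟨hZ.1, fun W hW hle => le_antisymm (hZ.2 hW hle) hle⟩, hXZ⟩
  obtain ⟨Z₀, hZ₀, hLZ₀⟩ := hmaxex hL
  have hgood₀ : Good Z₀ := ⟨hZ₀, hTL.trans hLZ₀,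
    fun x hx => ⟨x, hLZ₀ hx, by rw [inv_mul_cancel]; exact one_mem _⟩,
    yOf_mono T hTL hLZ₀ (charP_inner hZ₀.1)⟩
  obtain ⟨Y, -, ⟨K, ⟨hKmax, hTK, hKL, hYK⟩, rfl⟩, hYmax⟩ := Finite.exists_le_maximal
    (p := fun W : Subgroup G => ∃ K, Good K ∧ Y[p, K] = W) ⟨Z₀, hgood₀, rfl⟩
  set Y := Y[p, K] with hY
  set C := centralizer (Y : Set G) with hC
  have hKY : K ≤ normalizer (Y : Set G) := H60.le_normalizer_yOf K
  have hY1 : Y ≠ ⊥ := yOf_ne_bot T hTK hKmax.1
  have hYp : IsPGroup p Y := H60.isPGroup_of_isElementaryAbelian (H60.isElementaryAbelian_yOf K)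
  have hN : normalizer (Y : Set G) = K := hKmax.2 _ (hpar _ (hTK.trans hKY) fun hb => hY1
    (le_bot_iff.1 ((H60.pCoreOf_eq_bot_iff _).2 hb ▸ H60.le_pCoreOf Subgroup.le_normalizer le_rfl hYp))) hKY
  have hCK : C ≤ K := hN ▸ centralizer_le_normalizer _
  have hKC : K ≤ normalizer (C : Set G) := hKY.trans (H60.normalizer_le_normalizer_centralizer _)
  have hYT : Y ≤ T := (H60.yOf_le_pCoreOf K).trans (H59.pCoreOf_le_sylow T hTK)
  -- the minimal supplement
  obtain ⟨M, -, ⟨hMK, hTM, hMcov⟩, hMmin⟩ := Finite.exists_le_minimal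
    (p := fun X : Subgroup G => X ≤ K ∧ (T : Subgroup G) ≤ X ∧ Covers X K C)
    (a := K) ⟨le_rfl, hTK, fun x hx => ⟨x, hx, by rw [inv_mul_cancel]; exact one_mem _⟩⟩
  have hsup : M ⊔ C = K := by
    rw [← hMcov.sup_eq hMK]; exact sup_eq_left.2 hCK
  have hYM : Y[p, M] = Y := le_antisymm (yOf_mono T hTM hMK (charP_inner hKmax.1))
    (H59.yOf_le_yOf_of_sup_eq (hYT.trans hTM) (hMcov.sup_eq hMK).symm)
  have hMc : M ∈ Cfsg.charPSubgroups p G := hpar M hTM fun hb => hY1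
    (le_bot_iff.1 (hYM ▸ (H60.yOf_le_pCoreOf M).trans ((H60.pCoreOf_eq_bot_iff M).2 hb).le))
  set B := (T : Subgroup G) ⊓ C with hB
  have hTB : (T : Subgroup G) ≤ normalizer (B : Set G) :=
    H60.le_normalizer_inf Subgroup.le_normalizer (hTK.trans hKC)
  have hMB : M ≤ normalizer (B : Set G) := by
    refine inf_eq_left.1 (le_antisymm inf_le_left (hMmin ⟨inf_le_left.trans hMK, le_inf hTM hTB, ?_⟩
      inf_le_left))
    intro x hx
    obtain ⟨m, hm, hmx⟩ := hMcov x hx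
    obtain ⟨n, hn, c, hc, rfl⟩ := exists_frattini T hTM (hMK.trans hKC) hm
    refine ⟨n, hn, ?_⟩
    rw [show n⁻¹ * x = c * ((n * c)⁻¹ * x) by group]
    exact mul_mem hc.2 hmx
  have hcl : Cfsg.IsPClosed p ↥(M ⊓ C) := by
    obtain ⟨P, hP⟩ := H59.exists_sylow_eq_inf T (C := M ⊓ C)
      (H60.le_normalizer_inf (hTM.trans Subgroup.le_normalizer) (hTK.trans hKC))
    haveI : (P : Subgroup ↥(M ⊓ C)).Normal := by
      rw [hP, ← inf_assoc, inf_eq_left.2 hTM]
      exact (normal_subgroupOf_iff_le_normalizer (inf_le_inf_right C hTM)).2 (inf_le_left.trans hMB)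
    exact H59.isPClosed_of_exists P (Cores.le_pCore P.isPGroup')
  have hBP : B ≤ Cfsg.pCoreOf p M :=
    H60.le_pCoreOf (inf_le_left.trans hTM) hMB T.isPGroup'.to_inf_left
  have hfrat : ((M ⊓ C).subgroupOf M).map (QuotientGroup.mk' (Cfsg.pCore p ↥M)) ≤
      frattini (↥M ⧸ Cfsg.pCore p ↥M) := by
    refine le_iInf₂ fun Xb (hXb : IsCoatom Xb) => by_contra fun hnot => hXb.1 ?_
    set f := QuotientGroup.mk' (Cfsg.pCore p ↥M) with hf
    set C' := (M ⊓ C).subgroupOf M with hC'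
    haveI : C'.Normal := (normal_subgroupOf_iff_le_normalizer inf_le_left).2
      (H60.le_normalizer_inf Subgroup.le_normalizer (hMK.trans hKC))
    haveI : (C'.map f).Normal := (inferInstance : C'.Normal).map _ (QuotientGroup.mk'_surjective _)
    have htop : Xb ⊔ C'.map f = ⊤ := hXb.2 _ (lt_of_le_of_ne le_sup_left fun h => hnot (h ▸ le_sup_right))
    set X := Xb.comap f with hX
    have hPX : Cfsg.pCore p ↥M ≤ X := fun m hm => by
      show f m ∈ Xb
      rw [hf, QuotientGroup.mk'_apply, (QuotientGroup.eq_one_iff m).2 hm]; exact one_mem _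
    have hXtop : X ⊔ C' = ⊤ := by
      rw [eq_top_iff]
      intro m _
      obtain ⟨a, ha, b, ⟨c, hc, rfl⟩, he⟩ := exists_eq_mul_of_sup_eq_top htop (f m)
      have : f (m * c⁻¹) ∈ Xb := by rw [map_mul, he, map_inv, mul_inv_cancel_right]; exact ha
      simpa using mul_mem (mem_sup_left (T := C') (show m * c⁻¹ ∈ X from this)) (mem_sup_right (S := X) hc)
    have hBX : B.subgroupOf M ≤ X := fun m hm => hPX (by
      obtain ⟨w, hw, hwm⟩ := hBP hm
      rwa [← show w = m from Subtype.ext hwm])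
    have hXC : ∀ V : Sylow p ↥M, (V : Subgroup ↥M) ⊓ C' ≤ X := by
      intro V m hm
      have h1 : Subgroup.zpowers ((m : ↥M) : G) ≤ Cfsg.pCoreOf p M := by
        refine H60.pClosed_centralizer_le_pCoreOf (by rw [hYM]; exact hcl) ?_ ?_
        · refine ((V.isPGroup'.map M.subtype).to_le (Subgroup.zpowers_le.2 ?_))
          exact mem_map_of_mem M.subtype hm.1
        · rw [hYM, Subgroup.zpowers_le]; exact hm.2
      obtain ⟨w, hw, hwm⟩ := h1 (Subgroup.mem_zpowers _)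
      exact hPX (by rwa [← show w = m from Subtype.ext hwm])
    obtain ⟨V, hV⟩ := exists_sylow_le_supplement hXtop hXC
    obtain ⟨g, hg⟩ := MulAction.exists_smul_eq ↥M V (T.subtype hTM)
    set X₂ := (X.map (MulAut.conj g).toMonoidHom).map M.subtype with hX₂
    have hX₂M : X₂ ≤ M := map_subtype_le _
    have hMX₂ : M ≤ X₂ := by
      refine hMmin ⟨hX₂M.trans hMK, fun t ht => ?_, ?_⟩ hX₂M
      · have h1 : (⟨t, hTM ht⟩ : ↥M) ∈ (T.subtype hTM : Subgroup ↥M) := ht
        rw [← hg] at h1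
        obtain ⟨v, hv, hvt⟩ := h1
        exact ⟨_, mem_map_of_mem _ (hV hv), congrArg Subtype.val hvt⟩
      · refine Covers.trans (K := M) ?_ hMcov le_rfl
        intro x hx
        obtain ⟨m, hm, c, hc, he⟩ := exists_eq_mul_of_sup_eq_top hXtop (g⁻¹ * ⟨x, hx⟩ * g)
        refine ⟨((g * m * g⁻¹ : ↥M) : G), ⟨_, ⟨m, hm, rfl⟩, rfl⟩, ?_⟩
        have h1 : g * c * g⁻¹ ∈ C' := (inferInstance : C'.Normal).conj_mem c hc g
        have h2 : (g * m * g⁻¹)⁻¹ * (⟨x, hx⟩ : ↥M) = g * c * g⁻¹ := by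
          have : (⟨x, hx⟩ : ↥M) = g * (m * c) * g⁻¹ := by rw [← he]; group
          rw [this]; group
        have h3 := congrArg Subtype.val h2
        simp only [Subgroup.coe_mul, Subgroup.coe_inv] at h3 ⊢
        rw [h3]
        exact h1.2
    rw [eq_top_iff]
    intro z _
    obtain ⟨m, rfl⟩ := QuotientGroup.mk'_surjective (Cfsg.pCore p ↥M) z
    obtain ⟨_, ⟨w, hw, rfl⟩, hwm⟩ := hMX₂ (show ((g * m * g⁻¹ : ↥M) : G) ∈ M from Subtype.prop _)
    have hwm' : g * w * g⁻¹ = g * m * g⁻¹ := Subtype.ext hwm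
    rw [mul_left_inj, mul_right_inj] at hwm'
    exact hwm' ▸ hw
  have hMfrak : Cfsg.IsInFrakM p M := by
    refine ⟨hMc, ?_, ?_, ?_, by rw [hYM]; exact hcl, by rw [hYM]; exact hfrat⟩
    · rw [hYM, hsup]; exact hKmax
    · intro X hX hMX
      rw [hYM, hsup]
      have hTX : (T : Subgroup G) ≤ X := hTM.trans hMX
      have h1 : Y ≤ Y[p, X] := hYM ▸ yOf_mono T hTM hMX (charP_inner hX.1)
      have hgood : Good X := by
        refine ⟨hX, hTX, ?_, hYK.trans h1⟩
        intro x hx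
        obtain ⟨m, hm, hmx⟩ := (hMcov.trans hKL (centralizer_le hYK)) x hx
        exact ⟨m, hMX hm, hmx⟩
      have h2 : Y[p, X] = Y := le_antisymm (hYmax ⟨X, hgood, rfl⟩ h1) h1
      have h3 : X ≤ K := hN ▸ h2 ▸ H60.le_normalizer_yOf X
      exact (hX.2 K hKmax.1 h3).symm
    · rw [hYM, hsup]
  -- the member under `M`
  set BL := (T : Subgroup G) ⊓ CL with hBL
  set Ls := M ⊓ (L ⊔ CL) ⊓ normalizer (BL : Set G) with hLs
  have hLN : L ⊔ CL ≤ normalizer (Y[p, L] : Set G) := H60.sup_centralizer_le_normalizer_yOf L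
  have hDC : L ⊔ CL ≤ normalizer (CL : Set G) := hLN.trans (H60.normalizer_le_normalizer_centralizer _)
  have hTLs : (T : Subgroup G) ≤ Ls := le_inf (le_inf hTM (hTL.trans le_sup_left))
    (H60.le_normalizer_inf Subgroup.le_normalizer ((hTL.trans le_sup_left).trans hDC))
  have hcov : Covers Ls L CL := by
    intro x hx
    obtain ⟨m, hm, hmx⟩ := (hMcov.trans hKL (centralizer_le hYK)) x hx
    have hmD : m ∈ M ⊓ (L ⊔ CL) := by
      refine ⟨hm, ?_⟩
      rw [show m = x * (m⁻¹ * x)⁻¹ by group]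
      exact mul_mem (mem_sup_left hx) (mem_sup_right (inv_mem hmx))
    obtain ⟨n, hn, c, hc, rfl⟩ := exists_frattini T (le_inf hTM (hTL.trans le_sup_left))
      (inf_le_right.trans hDC) hmD
    refine ⟨n, ⟨hn.1, hn.2⟩, ?_⟩
    rw [show n⁻¹ * x = c * ((n * c)⁻¹ * x) by group]
    exact mul_mem hc.2 hmx
  have hYLT : Y[p, L] ≤ (T : Subgroup G) :=
    (H60.yOf_le_pCoreOf L).trans (H59.pCoreOf_le_sylow T hTL)
  have hsupL : L ⊔ CL = Ls ⊔ CL := by
    refine le_antisymm (sup_le (fun x hx => ?_) le_sup_right)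
      (sup_le (inf_le_left.trans inf_le_right) le_sup_right)
    obtain ⟨m, hm, hmx⟩ := hcov x hx
    simpa using mul_mem (mem_sup_left (T := CL) hm) (mem_sup_right (S := Ls) hmx)
  have hLsN : Ls ≤ normalizer (Y[p, L] : Set G) := (inf_le_left.trans inf_le_right).trans hLN
  have hLsc : Ls ∈ Cfsg.charPSubgroups p G := by
    refine hpar Ls hTLs fun hb => yOf_ne_bot T hTL hL (le_bot_iff.1 ?_)
    exact (H60.le_pCoreOf (hYLT.trans hTLs) hLsN
      (H60.isPGroup_of_isElementaryAbelian (H60.isElementaryAbelian_yOf L))).trans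
      ((H60.pCoreOf_eq_bot_iff Ls).2 hb).le
  have h4 : Y[p, L] ≤ Y[p, Ls] := H59.yOf_le_yOf_of_sup_eq (hYLT.trans hTLs) hsupL.symm
  have h5 : BL ≤ Cfsg.pCoreOf p Ls :=
    H60.le_pCoreOf (inf_le_left.trans hTLs) inf_le_right T.isPGroup'.to_inf_left
  have h6 : Y[p, Ls] ≤ Y[p, L] := le_yOf_of_centralized T hTL hL (H60.isElementaryAbelian_yOf Ls)
    (((H60.yOf_le_pCoreOf Ls).trans (H59.pCoreOf_le_sylow T hTLs)).trans hTL) h4
    (h5.trans (H60.pCoreOf_le_centralizer_yOf Ls))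
  exact ⟨M, Ls, hTM, hMfrak, hTLs, inf_le_left.trans inf_le_left, hLsc, le_antisymm h4 h6,
    hYM.symm ▸ hYK, hsupL⟩

end Cfsg.Agent.H72.FrakMExists
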