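import Cfsg.Agent.H92.ExtraIso
import Cfsg.Agent.PGroups.Basic

/-!
The extraspecial group of order `p^(1+2n)` and exponent `p`, inside `GL_{n+2}(p)`.
-/

set_option autoImplicit false

namespace Cfsg.Agent.H72

open Matrix
open scoped commutatorElement

variable (n : ℕ) (F : Type*) [Field F]

/-- The Heisenberg group of degree `n` over `F`. -/
@[ext] structure Heis where
  a : Fin n → F
  b : Fin n → F
  c : F

namespace Heis

variable {n F}

instance : Mul (Heis n F) := ⟨fun x y => ⟨x.a + y.a, x.b + y.b, x.c + y.c + x.a ⬝ᵥ y.b⟩⟩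
instance : One (Heis n F) := ⟨⟨0, 0, 0⟩⟩
instance : Inv (Heis n F) := ⟨fun x => ⟨-x.a, -x.b, -x.c + x.a ⬝ᵥ x.b⟩⟩

@[simp] theorem mul_a (x y : Heis n F) : (x * y).a = x.a + y.a := rfl
@[simp] theorem mul_b (x y : Heis n F) : (x * y).b = x.b + y.b := rfl
@[simp] theorem mul_c (x y : Heis n F) : (x * y).c = x.c + y.c + x.a ⬝ᵥ y.b := rfl
@[simp] theorem one_a : (1 : Heis n F).a = 0 := rfl
@[simp] theorem one_b : (1 : Heis n F).b = 0 := rfl
@[simp] theorem one_c : (1 : Heis n F).c = 0 := rfl
@[simp] theorem inv_a (x : Heis n F) : (x⁻¹).a = -x.a := rfl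
@[simp] theorem inv_b (x : Heis n F) : (x⁻¹).b = -x.b := rfl
@[simp] theorem inv_c (x : Heis n F) : (x⁻¹).c = -x.c + x.a ⬝ᵥ x.b := rfl

instance : Group (Heis n F) where
  mul_assoc x y z := by
    ext <;> simp [add_assoc, add_dotProduct, dotProduct_add] <;> ring
  one_mul x := by ext <;> simp
  mul_one x := by ext <;> simp
  inv_mul_cancel x := by ext <;> simp [neg_dotProduct]

def prodEquiv : Heis n F ≃ (Fin n → F) × (Fin n → F) × F where
  toFun x := (x.a, x.b, x.c)
  invFun t := ⟨t.1, t.2.1, t.2.2⟩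
  left_inv _ := rfl
  right_inv _ := rfl

instance [Finite F] : Finite (Heis n F) := Finite.of_equiv _ prodEquiv.symm

theorem card_eq {p : ℕ} [Fact p.Prime] : Nat.card (Heis n (ZMod p)) = p ^ (1 + 2 * n) := by
  rw [Nat.card_congr prodEquiv, Nat.card_prod, Nat.card_prod, Nat.card_fun, Nat.card_zmod, Nat.card_eq_fintype_card,
    Fintype.card_fin]
  ring

theorem pow_eq (x : Heis n F) (k : ℕ) :
    x ^ k = ⟨(k : F) • x.a, (k : F) • x.b, (k : F) * x.c + ((k.choose 2 : ℕ) : F) * (x.a ⬝ᵥ x.b)⟩ := by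
  induction k with
  | zero => ext <;> simp
  | succ k ih =>
    rw [pow_succ, ih]
    ext
    · simp [add_mul]
    · simp [add_mul]
    · simp [smul_dotProduct, Nat.choose_succ_succ', Nat.choose_one_right]; ring

theorem mem_center_iff {x : Heis n F} : x ∈ Subgroup.center (Heis n F) ↔ x.a = 0 ∧ x.b = 0 := by
  rw [Subgroup.mem_center_iff]
  constructor
  · intro h
    constructor
    · funext i
      have := congrArg Heis.c (h ⟨0, Pi.single i 1, 0⟩)
      simpa using this.symm
    · funext i
      have := congrArg Heis.c (h ⟨Pi.single i 1, 0, 0⟩)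
      simpa [add_comm] using this
  · rintro ⟨ha, hb⟩ y
    ext <;> simp [ha, hb, add_comm]

theorem pow_p {p : ℕ} [hp : Fact p.Prime] (h2 : p ≠ 2) (x : Heis n (ZMod p)) : x ^ p = 1 := by
  have h : ((p.choose 2 : ℕ) : ZMod p) = 0 :=
    (ZMod.natCast_eq_zero_iff _ _).2 (hp.out.dvd_choose_self (by norm_num)
      (lt_of_le_of_ne hp.out.two_le (Ne.symm h2)))
  rw [pow_eq]
  ext <;> simp [h]

theorem isExtraspecial {p : ℕ} [hp : Fact p.Prime] (h2 : p ≠ 2) (hn : 1 ≤ n) :
    Cfsg.IsExtraspecial p (Heis n (ZMod p)) := by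
  have hP : IsPGroup p (Heis n (ZMod p)) := IsPGroup.of_card card_eq
  have hcomm : commutator (Heis n (ZMod p)) = Subgroup.center _ := by
    apply le_antisymm
    · rw [commutator_def, Subgroup.commutator_le]
      intro x _ y _
      rw [mem_center_iff]
      constructor <;> simp [commutatorElement_def]
    · intro z hz
      obtain ⟨ha, hb⟩ := mem_center_iff.1 hz
      let i : Fin n := ⟨0, hn⟩
      have h : z = ⁅(⟨Pi.single i z.c, 0, 0⟩ : Heis n (ZMod p)), ⟨0, Pi.single i 1, 0⟩⁆ := by
        ext <;> simp [commutatorElement_def, ha, hb]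
      rw [h]
      exact Subgroup.commutator_mem_commutator (Subgroup.mem_top _) (Subgroup.mem_top _)
  refine ⟨⟨hP, ?_, hcomm⟩, ?_⟩
  · refine le_antisymm ?_ (hcomm ▸ PGroups.commutator_le_frattini hP)
    exact PGroups.frattini_le_of_commutator_le (p := p) _ hcomm.le
      fun x => by rw [pow_p h2]; exact Subgroup.one_mem _
  · let e : ↥(Subgroup.center (Heis n (ZMod p))) ≃ ZMod p :=
      { toFun := fun z => z.1.c
        invFun := fun c => ⟨⟨0, 0, c⟩, mem_center_iff.2 ⟨rfl, rfl⟩⟩
        left_inv := fun z => Subtype.ext (by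
          obtain ⟨ha, hb⟩ := mem_center_iff.1 z.2
          ext <;> simp [ha, hb])
        right_inv := fun _ => rfl }
    rw [Nat.card_congr e, Nat.card_zmod]

/-- The unipotent action on `F × F^n × F`. -/
def toEnd : Heis n F →* Module.End F (F × (Fin n → F) × F) where
  toFun x :=
    { toFun := fun v => (v.1 + x.a ⬝ᵥ v.2.1 + x.c * v.2.2, v.2.1 + v.2.2 • x.b, v.2.2)
      map_add' := fun v w => by simp [dotProduct_add, add_smul]; refine ⟨by ring, by abel⟩
      map_smul' := fun r v => by simp [dotProduct_smul, smul_add, smul_smul]; ring }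
  map_one' := by apply LinearMap.ext; intro v; simp
  map_mul' x y := by
    apply LinearMap.ext
    intro v
    simp [add_dotProduct, dotProduct_add, dotProduct_smul, smul_add]
    refine ⟨by ring, by abel⟩

theorem toEnd_injective : Function.Injective (toEnd (n := n) (F := F)) := by
  intro x y h
  have hv := fun v => LinearMap.congr_fun h v
  have h1 := hv (0, 0, 1)
  simp [toEnd] at h1
  ext i
  · have := hv (0, Pi.single i 1, 0)
    simpa [toEnd] using this
  · exact congrFun h1.2 i
  · exact h1.1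

variable (n F) in
/-- The Heisenberg group as matrices. -/
noncomputable def toGL : Heis n F →* Matrix.GeneralLinearGroup (Fin (n + 2)) F :=
  ((Matrix.GeneralLinearGroup.toLin.trans (LinearMap.GeneralLinearGroup.congrLinearEquiv
      (LinearEquiv.ofFinrankEq (R := F) (Fin (n + 2) → F) (F × (Fin n → F) × F)
        (by simp; omega)))).symm.toMonoidHom).comp (toEnd (n := n) (F := F)).toHomUnits

theorem toGL_injective : Function.Injective (toGL n F) := by
  intro x y h
  refine toEnd_injective ?_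
  simp only [toGL, MonoidHom.comp_apply, MulEquiv.coe_toMonoidHom] at h
  have := (MulEquiv.injective _) h
  exact congrArg Units.val this

end Heis

theorem exists_extraspecial_GL (p : ℕ) [Fact p.Prime] (hp : p ≠ 2) (n : ℕ) (hn : 1 ≤ n) :
    ∃ E : Subgroup (Matrix.GeneralLinearGroup (Fin (n + 2)) (ZMod p)), Cfsg.IsExtraspecial p ↥E ∧
      Nat.card E = p ^ (1 + 2 * n) ∧ ∀ x ∈ E, x ^ p = 1 := by
  let e := MonoidHom.ofInjective (Heis.toGL_injective (n := n) (F := ZMod p))
  refine ⟨_, H92.isExtraspecial_of_mulEquiv e (Heis.isExtraspecial hp hn), ?_, ?_⟩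
  · rw [← Nat.card_congr e.toEquiv, Heis.card_eq]
  · rintro _ ⟨x, rfl⟩
    rw [← map_pow, Heis.pow_p hp, map_one]

end Cfsg.Agent.H72
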