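import Mathlib.GroupTheory.Sylow
import Mathlib.GroupTheory.PGroup
import Mathlib.GroupTheory.Nilpotent
import Cfsg.Agent.H41.Basic

/-! Maximal subgroups containing a Sylow subgroup of an almost simple group. -/

set_option autoImplicit false

namespace Cfsg.Agent.H72

open Subgroup

variable {G : Type*} [Group G] [Finite G] {r : ℕ} [Fact r.Prime]

theorem normalizer_inf_ne_top (T : Subgroup G) [T.Normal] (hT : IsSimpleGroup T)
    (hna : ¬ IsMulCommutative T) (R : Sylow r G) (hR0 : (R : Subgroup G) ⊓ T ≠ ⊥) :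
    normalizer (((R : Subgroup G) ⊓ T : Subgroup G) : Set G) ≠ ⊤ := by
  intro h
  have hn : ((R : Subgroup G) ⊓ T).Normal := normalizer_eq_top_iff.1 h
  have hsub : (((R : Subgroup G) ⊓ T).subgroupOf T).Normal := hn.subgroupOf T
  rcases hsub.eq_bot_or_eq_top with h1 | h1
  · rw [subgroupOf_eq_bot, disjoint_iff, inf_assoc, inf_idem] at h1
    exact hR0 h1
  · rw [subgroupOf_eq_top] at h1
    have hp : IsPGroup r T := R.isPGroup'.to_le (le_trans h1 inf_le_left)
    have := hT.toNontrivial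
    have hz : Nontrivial (center T) := hp.center_nontrivial
    rcases (inferInstance : (center T).Normal).eq_bot_or_eq_top with h2 | h2
    · exact (Subgroup.nontrivial_iff_ne_bot _).1 hz h2
    · exact hna ⟨⟨fun a b => (mem_center_iff.1 (h2 ▸ mem_top b) a)⟩⟩

theorem normalizer_sylow_le_normalizer_inf (T : Subgroup G) [T.Normal] (R : Sylow r G) :
    normalizer ((R : Subgroup G) : Set G) ≤ normalizer (((R : Subgroup G) ⊓ T : Subgroup G) : Set G) := by
  intro g hg
  rw [mem_normalizer_iff] at hg ⊢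
  intro x
  simp only [mem_inf]
  exact and_congr (hg x) ⟨fun h => Normal.conj_mem ‹_› x h g,
    fun h => by simpa [mul_assoc] using Normal.conj_mem ‹_› _ h g⁻¹⟩

/-- Two subgroups containing the same Sylow subgroup are equal if they are conjugate and one of
them contains its normalizer. -/
theorem eq_of_conj_of_normalizer_le (R : Sylow r G) (M : Subgroup G)
    (hM : normalizer ((R : Subgroup G) : Set G) ≤ M) (g : G)
    (hg : (R : Subgroup G) ≤ M.map (MulAut.conj g).toMonoidHom) :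
    M.map (MulAut.conj g).toMonoidHom = M := by
  have hRM : (R : Subgroup G) ≤ M := le_trans le_normalizer hM
  have hR' : ((g⁻¹ • R : Sylow r G) : Subgroup G) ≤ M := by
    intro x hx
    rw [Sylow.coe_subgroup_smul, Subgroup.mem_pointwise_smul_iff_inv_smul_mem] at hx
    obtain ⟨m, hm, hme⟩ := hg hx
    have hxm : x = m := by
      have : g * x * g⁻¹ = g * m * g⁻¹ := by simpa [mul_assoc] using hme.symm
      simpa using this
    rw [hxm]; exact hm
  obtain ⟨m, hm⟩ := MulAction.exists_smul_eq M ((R : Sylow r G).subtype hRM) ((g⁻¹ • R).subtype hR')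
  rw [Sylow.smul_subtype] at hm
  have h1 := Sylow.subtype_injective hm
  have h2 : (g * (m : G)) • R = R := by
    have h3 : g • ((m : G) • R) = g • (g⁻¹ • R) := congrArg (g • ·) h1
    rwa [← mul_smul, smul_inv_smul] at h3
  have h3 : g * (m : G) ∈ M := hM (Sylow.smul_eq_iff_mem_normalizer.1 h2)
  have hgM : g ∈ M := by simpa using M.mul_mem h3 (M.inv_mem m.2)
  ext x
  constructor
  · rintro ⟨y, hy, rfl⟩
    exact M.mul_mem (M.mul_mem hgM hy) (M.inv_mem hgM)
  · intro hx
    exact ⟨g⁻¹ * x * g, M.mul_mem (M.mul_mem (M.inv_mem hgM) hx) hgM, by simp [mul_assoc]⟩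

theorem exists_conj_le_of_not_dvd_index (R : Sylow r G) (M : Subgroup G) (h : ¬ r ∣ M.index) :
    ∃ g : G, (R : Subgroup G) ≤ M.map (MulAut.conj g).toMonoidHom := by
  obtain ⟨P⟩ : Nonempty (Sylow r M) := inferInstance
  have hp : IsPGroup r ((P : Subgroup M).map M.subtype) := P.isPGroup'.map _
  have hi : ¬ r ∣ ((P : Subgroup M).map M.subtype).index := by
    rw [Subgroup.index_map_subtype]
    exact (Fact.out : r.Prime).not_dvd_mul P.not_dvd_index h
  obtain ⟨g, hg⟩ := MulAction.exists_smul_eq G (hp.toSylow hi) R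
  refine ⟨g, ?_⟩
  rw [← hg]
  intro x hx
  rw [Sylow.coe_subgroup_smul, Subgroup.mem_pointwise_smul_iff_inv_smul_mem] at hx
  exact ⟨g⁻¹ * x * g, map_subtype_le _ (by simpa [mul_assoc] using hx), by simp [mul_assoc]⟩

theorem isPGroup_quotient_of_unique (T : Subgroup G) [T.Normal] (hT : IsSimpleGroup T)
    (hna : ¬ IsMulCommutative T) (R : Sylow r G) (hR0 : (R : Subgroup G) ⊓ T ≠ ⊥)
    (huniq : ∃! M : Subgroup G, IsCoatom M ∧ (R : Subgroup G) ≤ M) : IsPGroup r (G ⧸ T) := by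
  have hsup : (R : Subgroup G) ⊔ T = ⊤ := by
    by_contra hne
    obtain ⟨M, hM, huM⟩ := huniq
    obtain ⟨M', hM', hle⟩ := (eq_top_or_exists_le_coatom ((R : Subgroup G) ⊔ T)).resolve_left hne
    have hTM : T ≤ M := huM M' ⟨hM', le_trans le_sup_left hle⟩ ▸ le_trans le_sup_right hle
    set N := normalizer (((R : Subgroup G) ⊓ T : Subgroup G) : Set G)
    obtain ⟨M'', hM'', hle''⟩ :=
      (eq_top_or_exists_le_coatom N).resolve_left (normalizer_inf_ne_top T hT hna R hR0)
    have hNM : N ≤ M := huM M'' ⟨hM'', le_trans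
      (le_trans le_normalizer (normalizer_sylow_le_normalizer_inf T R)) hle''⟩ ▸ hle''
    obtain ⟨P, hP⟩ := Cfsg.Agent.H41.exists_sylow_map_eq_inf R T
    have htop := Sylow.normalizer_sup_eq_top P
    rw [hP] at htop
    exact hM.1.1 (top_le_iff.1 (htop ▸ sup_le hNM hTM))
  intro x
  induction x using QuotientGroup.induction_on with
  | H g =>
    have hg : g ∈ (R : Subgroup G) ⊔ T := hsup ▸ mem_top g
    rw [mem_sup_of_normal_right] at hg
    obtain ⟨a, ha, t, ht, rfl⟩ := hg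
    obtain ⟨k, hk⟩ := R.isPGroup' ⟨a, ha⟩
    refine ⟨k, ?_⟩
    rw [QuotientGroup.mk_mul_of_mem a ht, ← QuotientGroup.mk_pow,
      show a ^ r ^ k = 1 from congrArg Subtype.val hk, QuotientGroup.mk_one]

theorem existsUnique_iff_conj (T : Subgroup G) [T.Normal] (hT : IsSimpleGroup T)
    (hna : ¬ IsMulCommutative T) (R : Sylow r G) (hR0 : (R : Subgroup G) ⊓ T ≠ ⊥) :
    (∃! M : Subgroup G, IsCoatom M ∧ (R : Subgroup G) ≤ M) ↔
      ((∃ M : Subgroup G, IsCoatom M ∧ ¬ r ∣ M.index) ∧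
        ∀ M₁ M₂ : Subgroup G, IsCoatom M₁ → ¬ r ∣ M₁.index → IsCoatom M₂ → ¬ r ∣ M₂.index →
          ∃ g : G, M₂ = M₁.map (MulAut.conj g).toMonoidHom) := by
  have hindex : ∀ M : Subgroup G, (R : Subgroup G) ≤ M → ¬ r ∣ M.index := fun M hM h =>
    R.not_dvd_index (h.trans (index_dvd_of_le hM))
  constructor
  · rintro ⟨M, ⟨hM, hRM⟩, hu⟩
    refine ⟨⟨M, hM, hindex M hRM⟩, fun M₁ M₂ h1 h1' h2 h2' => ?_⟩
    have key : ∀ M₁ : Subgroup G, IsCoatom M₁ → ¬ r ∣ M₁.index →
        ∃ g, M₁.map (MulAut.conj g).toMonoidHom = M := by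
      intro M₁ h1 h1'
      obtain ⟨g, hg⟩ := exists_conj_le_of_not_dvd_index R M₁ h1'
      exact ⟨g, hu _ ⟨((MulAut.conj g).mapSubgroup.isCoatom_iff M₁).2 h1, hg⟩⟩
    obtain ⟨a, ha⟩ := key M₁ h1 h1'
    obtain ⟨b, hb⟩ := key M₂ h2 h2'
    refine ⟨b⁻¹ * a, ?_⟩
    have := congrArg (Subgroup.map (MulAut.conj b⁻¹).toMonoidHom) (ha.trans hb.symm)
    simp only [Subgroup.map_map] at this
    have e1 : (MulAut.conj b⁻¹).toMonoidHom.comp (MulAut.conj a).toMonoidHom =
        (MulAut.conj (b⁻¹ * a)).toMonoidHom := by ext; simp [mul_assoc]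
    have e2 : (MulAut.conj b⁻¹).toMonoidHom.comp (MulAut.conj b).toMonoidHom = MonoidHom.id G := by
      ext; simp [mul_assoc]
    rw [e1, e2, Subgroup.map_id] at this
    exact this.symm
  · rintro ⟨-, hconj⟩
    have hN : normalizer ((R : Subgroup G) : Set G) ≠ ⊤ := fun h =>
      normalizer_inf_ne_top T hT hna R hR0
        (top_le_iff.1 (h ▸ normalizer_sylow_le_normalizer_inf T R))
    obtain ⟨M, hM, hNM⟩ := (eq_top_or_exists_le_coatom _).resolve_left hN
    refine ⟨M, ⟨hM, le_trans le_normalizer hNM⟩, ?_⟩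
    rintro M' ⟨hM', hRM'⟩
    obtain ⟨g, rfl⟩ := hconj M M' hM (hindex M (le_trans le_normalizer hNM)) hM' (hindex M' hRM')
    exact eq_of_conj_of_normalizer_le R M hNM g hRM'

end Cfsg.Agent.H72
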