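import Mathlib.GroupTheory.Nilpotent
import Mathlib.GroupTheory.Sylow
import Mathlib.GroupTheory.Solvable
import Mathlib.GroupTheory.GroupAction.ConjAct
import Mathlib.Tactic

/-!
Reduction lemmas: a characteristic elementary abelian subgroup of a solvable group, and a
nilpotency criterion through the action on such a subgroup.
-/

set_option autoImplicit false

namespace Cfsg.Agent.H72

open Subgroup
open scoped commutatorElement

theorem exists_char_elementary {G : Type*} [Group G] [Finite G] [Nontrivial G]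
    (hG : Group.IsSolvable G) :
    ∃ (p : ℕ) (V : Subgroup G), p.Prime ∧ V ≠ ⊥ ∧ (∀ (e : MulAut G), ∀ x ∈ V, e x ∈ V) ∧
      (∀ x ∈ V, x ^ p = 1) ∧ ∀ x ∈ V, ∀ y ∈ V, x * y = y * x := by
  classical
  obtain ⟨m, hm⟩ := hG.solvable
  have hex : ∃ k, derivedSeries G k = ⊥ := ⟨m, hm⟩
  obtain ⟨k, hk⟩ : ∃ k, Nat.find hex = k + 1 := by
    refine Nat.exists_eq_succ_of_ne_zero (fun h0 => ?_)
    have := Nat.find_spec hex
    rw [h0, derivedSeries_zero] at this
    exact top_ne_bot this
  set L := derivedSeries G k with hLdef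
  have hLne : L ≠ ⊥ := Nat.find_min hex (by omega)
  have hLcomm : ∀ a ∈ L, ∀ b ∈ L, a * b = b * a := by
    intro a ha b hb
    have h := Nat.find_spec hex
    rw [hk, derivedSeries_succ] at h
    have hab : ⁅a, b⁆ ∈ (⊥ : Subgroup G) := h ▸ commutator_mem_commutator ha hb
    exact commutatorElement_eq_one_iff_mul_comm.1 (mem_bot.1 hab)
  have hLchar : ∀ (e : MulAut G) (x : G), x ∈ L → e x ∈ L := fun e x hx =>
    characteristic_iff_map_le.1 (derivedSeries_characteristic G k) e ⟨x, hx, rfl⟩
  obtain ⟨p, hp, hpd⟩ := Nat.exists_prime_and_dvd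
    (fun h => hLne (eq_bot_of_card_eq L h) : Nat.card L ≠ 1)
  let V : Subgroup G :=
    { carrier := {v | v ∈ L ∧ v ^ p = 1}
      one_mem' := ⟨one_mem L, one_pow p⟩
      mul_mem' := fun {a b} ha hb => ⟨mul_mem ha.1 hb.1, by
        rw [Commute.mul_pow (hLcomm a ha.1 b hb.1), ha.2, hb.2, one_mul]⟩
      inv_mem' := fun {a} ha => ⟨inv_mem ha.1, by rw [inv_pow, ha.2, inv_one]⟩ }
  refine ⟨p, V, hp, ?_, fun e x hx => ?_, fun x hx => hx.2, fun x hx y hy => hLcomm x hx.1 y hy.1⟩
  · have := Fact.mk hp
    obtain ⟨x, hx⟩ := exists_prime_orderOf_dvd_card' (G := L) p hpd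
    intro hbot
    have hmem : (x : G) ∈ V := ⟨x.2, by
      rw [← orderOf_coe] at hx; rw [← hx]; exact pow_orderOf_eq_one _⟩
    rw [hbot, mem_bot] at hmem
    rw [show x = 1 from Subtype.ext hmem, orderOf_one] at hx
    exact hp.ne_one hx.symm
  · exact ⟨hLchar e x hx.1, by rw [← map_pow, hx.2, map_one]⟩

open scoped IsMulCommutative in
/-- `K` is nilpotent when its image modulo `V` is nilpotent and it acts as a `p`-group on `V`. -/
theorem isNilpotent_of_action {G : Type*} [Group G] [Finite G] {p : ℕ} [hp : Fact p.Prime]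
    (V : Subgroup G) [V.Normal] (hexp : ∀ x ∈ V, x ^ p = 1) (K : Subgroup G)
    (hKb : Group.IsNilpotent (K.map (QuotientGroup.mk' V)))
    (hact : IsPGroup p (K.map (MulAut.conjNormal : G →* MulAut V))) : Group.IsNilpotent K := by
  refine (Group.isNilpotent_of_finite_tfae.out 3 0).mp ?_
  intro q hq Q
  let f := (QuotientGroup.mk' V).subgroupMap K
  have hf : Function.Surjective f := (QuotientGroup.mk' V).subgroupMap_surjective K
  have hker : ∀ x : K, x ∈ f.ker ↔ (x : G) ∈ V := by
    intro x
    rw [MonoidHom.mem_ker, Subtype.ext_iff]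
    exact QuotientGroup.eq_one_iff (x : G)
  have hQb : ((Q : Subgroup K).map f).Normal := by
    rw [← Sylow.coe_mapSurjective hf Q]
    have := hKb
    infer_instance
  have hQW : ((Q : Subgroup K) ⊔ f.ker).Normal := by
    rw [← comap_map_eq]
    exact hQb.comap f
  have hWp : IsPGroup p f.ker := by
    intro x
    refine ⟨1, Subtype.ext (Subtype.ext ?_)⟩
    simpa using hexp _ ((hker x).1 x.2)
  by_cases hqp : q = p
  · subst hqp
    have hsup : IsPGroup q ((Q : Subgroup K) ⊔ f.ker : Subgroup K) :=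
      Q.isPGroup'.to_sup_of_normal_right hWp
    rwa [Q.is_maximal' hsup le_sup_left] at hQW
  · have hcent : ∀ x ∈ (Q : Subgroup K), ∀ w ∈ f.ker, x * w = w * x := by
      intro x hx w hw
      have hxA : (MulAut.conjNormal : G →* MulAut V) (x : G) ∈
          K.map (MulAut.conjNormal : G →* MulAut V) := ⟨x, x.2, rfl⟩
      have h1 : (MulAut.conjNormal (x : G) : MulAut V) = 1 := by
        obtain ⟨i, hi⟩ := Q.isPGroup' ⟨x, hx⟩
        obtain ⟨j, hj⟩ := hact ⟨_, hxA⟩
        have hi' : (MulAut.conjNormal (x : G) : MulAut V) ^ q ^ i = 1 := by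
          rw [← map_pow]
          have : (x : G) ^ q ^ i = 1 := congrArg (fun z : (Q : Subgroup K) => ((z : K) : G)) hi
          rw [this, map_one]
        have hj' : (MulAut.conjNormal (x : G) : MulAut V) ^ p ^ j = 1 := congrArg Subtype.val hj
        have := pow_gcd_eq_one.2 ⟨hi', hj'⟩
        rwa [((Nat.coprime_primes hq.out hp.out).2 hqp).pow i j, pow_one] at this
      have h2 := congrArg (fun e : MulAut V => (e ⟨(w : G), (hker w).1 hw⟩ : G)) h1
      simp only [MulAut.conjNormal_apply, MulAut.one_apply] at h2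
      exact Subtype.ext (mul_inv_eq_iff_eq_mul.1 h2)
    have hle : (Q : Subgroup K) ⊔ f.ker ≤ normalizer ((Q : Subgroup K) : Set K) := by
      refine sup_le le_normalizer ?_
      intro w hw
      rw [mem_normalizer_iff]
      intro y
      constructor
      · intro hy
        rw [← hcent y hy w hw, mul_inv_cancel_right]
        exact hy
      · intro hy
        have h := hcent _ hy w hw
        have hyeq : y = w * y * w⁻¹ := by
          calc y = w⁻¹ * ((w * y * w⁻¹) * w) := by group
            _ = w⁻¹ * (w * (w * y * w⁻¹)) := by rw [h]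
            _ = w * y * w⁻¹ := by group
        rwa [hyeq]
    have htop := Sylow.normalizer_sup_eq_top' (N := (Q : Subgroup K) ⊔ f.ker) Q le_sup_left
    rw [show (↑(↑Q : Subgroup K) : Set K) = ((Q : Set K)) from rfl] at hle
    rw [sup_of_le_left hle] at htop
    exact normalizer_eq_top_iff.1 htop

end Cfsg.Agent.H72
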