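import Cfsg.Agent.Coprime.Action
import Cfsg.Agent.Cores.Basic
import Cfsg.Agent.Cores.PSolvable

/-!
Groups whose `π`-elements form a subgroup.
-/

set_option autoImplicit false
set_option linter.style.haveILetI false

namespace Cfsg.Agent.H72.PiClosed

open Subgroup
open Cfsg.Agent.Cores (IsPiNumber)

variable {G : Type*} [Group G] [Finite G] {π : Set ℕ}

/-- The normalizer of a nontrivial `π'`-subgroup acts on it as a `π'`-group. -/
def Homogeneous (π : Set ℕ) (G : Type*) [Group G] : Prop :=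
  ∀ H : Subgroup G, H ≠ ⊥ → (∀ p : ℕ, p.Prime → p ∣ Nat.card ↥H → p ∉ π) →
    ∀ p : ℕ, p.Prime → p ∣ (centralizer (H : Set G)).relIndex (normalizer (H : Set G)) → p ∉ π

theorem mem_centralizer_of_homogeneous (hhom : Homogeneous π G) {H : Subgroup G} (hH : H ≠ ⊥)
    (hH' : IsPiNumber πᶜ (Nat.card H)) {g : G} (hg : g ∈ normalizer (H : Set G))
    (hgπ : IsPiNumber π (orderOf g)) : g ∈ centralizer (H : Set G) := by
  set N := normalizer (H : Set G)
  let f : ↥N →* MulAut H := H.normalizerMonoidHom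
  have hker : f.ker = (centralizer (H : Set G)).subgroupOf N := Subgroup.normalizerMonoidHom_ker H
  have h1 : orderOf (f ⟨g, hg⟩) = 1 := by
    by_contra hne
    obtain ⟨p, hp, hpd⟩ := Nat.exists_prime_and_dvd hne
    have hpπ : p ∈ π := hgπ p hp (hpd.trans ((orderOf_map_dvd f _).trans (dvd_of_eq (Subgroup.orderOf_mk g hg))))
    refine hhom H hH hH' p hp ?_ hpπ
    rw [Subgroup.relIndex, ← hker, Subgroup.index_ker]
    exact hpd.trans (f.range.orderOf_dvd_natCard ⟨⟨g, hg⟩, rfl⟩)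
  rw [orderOf_eq_one_iff] at h1
  have : (⟨g, hg⟩ : N) ∈ f.ker := h1
  rwa [hker] at this

theorem exists_pi_lift (N : Subgroup G) [N.Normal] {g : G ⧸ N} {q : ℕ} (hq : q.Prime) (hg : orderOf g = q) :
    ∃ x : G, (∃ k : ℕ, orderOf x = q ^ k) ∧ x ∉ N := by
  haveI := Fact.mk hq
  obtain ⟨y, rfl⟩ := QuotientGroup.mk'_surjective N g
  obtain ⟨a, m, hm, hy⟩ := Nat.exists_eq_pow_mul_and_not_dvd (orderOf_pos y).ne' q hq.ne_one
  have hm0 : m ≠ 0 := by rintro rfl; exact hm (dvd_zero q)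
  refine ⟨y ^ m, ⟨a, ?_⟩, fun hmem => ?_⟩
  · rw [orderOf_pow' _ hm0, hy,
      Nat.gcd_eq_right (dvd_mul_left m (q ^ a)), Nat.mul_div_cancel _ (Nat.pos_of_ne_zero hm0)]
  · apply hm
    rw [← hg]
    refine orderOf_dvd_of_pow_eq_one ?_
    rw [← map_pow]
    exact (QuotientGroup.eq_one_iff _).2 hmem

/-- π-elements act trivially on `K/L`. -/
theorem mk_mem_centralizer (hhom : Homogeneous π G) (K L : Subgroup G) [K.Normal] [L.Normal]
    (hL : IsPiNumber π (Nat.card L)) (hKL : IsPiNumber πᶜ (Nat.card ↥(K.map (QuotientGroup.mk' L))))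
    {x : G} (hx : IsPiNumber π (orderOf x)) :
    QuotientGroup.mk' L x ∈ centralizer ((K.map (QuotientGroup.mk' L) : Subgroup (G ⧸ L)) : Set (G ⧸ L)) := by
  set q0 := QuotientGroup.mk' L with hq0
  set K' := K.map q0 with hK'
  haveI : K'.Normal := (inferInstance : K.Normal).map _ (QuotientGroup.mk'_surjective L)
  suffices hle : K' ≤ centralizer ({q0 x} : Set (G ⧸ L)) by
    rw [Subgroup.mem_centralizer_iff]
    exact fun k hk => Subgroup.mem_centralizer_singleton_iff.1 (hle hk)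
  have hxord : IsPiNumber π (orderOf (q0 x)) := hx.of_dvd (orderOf_map_dvd q0 x)
  rw [← subgroupOf_eq_top]
  set C := (centralizer ({q0 x} : Set (G ⧸ L))).subgroupOf K'
  suffices hdvd : Nat.card K' ∣ Nat.card C from
    eq_top_of_card_eq _ (Nat.dvd_antisymm (card_subgroup_dvd_card _) hdvd)
  rw [← Nat.factorization_prime_le_iff_dvd Nat.card_pos.ne' Nat.card_pos.ne']
  intro p hp
  haveI := Fact.mk hp
  by_cases hpd : p ∣ Nat.card K'
  swap
  · rw [Nat.factorization_eq_zero_of_not_dvd hpd]; exact Nat.zero_le _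
  have hpπ : p ∈ πᶜ := hKL p hp hpd
  have hA : zpowers (q0 x) ≤ normalizer (K' : Set (G ⧸ L)) := by
    rw [Subgroup.normalizer_eq_top_iff.2 inferInstance]; exact le_top
  have hcop : (Nat.card (zpowers (q0 x))).Coprime (Nat.card K') := by
    rw [Nat.card_zpowers]
    exact Nat.coprime_of_dvd fun r hr h1 h2 => hKL r hr h2 (hxord r hr h1)
  obtain ⟨P, hP⟩ := Coprime.exists_invariant_sylow hA hcop (Or.inl (Coprime.isSolvable_zpowers _)) p
  set P' := (P : Subgroup K').map K'.subtype with hP'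
  suffices hPC : (P : Subgroup K') ≤ C by
    rw [← hp.pow_dvd_iff_le_factorization Nat.card_pos.ne', ← P.card_eq_multiplicity]
    exact card_dvd_of_le hPC
  -- lift the invariant Sylow subgroup
  set W := P'.comap q0 with hW
  have hLW : L ≤ W := fun l hl => by
    show q0 l ∈ P'
    rw [hq0, QuotientGroup.mk'_apply, (QuotientGroup.eq_one_iff l).2 hl]; exact one_mem _
  have hP'p : IsPGroup p P' := P.2.map _
  let f : W →* P' := q0.subgroupComap P'
  have hf : Function.Surjective f := fun z => by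
    obtain ⟨w, hw⟩ := QuotientGroup.mk'_surjective L (z : G ⧸ L)
    exact ⟨⟨w, show q0 w ∈ P' by rw [hq0, hw]; exact z.2⟩, Subtype.ext hw⟩
  obtain ⟨Q⟩ : Nonempty (Sylow p W) := inferInstance
  have htop : (Q.mapSurjective hf : Subgroup P') = ⊤ :=
    ((Q.mapSurjective hf).is_maximal' (hP'p.to_subgroup ⊤) le_top).symm
  set Q' := (Q : Subgroup W).map W.subtype with hQ'
  have hQimg : ∀ z ∈ P', ∃ y ∈ Q', q0 y = z := fun z hz => by
    have : (⟨z, hz⟩ : P') ∈ (Q.mapSurjective hf : Subgroup P') := by rw [htop]; trivial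
    obtain ⟨w, hw, hwz⟩ := this
    exact ⟨w, ⟨w, hw, rfl⟩, congrArg Subtype.val hwz⟩
  -- adjust `x` into the normalizer of the lift
  have hxW : ∀ w, w ∈ W ↔ x * w * x⁻¹ ∈ W := fun w => by
    show q0 w ∈ P' ↔ q0 (x * w * x⁻¹) ∈ P'
    rw [map_mul, map_mul, map_inv]
    exact Subgroup.mem_normalizer_iff.1 (hP (mem_zpowers (q0 x))) _
  let φ : W ≃* W :=
    { toFun := fun w => ⟨x * w * x⁻¹, (hxW w).1 w.2⟩
      invFun := fun w => ⟨x⁻¹ * w * x, (hxW _).2 (by simpa [mul_assoc] using w.2)⟩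
      left_inv := fun w => Subtype.ext (by simp [mul_assoc])
      right_inv := fun w => Subtype.ext (by simp [mul_assoc])
      map_mul' := fun a b => Subtype.ext (by simp [mul_assoc]) }
  obtain ⟨w, hw⟩ := MulAction.exists_smul_eq W (Q.mapSurjective (f := φ.toMonoidHom) φ.surjective) Q
  obtain ⟨l, hl, y0, hy0, hly⟩ : ∃ l ∈ L, ∃ y0 ∈ Q', y0 * l = (w : G) := by
    obtain ⟨y0, hy0, hy⟩ := hQimg (q0 w) w.2
    refine ⟨y0⁻¹ * w, ?_, y0, hy0, by group⟩
    rw [hq0, QuotientGroup.mk'_eq_mk'] at hy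
    obtain ⟨z, hz, hz'⟩ := hy
    rw [← hz', inv_mul_cancel_left]; exact hz
  set y := l * x with hy
  have hyN : y ∈ normalizer (Q' : Set G) := by
    rw [Subgroup.mem_normalizer_iff_map_conj_eq]
    refine eq_of_le_of_card_ge ?_ (Subgroup.card_map_of_injective (MulAut.conj y).injective).ge
    rintro _ ⟨_, ⟨v, hv, rfl⟩, rfl⟩
    have h1 : φ v ∈ (Q.mapSurjective (f := φ.toMonoidHom) φ.surjective : Subgroup W) := by
      exact mem_map_of_mem φ.toMonoidHom hv
    have h2 : w * φ v * w⁻¹ ∈ (Q : Subgroup W) := by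
      rw [← hw]
      exact Subgroup.smul_mem_pointwise_smul _ (MulAut.conj w) _ h1
    have h3 : (w : G) * (x * v * x⁻¹) * (w : G)⁻¹ ∈ Q' := ⟨_, h2, rfl⟩
    have h4 := Q'.mul_mem (Q'.mul_mem (Q'.inv_mem hy0) h3) hy0
    show l * x * (v : G) * (l * x)⁻¹ ∈ Q'
    rw [← hly] at h4
    simpa [mul_assoc] using h4
  have hqy : q0 y = q0 x := by
    rw [hy, map_mul, show q0 l = 1 from (QuotientGroup.eq_one_iff l).2 hl, one_mul]
  have hyπ : IsPiNumber π (orderOf y) := by
    intro r hr hrd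
    have h1 : orderOf y ∣ orderOf (q0 y) * Nat.card L := by
      refine orderOf_dvd_of_pow_eq_one ?_
      have hmem : y ^ orderOf (q0 y) ∈ L := by
        rw [← QuotientGroup.eq_one_iff]
        show q0 (y ^ orderOf (q0 y)) = 1
        rw [map_pow, pow_orderOf_eq_one]
      rw [pow_mul]
      exact congrArg Subtype.val (pow_card_eq_one' (x := (⟨_, hmem⟩ : L)))
    rcases hr.dvd_mul.1 (hrd.trans h1) with h | h
    · rw [hqy] at h; exact hxord r hr h
    · exact hL r hr h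
  have hQp : IsPGroup p Q' := Q.2.map _
  have hQne : Q' ≠ ⊥ := by
    intro e
    have hPne : (P : Subgroup K') ≠ ⊥ := P.ne_bot_of_dvd_card hpd
    refine hPne ((Subgroup.eq_bot_iff_forall _).2 fun z hz => ?_)
    obtain ⟨v, hv, hvz⟩ := hQimg (z : G ⧸ L) ⟨z, hz, rfl⟩
    rw [e, Subgroup.mem_bot] at hv
    exact Subtype.ext (by rw [← hvz, hv, map_one]; rfl)
  have hyC : y ∈ centralizer (Q' : Set G) := by
    refine mem_centralizer_of_homogeneous hhom hQne ?_ hyN hyπ
    obtain ⟨k, hk⟩ := hQp.exists_card_eq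
    intro r hr hrd
    rw [hk] at hrd
    rw [(Nat.prime_dvd_prime_iff_eq hr hp).1 (hr.dvd_of_dvd_pow hrd)]
    exact hpπ
  intro z hz
  show (z : G ⧸ L) ∈ centralizer ({q0 x} : Set (G ⧸ L))
  obtain ⟨v, hv, hvz⟩ := hQimg (z : G ⧸ L) ⟨z, hz, rfl⟩
  rw [Subgroup.mem_centralizer_singleton_iff, ← hvz, ← hqy, ← map_mul, ← map_mul,
    Subgroup.mem_centralizer_iff.1 hyC v hv]

theorem piClosed_of_extension (hhom : Homogeneous π G) (K : Subgroup G) [K.Normal]
    (hK : ∃ L : Subgroup ↥K, ∀ x : ↥K, x ∈ L ↔ IsPiNumber π (orderOf x))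
    (hQ : ∃ L : Subgroup (G ⧸ K), ∀ x : G ⧸ K, x ∈ L ↔ IsPiNumber π (orderOf x)) :
    ∃ R : Subgroup G, ∀ x : G, x ∈ R ↔ IsPiNumber π (orderOf x) := by
  obtain ⟨L0, hL0⟩ := hK
  obtain ⟨M, hM⟩ := hQ
  set L := L0.map K.subtype with hLdef
  have hLmem : ∀ x, x ∈ L ↔ x ∈ K ∧ IsPiNumber π (orderOf x) := by
    intro x
    constructor
    · rintro ⟨y, hy, rfl⟩
      exact ⟨y.2, by rw [show K.subtype y = (y : G) from rfl, Subgroup.orderOf_coe]; exact (hL0 y).1 hy⟩
    · rintro ⟨hxK, hxπ⟩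
      exact ⟨⟨x, hxK⟩, (hL0 _).2 (by rwa [Subgroup.orderOf_mk]), rfl⟩
  haveI : L.Normal := ⟨fun x hx g => by
    obtain ⟨h1, h2⟩ := (hLmem x).1 hx
    refine (hLmem _).2 ⟨(inferInstance : K.Normal).conj_mem x h1 g, ?_⟩
    rwa [show orderOf (g * x * g⁻¹) = orderOf x from (MulAut.conj g).orderOf_eq x]⟩
  have hpow : ∀ (H : Type _) [Group H] [Finite H] (S : Subgroup H),
      (∀ x ∈ S, IsPiNumber π (orderOf x)) → IsPiNumber π (Nat.card S) := by
    intro H _ _ S hS p hp hpd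
    haveI := Fact.mk hp
    obtain ⟨z, hz⟩ := exists_prime_orderOf_dvd_card' (G := S) p hpd
    exact hS z z.2 p hp (by rw [Subgroup.orderOf_coe, hz])
  have hL : IsPiNumber π (Nat.card L) := hpow G L fun x hx => ((hLmem x).1 hx).2
  set q0 := QuotientGroup.mk' L with hq0
  set K' := K.map q0 with hK'
  have hKL : IsPiNumber πᶜ (Nat.card K') := by
    intro p hp hpd hpπ
    haveI := Fact.mk hp
    obtain ⟨z, hz⟩ := exists_prime_orderOf_dvd_card' (G := K') p hpd
    obtain ⟨k, hk, hkz⟩ := z.2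
    let N : Subgroup K := L.subgroupOf K
    have hz' : orderOf (QuotientGroup.mk' N ⟨k, hk⟩) = p := by
      rw [orderOf_eq_prime_iff]
      have hz1 := (orderOf_eq_prime_iff.1 hz)
      constructor
      · rw [← map_pow, QuotientGroup.mk'_apply, QuotientGroup.eq_one_iff]
        show k ^ p ∈ L
        rw [← QuotientGroup.eq_one_iff]
        show q0 (k ^ p) = 1
        rw [map_pow, hkz, ← Subgroup.coe_pow, hz1.1, Subgroup.coe_one]
      · intro h
        rw [QuotientGroup.mk'_apply, QuotientGroup.eq_one_iff] at h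
        refine hz1.2 (Subtype.ext ?_)
        rw [← hkz]
        exact (QuotientGroup.eq_one_iff k).2 h
    obtain ⟨y, ⟨a, ha⟩, hyN⟩ := exists_pi_lift N hp hz'
    refine hyN ((hLmem _).2 ⟨y.2, fun r hr hrd => ?_⟩)
    rw [show K.subtype y = (y : G) from rfl, Subgroup.orderOf_coe, ha] at hrd
    rwa [(Nat.prime_dvd_prime_iff_eq hr hp).1 (hr.dvd_of_dvd_pow hrd)]
  set H := centralizer (K' : Set (G ⧸ L)) ⊓ (M.comap (QuotientGroup.mk' K)).map q0 with hH
  set Z : Subgroup H := K'.subgroupOf H with hZ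
  have hK'n : K'.Normal := (inferInstance : K.Normal).map _ (QuotientGroup.mk'_surjective L)
  have hZπ : IsPiNumber πᶜ (Nat.card Z) := by
    refine hKL.of_dvd ?_
    rw [hZ, ← Subgroup.inf_subgroupOf_right,
      Nat.card_congr (Subgroup.subgroupOfEquivOfLe (inf_le_right : K' ⊓ H ≤ H)).toEquiv]
    exact Subgroup.card_dvd_of_le inf_le_left
  have hKle : K ≤ M.comap (QuotientGroup.mk' K) := fun k hk => by
    show QuotientGroup.mk' K k ∈ M
    rw [QuotientGroup.mk'_apply, (QuotientGroup.eq_one_iff k).2 hk]; exact one_mem _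
  have hMπ : IsPiNumber π (Nat.card M) := hpow _ M fun x hx => (hM x).1 hx
  have hidx : IsPiNumber π Z.index := by
    refine hMπ.of_dvd ?_
    show K'.relIndex H ∣ _
    have h1 : K'.relIndex ((M.comap (QuotientGroup.mk' K)).map q0) = Nat.card M := by
      rw [hK', ← Subgroup.relIndex_comap, Subgroup.comap_map_eq, QuotientGroup.ker_mk',
        sup_eq_left.2 (fun l hl => ((hLmem l).1 hl).1)]
      have h2 := Subgroup.relIndex_ker (K := M.comap (QuotientGroup.mk' K)) (QuotientGroup.mk' K)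
      rw [QuotientGroup.ker_mk', Subgroup.map_comap_eq_self_of_surjective (QuotientGroup.mk'_surjective K)] at h2
      exact h2
    rw [← h1]
    exact Cores.relIndex_dvd_relIndex_of_le_right K' inf_le_right
  haveI : Z.Normal := inferInstanceAs (K'.subgroupOf H).Normal
  obtain ⟨R, hR⟩ := Subgroup.exists_right_complement'_of_coprime
    (Nat.coprime_of_dvd fun r hr h1 h2 => hZπ r hr h1 (hidx r hr h2) : (Nat.card Z).Coprime Z.index)
  have hcen : ∀ z ∈ Z, ∀ h : H, h * z = z * h := fun z hz h =>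
    Subtype.ext (Subgroup.mem_centralizer_iff.1 h.2.1 _ hz).symm
  have hRn : R.Normal := ⟨fun r hr h => by
    obtain ⟨⟨z, r'⟩, rfl⟩ := hR.2 h
    have h1 : (z : H) * (r' : H) * r * ((z : H) * (r' : H))⁻¹ = (r' : H) * r * (r' : H)⁻¹ := by
      calc _ = ((z : H) * ((r' : H) * r * (r' : H)⁻¹)) * (z : H)⁻¹ := by group
        _ = ((r' : H) * r * (r' : H)⁻¹) * (z : H) * (z : H)⁻¹ := by rw [hcen z z.2]
        _ = _ := by group
    simp only at h1 ⊢
    rw [h1]
    exact R.mul_mem (R.mul_mem r'.2 hr) (R.inv_mem r'.2)⟩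
  have hRcard : IsPiNumber π (Nat.card R) := by rw [← hR.symm.index_eq_card]; exact hidx
  have hRidx : IsPiNumber πᶜ R.index := by rw [hR.index_eq_card]; exact hZπ
  have hmem : ∀ u : H, u ∈ R ↔ IsPiNumber π (orderOf u) := by
    intro u
    refine ⟨fun hu => hRcard.of_dvd (R.orderOf_dvd_natCard hu), fun hu => ?_⟩
    rw [← QuotientGroup.eq_one_iff, ← orderOf_eq_one_iff]
    refine Nat.eq_one_of_dvd_coprimes
      (Nat.coprime_of_dvd fun r hr h1 h2 => hRidx r hr h1 (hu r hr h2) : (R.index).Coprime (orderOf u))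
      ?_ (orderOf_map_dvd (QuotientGroup.mk' R) u)
    rw [Subgroup.index_eq_card]
    exact orderOf_dvd_natCard _
  refine ⟨(R.map H.subtype).comap q0, fun x => ⟨fun hx => ?_, fun hx => ?_⟩⟩
  · obtain ⟨u, hu, hux⟩ := hx
    intro r hr hrd
    have h1 : orderOf x ∣ orderOf (q0 x) * Nat.card L := by
      refine orderOf_dvd_of_pow_eq_one ?_
      have hxmem : x ^ orderOf (q0 x) ∈ L := by
        rw [← QuotientGroup.eq_one_iff]
        show q0 (x ^ orderOf (q0 x)) = 1
        rw [map_pow, pow_orderOf_eq_one]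
      rw [pow_mul]
      exact congrArg Subtype.val (pow_card_eq_one' (x := (⟨_, hxmem⟩ : L)))
    rcases hr.dvd_mul.1 (hrd.trans h1) with h | h
    · rw [← hux, show H.subtype u = (u : G ⧸ L) from rfl, Subgroup.orderOf_coe] at h
      exact (hmem u).1 hu r hr h
    · exact hL r hr h
  · have hxH : q0 x ∈ H :=
      ⟨mk_mem_centralizer hhom K L hL hKL hx, x,
        (hM _).2 (hx.of_dvd (orderOf_map_dvd (QuotientGroup.mk' K) x)), rfl⟩
    refine ⟨⟨q0 x, hxH⟩, (hmem _).2 ?_, rfl⟩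
    rw [Subgroup.orderOf_mk]
    exact hx.of_dvd (orderOf_map_dvd q0 x)

end Cfsg.Agent.H72.PiClosed
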