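import Cfsg.Agent.Frobenius.Nilpotent
import Cfsg.Agent.Frobenius.Sylow
import Cfsg.Agent.Cores.Basic
import Cfsg.Agent.Hall.MinimalNormal
import Mathlib.GroupTheory.SpecificGroups.ZGroup

/-!
Solvable groups with disconnected prime graph.
-/

set_option autoImplicit false

namespace Cfsg.Agent.H72.PrimeGraph

open Subgroup
open Cfsg.Agent.Cores (IsPiNumber)

/-- No element has order `a * b` with `a` inside and `b` outside `A`. -/
def IsSplit (A : Set ℕ) (G : Type*) [Group G] : Prop :=
  ∀ a b : ℕ, a.Prime → b.Prime → a ∈ A → b ∉ A → ∀ g : G, orderOf g ≠ a * b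

variable {A : Set ℕ} {G : Type*} [Group G]

theorem IsSplit.symm (h : IsSplit A G) : IsSplit Aᶜ G := fun a b ha hb haA hbA g hg =>
  h b a hb ha (by simpa using hbA) haA g (by rw [hg, mul_comm])

theorem IsSplit.quotient [Finite G] (h : IsSplit A G) (N : Subgroup G) [N.Normal] : IsSplit A (G ⧸ N) := by
  intro a b ha hb haA hbA q hq
  obtain ⟨g, rfl⟩ := QuotientGroup.mk'_surjective N q
  have hd : a * b ∣ orderOf g := hq ▸ orderOf_map_dvd _ g
  exact h a b ha hb haA hbA (g ^ (orderOf g / (a * b))) (orderOf_pow_orderOf_div (orderOf_pos g).ne' hd)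

theorem IsSplit.not_commute [Finite G] (h : IsSplit A G) {x y : G} (hc : Commute x y) (hx : x ≠ 1) (hy : y ≠ 1)
    (hxA : IsPiNumber A (orderOf x)) (hyA : IsPiNumber Aᶜ (orderOf y)) : False := by
  obtain ⟨a, ha, had⟩ := Nat.exists_prime_and_dvd (mt orderOf_eq_one_iff.1 hx)
  obtain ⟨b, hb, hbd⟩ := Nat.exists_prime_and_dvd (mt orderOf_eq_one_iff.1 hy)
  refine h a b ha hb (hxA a ha had) (hyA b hb hbd) (x ^ (orderOf x / a) * y ^ (orderOf y / b)) ?_
  have h1 := orderOf_pow_orderOf_div (orderOf_pos x).ne' had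
  have h2 := orderOf_pow_orderOf_div (orderOf_pos y).ne' hbd
  rw [((hc.pow_left _).pow_right _).orderOf_mul_eq_mul_orderOf_of_coprime, h1, h2]
  rw [h1, h2, Nat.coprime_primes ha hb]
  rintro rfl
  exact hyA a hb hbd (hxA a ha had)

theorem piCore_or [Finite G] [Group.IsSolvable G] [Nontrivial G] (A : Set ℕ) :
    Cfsg.piCore A G ≠ ⊥ ∨ Cfsg.piCore Aᶜ G ≠ ⊥ := by
  obtain ⟨M, p, hn, hM, hp, hMp, -, -⟩ := Hall.exists_minimal_normal_pgroup (G := G)
  haveI := Fact.mk hp
  obtain ⟨k, hk⟩ := hMp.exists_card_eq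
  have key : ∀ B : Set ℕ, p ∈ B → Cfsg.piCore B G ≠ ⊥ := fun B hB h => hM <| le_bot_iff.1 <| by
    refine le_trans (Cores.le_piCore (π := B) ?_) h.le
    intro q hq hqd
    rw [hk] at hqd
    rwa [(Nat.prime_dvd_prime_iff_eq hq hp).1 (hq.dvd_of_dvd_pow hqd)]
  by_cases hpA : p ∈ A
  exacts [Or.inl (key A hpA), Or.inr (key _ hpA)]

theorem coprime_of_piNumber {m n : ℕ} (hm : IsPiNumber A m) (hn : IsPiNumber Aᶜ n) : m.Coprime n :=
  Nat.coprime_of_dvd fun p hp h1 h2 => hn p hp h2 (hm p hp h1)

/-- A normal `A`-subgroup inside a larger one with complementary index gives a Frobenius group. -/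
theorem exists_complement [Finite G] (h : IsSplit A G) (H : Subgroup G) [H.Normal] (hH : H ≠ ⊥)
    (hHtop : H ≠ ⊤) (hHA : IsPiNumber A (Nat.card H)) (hq : IsPiNumber Aᶜ H.index) :
    ∃ C : Subgroup G, Cfsg.IsFrobeniusComplement C ∧ IsComplement' H C ∧
      Cfsg.frobeniusKernel C = (H : Set G) := by
  obtain ⟨C, hC⟩ := Subgroup.exists_right_complement'_of_coprime (coprime_of_piNumber hHA hq)
  have hCne : C ≠ ⊥ := fun e => hHtop (Subgroup.isComplement'_bot_right.1 (e ▸ hC))
  have hCF : Cfsg.IsFrobeniusComplement C := by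
    refine Frobenius.of_fixedPointFree hC hH hCne fun c hc hc1 k hk hck => ?_
    by_contra hk1
    refine h.not_commute (show Commute k c from hck.symm) hk1 hc1
      (Cores.IsPiNumber.of_dvd hHA (H.orderOf_dvd_natCard hk)) ?_
    refine Cores.IsPiNumber.of_dvd hq ?_
    rw [hC.symm.index_eq_card]
    exact C.orderOf_dvd_natCard hc
  exact ⟨C, hCF, hC, (Frobenius.coe_eq_kernel hCF hC).symm⟩

theorem isCyclic_of_frobenius [Finite G] {C : Subgroup G} (hC : Cfsg.IsFrobeniusComplement C)
    [Group.IsNilpotent C] (φ : MulAut C) (hφ : ∀ c, φ c = c → c = 1) : IsCyclic C := by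
  have hodd : ¬ 2 ∣ Nat.card C := by
    intro h2
    obtain ⟨z, hz⟩ := exists_prime_orderOf_dvd_card' (G := C) 2 h2
    obtain ⟨P⟩ : Nonempty (Sylow 2 C) := inferInstance
    haveI := Frobenius.sylow_normal_of_isNilpotent 2 P
    have hmem : ∀ y : C, orderOf y = 2 → y ∈ (P : Subgroup C) := by
      intro y hy
      obtain ⟨Q, hQ⟩ := (IsPGroup.of_card (n := 1) (G := zpowers y) (p := 2)
        (by rw [Nat.card_zpowers, hy, pow_one])).exists_le_sylow
      haveI := Sylow.unique_of_normal P ‹_›
      rw [Subsingleton.elim P Q]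
      exact hQ (mem_zpowers y)
    let j := (P : Subgroup C).map C.subtype
    have hu := Frobenius.unique_card_eq_prime hC (Subgroup.map_subtype_le (P : Subgroup C))
      (P.2.map C.subtype)
    have hz' : orderOf (φ z) = 2 := by rw [MulEquiv.orderOf_eq, hz]
    have heq := hu (zpowers ⟨(z : G), mem_map_of_mem _ (hmem z hz)⟩)
      (zpowers ⟨((φ z : C) : G), mem_map_of_mem _ (hmem _ hz')⟩)
      (by rw [Nat.card_zpowers]; exact (Subgroup.orderOf_mk _ _).trans ((Subgroup.orderOf_coe z).trans hz))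
      (by rw [Nat.card_zpowers]; exact (Subgroup.orderOf_mk _ _).trans ((Subgroup.orderOf_coe (φ z)).trans hz'))
    have hmem' := heq ▸ mem_zpowers (⟨((φ z : C) : G), mem_map_of_mem _ (hmem _ hz')⟩ :
      (P : Subgroup C).map C.subtype)
    obtain ⟨i, hi⟩ := Subgroup.mem_zpowers_iff.1 hmem'
    have hi' : z ^ i = φ z := by
      apply Subtype.ext
      have := congrArg Subtype.val hi
      simpa using this
    rw [← zpow_mod_orderOf, hz] at hi'
    have h1 : z = 1 := by
      rcases Int.emod_two_eq_zero_or_one i with e | e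
      · rw [show ((2 : ℕ) : ℤ) = 2 from rfl, e, zpow_zero] at hi'
        exact φ.injective (by rw [← hi', map_one])
      · rw [show ((2 : ℕ) : ℤ) = 2 from rfl, e, zpow_one] at hi'
        exact hφ z hi'.symm
    rw [h1, orderOf_one] at hz
    exact absurd hz (by norm_num)
  haveI : IsZGroup C := ⟨fun p hp P => by
    haveI := Fact.mk hp
    rcases Frobenius.sylow_cyclic_or_quaternion hC p P with h | ⟨rfl, -⟩
    · exact h
    · haveI : Subsingleton (P : Subgroup C) := by
        refine (Nat.card_eq_one_iff_unique.1 ?_).1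
        obtain ⟨k, hk⟩ := P.2.exists_card_eq
        rcases Nat.eq_zero_or_pos k with rfl | hk0
        · simpa using hk
        · exact absurd ((dvd_pow_self 2 hk0.ne').trans
            (hk ▸ Subgroup.card_subgroup_dvd_card (P : Subgroup C))) hodd
      infer_instance⟩
  infer_instance

/-- Frobenius or 2-Frobenius. -/
theorem core_case [Finite G] [Group.IsSolvable G] (h : IsSplit A G) (hA : Cfsg.piCore A G ≠ ⊥)
    (hB : ¬ IsPiNumber A (Nat.card G)) :
    (∃ C : Subgroup G, Cfsg.IsFrobeniusComplement C) ∨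
    (∃ (H K : Subgroup G) (_ : H.Normal), K.Normal ∧ H < K ∧
      (∃ C : Subgroup ↥K, Cfsg.IsFrobeniusComplement C ∧ Cfsg.frobeniusKernel C = (H.subgroupOf K : Set ↥K)) ∧
      (∃ C : Subgroup (G ⧸ H), Cfsg.IsFrobeniusComplement C ∧
        Cfsg.frobeniusKernel C = (K.map (QuotientGroup.mk' H) : Set (G ⧸ H)))) := by
  classical
  set H := Cfsg.piCore A G with hHdef
  haveI : H.Normal := inferInstanceAs (Cfsg.piCore A G).Normal
  have hHA : IsPiNumber A (Nat.card H) := Cores.piCore_isPiNumber A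
  have hHtop : H ≠ ⊤ := fun e => hB (by rw [← Subgroup.card_top, ← e]; exact hHA)
  haveI : Nontrivial (G ⧸ H) := Finite.one_lt_card_iff_nontrivial.1 (by
    rw [← Subgroup.index_eq_card]
    have := H.index_ne_zero_of_finite
    have : H.index ≠ 1 := mt Subgroup.index_eq_one.1 hHtop
    omega)
  set Kq := Cfsg.piCore Aᶜ (G ⧸ H) with hKqdef
  haveI : Kq.Normal := inferInstanceAs (Cfsg.piCore Aᶜ (G ⧸ H)).Normal
  have hKqA : IsPiNumber Aᶜ (Nat.card Kq) := Cores.piCore_isPiNumber _
  have hKq : Kq ≠ ⊥ := (piCore_or (G := G ⧸ H) A).resolve_left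
    (fun e => e (Cores.piCore_quotient_piCore A))
  set K := Kq.comap (QuotientGroup.mk' H) with hKdef
  have hHK : H ≤ K := fun x hx => by
    show QuotientGroup.mk' H x ∈ Kq
    rw [QuotientGroup.mk'_apply, (QuotientGroup.eq_one_iff x).2 hx]; exact one_mem _
  have hmap : K.map (QuotientGroup.mk' H) = Kq :=
    Subgroup.map_comap_eq_self_of_surjective (QuotientGroup.mk'_surjective H) _
  have hrel : H.relIndex K = Nat.card Kq := by
    rw [← hmap, ← Subgroup.relIndex_ker, QuotientGroup.ker_mk']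
  have hlt : H < K := lt_of_le_of_ne hHK fun e => hKq (Subgroup.card_eq_one.1 (by
    rw [← hrel, ← e, Subgroup.relIndex_self]))
  have hsplitK : IsSplit A K := fun a b ha hb haA hbA g hg =>
    h a b ha hb haA hbA (g : G) (by rw [Subgroup.orderOf_coe, hg])
  obtain ⟨C, hC, hCc, hCk⟩ := exists_complement hsplitK (H.subgroupOf K)
    (fun e => hA (le_bot_iff.1 fun x hx => by
      have : (⟨x, hHK hx⟩ : K) ∈ H.subgroupOf K := hx
      rw [e, Subgroup.mem_bot] at this
      exact congrArg Subtype.val this))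
    (fun e => hlt.not_ge (Subgroup.subgroupOf_eq_top.1 e))
    (by rwa [Nat.card_congr (Subgroup.subgroupOfEquivOfLe hHK).toEquiv])
    (by show IsPiNumber _ (H.relIndex K); rw [hrel]; exact hKqA)
  have hsQ := h.quotient H
  have hbot : Cfsg.piCore Aᶜ ((G ⧸ H) ⧸ Kq) = ⊥ := Cores.piCore_quotient_piCore _
  by_cases hKtop : Kq = ⊤
  · left
    have hKt : K = ⊤ := by rw [hKdef, hKtop, Subgroup.comap_top]
    let e : K ≃* G := (MulEquiv.subgroupCongr hKt).trans Subgroup.topEquiv
    exact ⟨_, Frobenius.map_equiv e hC⟩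
  right
  have hidxA : IsPiNumber A Kq.index := by
    -- an element of prime order in `A` acts without fixed points on `Kq`
    obtain ⟨r, hr, hrd, hrA⟩ : ∃ r : ℕ, r.Prime ∧ r ∣ Kq.index ∧ r ∈ A := by
      by_contra hno
      push Not at hno
      have htop : Cfsg.piCore Aᶜ ((G ⧸ H) ⧸ Kq) = ⊤ := by
        refine (Cores.piCore_eq_top_iff _).2 fun p hp hpd => hno p hp ?_
        rwa [Subgroup.index_eq_card]
      rw [hbot] at htop
      refine hKtop (Subgroup.index_eq_one.1 ?_)
      rw [Subgroup.index_eq_card, ← Subgroup.card_top, ← htop, Subgroup.card_bot]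
    haveI := Fact.mk hr
    obtain ⟨y, hy⟩ := exists_prime_orderOf_dvd_card' (G := G ⧸ H) r (hrd.trans Kq.index_dvd_card)
    have hy1 : y ≠ 1 := fun e => hr.one_lt.ne (by rw [← hy, e, orderOf_one])
    have hyA : IsPiNumber A (orderOf y) := fun p hp hpd => by
      rw [hy] at hpd
      rwa [(Nat.prime_dvd_prime_iff_eq hp hr).1 hpd]
    have hfix : ∀ k ∈ Kq, y * k = k * y → k = 1 := fun k hk hyk => by
      by_contra hk1
      exact hsQ.not_commute hyk hy1 hk1 hyA (Cores.IsPiNumber.of_dvd hKqA (Kq.orderOf_dvd_natCard hk))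
    haveI hnil : Group.IsNilpotent Kq :=
      Frobenius.isNilpotent_of_centralizer hr (by rw [← hy, pow_orderOf_eq_one]) hfix
    -- the complement is isomorphic to `Kq`
    let f : C →* Kq :=
      ((QuotientGroup.mk' H).comp (K.subtype.comp C.subtype)).codRestrict Kq fun c => c.1.2
    have hf : Function.Bijective f := by
      have hinj : Function.Injective f := by
        rw [injective_iff_map_eq_one]
        intro c hc
        have h1 : ((c : K) : G) ∈ H := (QuotientGroup.eq_one_iff _).1 (congrArg Subtype.val hc)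
        exact Subtype.ext (Subgroup.mem_bot.1 (hCc.disjoint.le_bot ⟨h1, c.2⟩))
      rw [Nat.bijective_iff_injective_and_card]
      exact ⟨hinj, hCc.symm.index_eq_card.symm.trans hrel⟩
    let e : C ≃* Kq := MulEquiv.ofBijective f hf
    haveI : Group.IsNilpotent C := Group.nilpotent_of_surjective e.symm.toMonoidHom e.symm.surjective
    have hcyc : IsCyclic C := isCyclic_of_frobenius hC
      ((e.trans (MulAut.conjNormal y)).trans e.symm) fun c hc => by
        have h1 : MulAut.conjNormal y (e c) = e c := by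
          have := congrArg e hc
          simpa using this
        have h2 : y * (e c : G ⧸ H) * y⁻¹ = (e c : G ⧸ H) := by
          have := congrArg Subtype.val h1
          simpa using this
        have h3 := hfix _ (e c).2 (mul_inv_eq_iff_eq_mul.1 h2)
        exact e.injective (by rw [map_one]; exact Subtype.ext h3)
    haveI : IsCyclic Kq := isCyclic_of_surjective e.toMonoidHom e.surjective
    -- hence the quotient embeds in an abelian group
    let ψ : G ⧸ H →* MulAut Kq := MulAut.conjNormal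
    have hker : ψ.ker ≤ Kq := by
      have : IsPiNumber Aᶜ (Nat.card ψ.ker) := by
        intro p hp hpd
        haveI := Fact.mk hp
        obtain ⟨z, hz⟩ := exists_prime_orderOf_dvd_card' (G := ψ.ker) p hpd
        intro hpA
        obtain ⟨k, hk1⟩ := Subgroup.ne_bot_iff_exists_ne_one.1 hKq
        have hzk : Commute (z : G ⧸ H) (k : G ⧸ H) := by
          have h4 := congrArg Subtype.val (DFunLike.congr_fun (show ψ z = 1 from z.2) k)
          simp only [ψ, MulAut.conjNormal_apply, MulAut.one_apply] at h4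
          exact mul_inv_eq_iff_eq_mul.1 h4
        refine hsQ.not_commute hzk ?_ (fun e' => hk1 (Subtype.ext e')) ?_
          (Cores.IsPiNumber.of_dvd hKqA (Kq.orderOf_dvd_natCard k.2))
        · intro e'
          rw [show z = 1 from Subtype.ext e', orderOf_one] at hz
          exact hp.one_lt.ne hz
        · intro q hq hqd
          rw [Subgroup.orderOf_coe, hz] at hqd
          rwa [(Nat.prime_dvd_prime_iff_eq hq hp).1 hqd]
      exact Cores.le_piCore this
    have hcomm : ∀ a b : MulAut Kq, a * b = b * a := fun a b => by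
      ext k
      obtain ⟨i, hi⟩ := (MonoidHom.map_cyclic (a : Kq ≃* Kq).toMonoidHom)
      obtain ⟨j, hj⟩ := (MonoidHom.map_cyclic (b : Kq ≃* Kq).toMonoidHom)
      simp only [MulEquiv.coe_toMonoidHom] at hi hj
      simp only [MulAut.mul_apply, hi, hj, ← zpow_mul, mul_comm]
    have habQ : ∀ a b : (G ⧸ H) ⧸ Kq, a * b = b * a := fun a b => by
      obtain ⟨a, rfl⟩ := QuotientGroup.mk'_surjective _ a
      obtain ⟨b, rfl⟩ := QuotientGroup.mk'_surjective _ b
      rw [← map_mul, ← map_mul, QuotientGroup.mk'_apply, QuotientGroup.mk'_apply, QuotientGroup.eq]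
      exact hker (by simp only [MonoidHom.mem_ker, map_mul, map_inv]; rw [hcomm (ψ b)]; group)
    intro p hp hpd
    haveI := Fact.mk hp
    rw [Subgroup.index_eq_card] at hpd
    obtain ⟨z, hz⟩ := exists_prime_orderOf_dvd_card' p hpd
    by_contra hpA
    haveI : (zpowers z).Normal := ⟨fun n hn g => by rw [habQ g n, mul_inv_cancel_right]; exact hn⟩
    have hle : zpowers z ≤ ⊥ := hbot ▸ Cores.le_piCore (π := Aᶜ) fun q hq hqd => by
      rw [Nat.card_zpowers, hz] at hqd
      rw [(Nat.prime_dvd_prime_iff_eq hq hp).1 hqd]; exact hpA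
    rw [zpowers_le, Subgroup.mem_bot] at hle
    rw [hle, orderOf_one] at hz
    exact hp.one_lt.ne hz
  obtain ⟨D, hD, -, hDk⟩ := exists_complement hsQ.symm Kq hKq hKtop hKqA (by rwa [compl_compl])
  exact ⟨H, K, inferInstance, inferInstance, hlt, ⟨C, hC, hCk⟩, ⟨D, hD, by rw [hDk, hmap]⟩⟩

end Cfsg.Agent.H72.PrimeGraph
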