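import Cfsg.Prelude.Def_LocalEven
import Cfsg.Agent.H58.QdSylow
import Cfsg.Agent.H58.Involve
import Mathlib.GroupTheory.SpecificGroups.Alternating
import Mathlib.GroupTheory.Perm.ViaEmbedding

/-!
`Qd(p)` and the alternating groups.
-/

set_option autoImplicit false

namespace Cfsg.Agent.H72.QdAlt

open Matrix
open Cfsg.Agent.H58.Qd

theorem comm_of_card_lt_sq {α : Type*} [Finite α] {p : ℕ} [hp : Fact p.Prime]
    (hα : Nat.card α < p ^ 2) {P : Subgroup (Equiv.Perm α)} (hP : IsPGroup p ↥P)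
    (x y : ↥P) : x * y = y * x := by
  classical
  apply Subtype.ext
  apply Equiv.ext
  intro a
  let O := MulAction.orbit ↥P a
  obtain ⟨k, hk⟩ := hP.card_orbit a
  have hle : Nat.card O ≤ Nat.card α := Nat.card_le_card_of_injective Subtype.val Subtype.val_injective
  have hk2 : k < 2 := (Nat.pow_lt_pow_iff_right hp.out.one_lt).1 (hk ▸ hle.trans_lt hα)
  let φ : ↥P →* Equiv.Perm O := MulAction.toPermHom ↥P O
  obtain ⟨m, hm⟩ := (hP.of_surjective φ.rangeRestrict φ.rangeRestrict_surjective).exists_card_eq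
  have hd : p ^ m ∣ (p ^ k).factorial := by
    rw [← hm, ← hk, ← Nat.card_perm]; exact φ.range.card_subgroup_dvd_card
  have hm1 : m ≤ 1 := by
    by_contra h
    have h2 : p ^ 2 ∣ (p ^ k).factorial := (pow_dvd_pow p (by omega)).trans hd
    interval_cases k
    · simp only [pow_zero, Nat.factorial_one, Nat.dvd_one] at h2
      nlinarith [hp.out.one_lt]
    · rw [pow_one, ← Nat.mul_factorial_pred hp.out.ne_zero, sq,
        Nat.mul_dvd_mul_iff_left hp.out.pos] at h2
      have := hp.out.dvd_factorial.1 h2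
      have := hp.out.one_lt
      omega
  have hc : IsCyclic ↥φ.range := by
    interval_cases m
    · rw [pow_zero] at hm
      have := (Nat.card_eq_one_iff_unique.1 hm).1
      infer_instance
    · exact isCyclic_of_prime_card (p := p) (by rwa [pow_one] at hm)
  let a' : O := ⟨a, MulAction.mem_orbit_self a⟩
  have := hc.isMulCommutative.is_comm.comm (φ.rangeRestrict x) (φ.rangeRestrict y)
  have h' : φ (x * y) = φ (y * x) := by
    rw [map_mul, map_mul]; exact congrArg Subtype.val this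
  have h'' := congrArg (fun f : Equiv.Perm O => (f a' : α)) h'
  exact h''

variable {p : ℕ} [Fact p.Prime]

local notation "𝔽" => ZMod p

theorem lower_mul (s t : 𝔽) : lower s * lower t = lower (s + t) := by
  apply Matrix.SpecialLinearGroup.ext
  intro i j
  rw [Matrix.SpecialLinearGroup.coe_mul]
  change ((!![1, 0; s, 1] : Matrix (Fin 2) (Fin 2) 𝔽) * !![1, 0; t, 1]) i j = _
  fin_cases i <;> fin_cases j <;> simp [lower, add_comm]

theorem lower_zero : lower (0 : 𝔽) = 1 := by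
  apply Matrix.SpecialLinearGroup.ext
  intro i j
  fin_cases i <;> fin_cases j <;> simp [lower]

theorem sylU_isPGroup : IsPGroup p ↥(sylU 𝔽) := by
  have h : IsPGroup p ↥(upperHom 𝔽).range :=
    (IsPGroup.of_card (n := 1) (by simp) : IsPGroup p (Multiplicative 𝔽)).of_surjective
      (upperHom 𝔽).rangeRestrict (upperHom 𝔽).rangeRestrict_surjective
  exact h.comap_of_ker_isPGroup _ (trans_isPGroup (F := 𝔽) (p := p))

theorem sylU_not_comm : ∃ x y : ↥(Cfsg.qdOver 𝔽), x ∈ sylU 𝔽 ∧ y ∈ sylU 𝔽 ∧ x * y ≠ y * x := by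
  refine ⟨mk (upper 1) 0, mk 1 ![0, 1], ⟨Multiplicative.ofAdd 1, (toSL2_mk _ _).symm⟩,
    trans_le_sylU ((mem_trans_iff _).2 ⟨_, rfl⟩), fun h => ?_⟩
  have := congrArg (fun M => ent M 0 2) h
  simp [mk_mul, upper_coe, Matrix.vecHead, Matrix.vecTail] at this

theorem not_involves {n : ℕ} (hn : n < p ^ 2) :
    ¬ Cfsg.Involves ↥(Cfsg.qdOver 𝔽) ↥(alternatingGroup (Fin n)) := by
  intro h
  obtain ⟨K, φ, hφ⟩ := Cfsg.Agent.H58.Inv.exists_hom_of_involves h
  let L : Subgroup ↥K := (sylU 𝔽).comap φ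
  let f : ↥L →* ↥(sylU 𝔽) := φ.subgroupComap (sylU 𝔽)
  have hf : Function.Surjective f := fun y => by
    obtain ⟨x, hx⟩ := hφ y.1
    exact ⟨⟨x, show φ x ∈ sylU 𝔽 by rw [hx]; exact y.2⟩, Subtype.ext hx⟩
  obtain ⟨P⟩ : Nonempty (Sylow p ↥L) := inferInstance
  have htop : (P.mapSurjective hf : Subgroup ↥(sylU 𝔽)) = ⊤ :=
    ((P.mapSurjective hf).is_maximal' (sylU_isPGroup.to_subgroup ⊤) le_top).symm
  let j : ↥L →* Equiv.Perm (Fin n) :=
    (alternatingGroup (Fin n)).subtype.comp (K.subtype.comp L.subtype)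
  have hj : Function.Injective j :=
    Subtype.val_injective.comp (Subtype.val_injective.comp Subtype.val_injective)
  obtain ⟨x, y, hx, hy, hxy⟩ := sylU_not_comm (p := p)
  have hm : ∀ z : ↥(sylU 𝔽), ∃ w ∈ (P : Subgroup ↥L), f w = z := fun z => by
    have : z ∈ (P.mapSurjective hf : Subgroup ↥(sylU 𝔽)) := by rw [htop]; trivial
    exact this
  obtain ⟨a, ha, hfa⟩ := hm ⟨x, hx⟩
  obtain ⟨b, hb, hfb⟩ := hm ⟨y, hy⟩
  have hcomm := comm_of_card_lt_sq (by simpa using hn) (P.2.map j)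
    ⟨j a, a, ha, rfl⟩ ⟨j b, b, hb, rfl⟩
  have hab : a * b = b * a := hj (by rw [map_mul, map_mul]; exact congrArg Subtype.val hcomm)
  have := congrArg f hab
  rw [map_mul, map_mul, hfa, hfb] at this
  exact hxy (congrArg Subtype.val this)

theorem hom_units_trivial (hp : p ≠ 2) (χ : ↥(Cfsg.qdOver 𝔽) →* ℤˣ) (M : ↥(Cfsg.qdOver 𝔽)) :
    χ M = 1 := by
  have hodd : Odd p := (Fact.out : p.Prime).odd_of_ne_two hp
  have key : ∀ g : ↥(Cfsg.qdOver 𝔽), g ^ p = 1 → χ g = 1 := fun g hg => by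
    have h1 : χ g ^ p = 1 := by rw [← map_pow, hg, map_one]
    rcases Int.units_eq_one_or (χ g) with h | h
    · exact h
    · rw [h, hodd.neg_one_pow] at h1; exact absurd h1 (by decide)
  have hU : ∀ c : 𝔽, ∀ k : ℕ, mk (upper c) 0 ^ k = mk (upper ((k : 𝔽) * c)) 0 := by
    intro c k
    induction k with
    | zero => simp [upper_zero, mk_one]
    | succ k ih => rw [pow_succ, ih, mk_mul, upper_mul]; simp [add_mul]
  have hL : ∀ c : 𝔽, ∀ k : ℕ, mk (lower c) 0 ^ k = mk (lower ((k : 𝔽) * c)) 0 := by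
    intro c k
    induction k with
    | zero => simp [lower_zero, mk_one]
    | succ k ih => rw [pow_succ, ih, mk_mul, lower_mul]; simp [add_mul]
  have hT : trans 𝔽 ≤ χ.ker := fun g hg => key g (by
    obtain ⟨v, rfl⟩ := (mem_trans_iff g).1 hg
    have hpow : ∀ k : ℕ, mk (1 : Matrix.SpecialLinearGroup (Fin 2) 𝔽) v ^ k = mk 1 (k • v) := by
      intro k
      induction k with
      | zero => simp [mk_one]
      | succ k ih =>
          rw [pow_succ, ih, mk_mul, one_mul, Matrix.SpecialLinearGroup.coe_one, Matrix.one_mulVec,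
            succ_nsmul, add_comm]
    rw [hpow, show p • v = 0 by ext i; simp, mk_one])
  have htop : χ.ker.map (toSL2 (F := 𝔽)) = ⊤ := eq_top_of_upper_lower
    (fun t => ⟨mk (upper t) 0, key _ (by rw [hU, ZMod.natCast_self, zero_mul, upper_zero, mk_one]),
      toSL2_mk _ _⟩)
    (fun t => ⟨mk (lower t) 0, key _ (by rw [hL, ZMod.natCast_self, zero_mul, lower_zero, mk_one]),
      toSL2_mk _ _⟩)
  obtain ⟨g, hg, hgM⟩ : toSL2 M ∈ χ.ker.map (toSL2 (F := 𝔽)) := by rw [htop]; trivial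
  have h2 : g⁻¹ * M ∈ trans 𝔽 := by
    rw [H58.Qd.trans, MonoidHom.mem_ker, map_mul, map_inv, hgM, inv_mul_cancel]
  have h3 := χ.ker.mul_mem hg (hT h2)
  rwa [mul_inv_cancel_left] at h3

/-- The affine action on `𝔽²`. -/
@[reducible] def affineAction (p : ℕ) [Fact p.Prime] :
    MulAction ↥(Cfsg.qdOver (ZMod p)) (Fin 2 → ZMod p) where
  smul M v := ((toSL2 M : Matrix.SpecialLinearGroup (Fin 2) (ZMod p)) : Matrix (Fin 2) (Fin 2) (ZMod p)) *ᵥ v +
    ![ent M 0 2, ent M 1 2]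
  mul_smul M N v := by
    show _ *ᵥ v + _ = _ *ᵥ (_ *ᵥ v + _) + _
    have h := mk_mul (toSL2 M) (toSL2 N) ![ent M 0 2, ent M 1 2] ![ent N 0 2, ent N 1 2]
    rw [← eq_mk, ← eq_mk] at h
    have h0 := congrArg (fun X => ent X 0 2) h
    have h1 := congrArg (fun X => ent X 1 2) h
    simp only [ent_mk_02, ent_mk_12] at h0 h1
    rw [map_mul, Matrix.SpecialLinearGroup.coe_mul, mulVec_add, mulVec_mulVec, h0, h1, add_assoc]
    congr 1
    ext i; fin_cases i <;> rfl
  one_smul v := by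
    show _ *ᵥ v + _ = v
    rw [map_one, Matrix.SpecialLinearGroup.coe_one, one_mulVec]
    ext i; fin_cases i <;> simp [ent]

theorem exists_embedding (hp : p ≠ 2) {n : ℕ} (hn : p ^ 2 ≤ n) :
    ∃ H : Subgroup (alternatingGroup (Fin n)), Nonempty (↥H ≃* ↥(Cfsg.qdOver 𝔽)) := by
  classical
  letI := affineAction p
  let φ : ↥(Cfsg.qdOver 𝔽) →* Equiv.Perm (Fin 2 → 𝔽) := MulAction.toPermHom _ _
  have hφ : Function.Injective φ := by
    rw [injective_iff_map_eq_one]
    intro M hM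
    have hv : ∀ v, ((toSL2 M : Matrix.SpecialLinearGroup (Fin 2) 𝔽) : Matrix (Fin 2) (Fin 2) 𝔽) *ᵥ v +
        ![ent M 0 2, ent M 1 2] = v := fun v => DFunLike.congr_fun hM v
    have ht : ![ent M 0 2, ent M 1 2] = 0 := by simpa using hv 0
    have hA : toSL2 M = 1 := by
      apply Subtype.ext
      apply Matrix.ext_iff_mulVec.2
      intro v
      have h2 := hv v
      rw [ht, add_zero] at h2
      rw [h2]; exact (one_mulVec v).symm
    rw [eq_mk M, hA, ht, mk_one]
  obtain ⟨e⟩ := Function.Embedding.nonempty_of_card_le (α := Fin 2 → 𝔽) (β := Fin n) (by simpa using hn)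
  let ψ := (Equiv.Perm.viaEmbeddingHom e).comp φ
  have hψ : Function.Injective ψ := (Equiv.Perm.viaEmbeddingHom_injective e).comp hφ
  let ψ' : ↥(Cfsg.qdOver 𝔽) →* ↥(alternatingGroup (Fin n)) :=
    ψ.codRestrict _ fun M => Equiv.Perm.mem_alternatingGroup.2
      (hom_units_trivial hp (Equiv.Perm.sign.comp ψ) M)
  have hψ' : Function.Injective ψ' := fun a b h => hψ (congrArg Subtype.val h)
  exact ⟨ψ'.range, ⟨(MonoidHom.ofInjective hψ').symm⟩⟩

end Cfsg.Agent.H72.QdAlt
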