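import Cfsg.Agent.Fusion.Frobenius
import Cfsg.Agent.Thompson.BaerSuzuki
import Cfsg.Agent.PGroups.Basic
import Cfsg.Agent.Coprime.SchurZassenhaus
import Cfsg.Agent.Cores.PCore
import Cfsg.Agent.H26.Invol
import Mathlib.GroupTheory.Frattini

/-! Two criteria through real elements. -/

set_option autoImplicit false

namespace Cfsg.Agent.H72

open Subgroup
open scoped commutatorElement

variable {G : Type*} [Group G] [Finite G]

theorem commute_of_odd_of_real_central
    (h : ∀ x : G, (∃ j : ℕ, orderOf x = 2 ^ j) → IsConj x x⁻¹ → x ∈ center G) :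
    ∀ (n : ℕ) (U : Subgroup G), Nat.card U = n → IsPGroup 2 U → ∀ g ∈ normalizer (U : Set G),
      Odd (orderOf g) → ∀ a ∈ U, g * a = a * g := by
  intro n
  induction n using Nat.strong_induction_on with
  | _ n ih =>
  intro U hn hU g hg hodd
  have : Fact (Nat.Prime 2) := ⟨Nat.prime_two⟩
  have small : ∀ S : Subgroup G, S < U → (∀ x ∈ S, g * x * g⁻¹ ∈ S) → ∀ x ∈ S, g * x = x * g := by
    intro S hS hinv
    refine ih _ (hn ▸ lt_of_not_ge fun hle => hS.ne (eq_of_le_of_card_ge hS.le hle)) S rfl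
      (hU.to_le hS.le) g ?_ hodd
    refine mem_normalizer_iff.2 fun x => ⟨hinv x, fun hx => ?_⟩
    let f : S → S := fun s => ⟨g * s * g⁻¹, hinv s s.2⟩
    have hf : Function.Injective f := fun a b hab =>
      Subtype.ext (mul_left_cancel (mul_right_cancel (congrArg Subtype.val hab :)))
    obtain ⟨s, hs⟩ := Finite.injective_iff_surjective.1 hf ⟨_, hx⟩
    have := mul_left_cancel (mul_right_cancel (congrArg Subtype.val hs :))
    rw [← this]; exact s.2
  have hconj : ∀ x ∈ U, g * x * g⁻¹ ∈ U := fun x hx => (mem_normalizer_iff.1 hg x).1 hx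
  set C := closure {u | ∃ x ∈ U, u = g * x * g⁻¹ * x⁻¹} with hC
  have hCU : C ≤ U := (closure_le _).2 (by
    rintro _ ⟨x, hx, rfl⟩
    exact mul_mem (hconj x hx) (inv_mem hx))
  rcases hCU.lt_or_eq with hlt | hgen
  · have hCinv : ∀ x ∈ C, g * x * g⁻¹ ∈ C := by
      intro x hx
      have : C.map (MulAut.conj g).toMonoidHom ≤ C := by
        rw [hC, MonoidHom.map_closure, closure_le]
        rintro _ ⟨_, ⟨y, hy, rfl⟩, rfl⟩
        exact subset_closure ⟨g * y * g⁻¹, hconj y hy, by simp [mul_assoc]⟩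
      exact this ⟨x, hx, rfl⟩
    have hfix := small C hlt hCinv
    intro x hx
    set u := g * x * g⁻¹ * x⁻¹ with hu
    have huC : u ∈ C := subset_closure ⟨x, hx, rfl⟩
    have hgu : Commute g u := hfix u huC
    have hpow : ∀ m : ℕ, g ^ m * x * (g ^ m)⁻¹ = u ^ m * x := by
      intro m
      induction m with
      | zero => simp
      | succ m ihm =>
        calc g ^ (m + 1) * x * (g ^ (m + 1))⁻¹ = g * (g ^ m * x * (g ^ m)⁻¹) * g⁻¹ := by
              rw [pow_succ']; simp [mul_assoc]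
          _ = u ^ m * (g * x * g⁻¹) := by
              rw [ihm, ← mul_assoc, (hgu.pow_right m).eq]; simp [mul_assoc]
          _ = u ^ (m + 1) * x := by rw [pow_succ, hu]; simp [mul_assoc]
    have hpu := hpow (orderOf g)
    rw [pow_orderOf_eq_one] at hpu
    simp only [one_mul, inv_one, mul_one] at hpu
    have hu1 : u ^ orderOf g = 1 := by simpa using hpu.symm
    obtain ⟨j, hj⟩ := hU ⟨u, hCU huC⟩
    have hu2 : u ^ 2 ^ j = 1 := congrArg Subtype.val hj
    have hg1 := pow_gcd_eq_one.2 ⟨hu1, hu2⟩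
    rw [((Nat.coprime_two_right.2 hodd).pow_right j), pow_one, hu, mul_inv_eq_one,
      mul_inv_eq_iff_eq_mul] at hg1
    exact hg1
  rcases eq_or_ne U ⊥ with rfl | hne
  · intro x hx
    rw [mem_bot.1 hx]
    simp
  exfalso
  set Φ := (frattini U).map U.subtype with hΦ
  have hΦU : Φ ≤ U := map_subtype_le _
  have hΦlt : Φ < U := by
    refine lt_of_le_of_ne hΦU fun e => ?_
    have : frattini U = ⊤ := map_injective U.subtype_injective (by
      rw [← hΦ, e, ← MonoidHom.range_eq_map, range_subtype])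
    have hUn : Nontrivial U := (nontrivial_iff_ne_bot U).2 hne
    obtain ⟨M, hM, -⟩ := (eq_top_or_exists_le_coatom (⊥ : Subgroup U)).resolve_left bot_ne_top
    exact hM.1 (top_le_iff.1 (this ▸ frattini_le_coatom hM))
  have hΦconj : ∀ y ∈ normalizer (U : Set G), ∀ x ∈ Φ, y * x * y⁻¹ ∈ Φ := by
    rintro y hy _ ⟨x, hx, rfl⟩
    let e : MulAut U :=
      { toFun := fun z => ⟨y * z * y⁻¹, (mem_normalizer_iff.1 hy z).1 z.2⟩
        invFun := fun z => ⟨y⁻¹ * z * y, by
          simpa using (mem_normalizer_iff.1 (inv_mem hy) z).1 z.2⟩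
        left_inv := fun z => Subtype.ext (by simp [mul_assoc])
        right_inv := fun z => Subtype.ext (by simp [mul_assoc])
        map_mul' := fun z w => Subtype.ext (by simp [mul_assoc]) }
    exact ⟨e x, characteristic_iff_map_le.1 inferInstance e ⟨x, hx, rfl⟩, rfl⟩
  have hΦfix := small Φ hΦlt (hΦconj g hg)
  have hgenU : U ≤ C := hgen.ge
  have hcent : ∀ d ∈ Φ, ∀ x ∈ U, d * x = x * d := by
    intro d hd x hx
    have hx' := hgenU hx
    induction hx' using Subgroup.closure_induction with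
    | mem w hw =>
      obtain ⟨r, hr, rfl⟩ := hw
      have hd' : r⁻¹ * d * r ∈ Φ := by
        simpa using hΦconj r⁻¹ (inv_mem (le_normalizer hr)) d hd
      have e3 : g * (r⁻¹ * d * r) * g⁻¹ = (g * r * g⁻¹)⁻¹ * (g * d * g⁻¹) * (g * r * g⁻¹) := by
        group
      rw [hΦfix _ hd', hΦfix _ hd, mul_inv_cancel_right, mul_inv_cancel_right] at e3
      calc d * (g * r * g⁻¹ * r⁻¹) = (g * r * g⁻¹) * ((g * r * g⁻¹)⁻¹ * d * (g * r * g⁻¹)) * r⁻¹ := by
            group
        _ = g * r * g⁻¹ * r⁻¹ * d := by rw [← e3]; group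
    | one => simp
    | mul u v hu hv ihu ihv =>
      rw [← mul_assoc, ihu (hCU hu), mul_assoc, ihv (hCU hv), ← mul_assoc]
    | inv u hu ihu => exact Commute.inv_right (show Commute d u from ihu (hCU hu))
  have hsq : ∀ a ∈ U, a * a ∈ Φ := fun a ha =>
    ⟨⟨a, ha⟩ ^ 2, Cfsg.Agent.PGroups.pow_mem_frattini hU _, by simp [pow_two]⟩
  have hcom : ∀ a ∈ U, ∀ b ∈ U, ⁅a, b⁆ ∈ Φ := fun a ha b hb =>
    ⟨⁅(⟨a, ha⟩ : U), ⟨b, hb⟩⁆, Cfsg.Agent.PGroups.commutator_le_frattini hU
      (commutator_mem_commutator (mem_top _) (mem_top _)), map_commutatorElement U.subtype _ _⟩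
  have hgfix : ∀ d ∈ Φ, g * d * g⁻¹ = d := fun d hd => by
    rw [hΦfix d hd, mul_inv_cancel_right]
  have hbr : ∀ a ∈ U, ∀ u ∈ U, ∀ v ∈ U, ⁅a, u * v⁆ = ⁅a, u⁆ * ⁅a, v⁆ := fun a ha u hu v hv => by
    have e : ⁅a, u * v⁆ = ⁅a, u⁆ * (u * ⁅a, v⁆ * u⁻¹) := by
      simp only [commutatorElement_def]; group
    rw [e, ← hcent _ (hcom a ha v hv) u hu, mul_inv_cancel_right]
  have hbl : ∀ a ∈ U, ∀ b ∈ U, ∀ u ∈ U, ⁅a * b, u⁆ = ⁅a, u⁆ * ⁅b, u⁆ := fun a ha b hb u hu => by
    have e : ⁅a * b, u⁆ = (a * ⁅b, u⁆ * a⁻¹) * ⁅a, u⁆ := by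
      simp only [commutatorElement_def]; group
    rw [e, ← hcent _ (hcom b hb u hu) a ha, mul_inv_cancel_right,
      hcent _ (hcom b hb u hu) _ (hΦU (hcom a ha u hu))]
  -- `g` has no fixed points outside `Φ`
  have hnofix : ∀ a ∈ U, g * a * g⁻¹ = a → a ∈ Φ := by
    let π : U →* U ⧸ frattini U := QuotientGroup.mk' (frattini U)
    have hab : ∀ z w : U ⧸ frattini U, z * w = w * z := by
      intro z w
      induction z using QuotientGroup.induction_on with
      | H z =>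
        induction w using QuotientGroup.induction_on with
        | H w =>
          rw [← QuotientGroup.mk_mul, ← QuotientGroup.mk_mul, QuotientGroup.eq]
          have h1 : ⁅w⁻¹, z⁻¹⁆ ∈ frattini U := Cfsg.Agent.PGroups.commutator_le_frattini hU
            (commutator_mem_commutator (mem_top _) (mem_top _))
          simpa [commutatorElement_def, mul_assoc] using h1
    let _ : CommGroup (U ⧸ frattini U) := { (inferInstance : Group _) with mul_comm := hab }
    let σ : ℕ → U → U := fun i z => ⟨g ^ i * z * (g ^ i)⁻¹,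
      (mem_normalizer_iff.1 (pow_mem hg i) z).1 z.2⟩
    let f : U →* U ⧸ frattini U :=
      { toFun := fun z => ∏ i ∈ Finset.range (orderOf g), π (σ i z)
        map_one' := Finset.prod_eq_one fun i _ => by
          rw [show σ i 1 = 1 from Subtype.ext (by simp [σ]), map_one]
        map_mul' := fun z w => by
          rw [← Finset.prod_mul_distrib]
          refine Finset.prod_congr rfl fun i _ => ?_
          rw [← map_mul, show σ i (z * w) = σ i z * σ i w from Subtype.ext (by simp [σ, mul_assoc])] }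
    have hkill : C ≤ f.ker.map U.subtype := by
      rw [hC, closure_le]
      rintro _ ⟨x, hx, rfl⟩
      refine ⟨⟨g * x * g⁻¹ * x⁻¹, mul_mem (hconj x hx) (inv_mem hx)⟩, ?_, rfl⟩
      show ∏ i ∈ Finset.range (orderOf g), π (σ i _) = 1
      obtain ⟨m, hm⟩ : ∃ m, orderOf g = m + 1 := ⟨orderOf g - 1, by have := orderOf_pos g; omega⟩
      have hstep : ∀ i, π (σ i ⟨g * x * g⁻¹ * x⁻¹, mul_mem (hconj x hx) (inv_mem hx)⟩) =
          π (σ (i + 1) ⟨x, hx⟩) / π (σ i ⟨x, hx⟩) := fun i => by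
        rw [← map_div]
        congr 1
        refine Subtype.ext ?_
        simp [σ, pow_succ, div_eq_mul_inv, mul_assoc]
      simp only [hstep, Finset.prod_div_distrib]
      rw [div_eq_one, hm, Finset.prod_range_succ (fun i => π (σ (i + 1) ⟨x, hx⟩)),
        Finset.prod_range_succ' (fun i => π (σ i ⟨x, hx⟩))]
      congr 2
      refine Subtype.ext ?_
      simp [σ, ← hm, pow_orderOf_eq_one]
    intro a ha hfix
    obtain ⟨z, hz, hze⟩ := hkill (hgenU ha)
    have hz' : z = ⟨a, ha⟩ := Subtype.ext hze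
    rw [hz'] at hz
    have hfa : f ⟨a, ha⟩ = π ⟨a, ha⟩ ^ orderOf g := by
      show ∏ i ∈ Finset.range (orderOf g), π (σ i ⟨a, ha⟩) = _
      have e : ∀ i, σ i ⟨a, ha⟩ = ⟨a, ha⟩ := fun i => by
        refine Subtype.ext ?_
        have hc : Commute g a := mul_inv_eq_iff_eq_mul.1 hfix
        show g ^ i * a * (g ^ i)⁻¹ = a
        rw [(hc.pow_left i).eq, mul_inv_cancel_right]
      simp only [e, Finset.prod_const, Finset.card_range]
    rw [SetLike.mem_coe, MonoidHom.mem_ker, hfa] at hz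
    have h2 : π ⟨a, ha⟩ ^ 2 = 1 := by
      rw [← map_pow]
      exact (QuotientGroup.eq_one_iff _).2 (Cfsg.Agent.PGroups.pow_mem_frattini hU _)
    have hone := pow_gcd_eq_one.2 ⟨hz, h2⟩
    rw [Nat.coprime_two_right.2 hodd, pow_one] at hone
    exact ⟨⟨a, ha⟩, (QuotientGroup.eq_one_iff _).1 hone, rfl⟩
  obtain ⟨a₀, ha₀, ha₀Φ⟩ := SetLike.exists_of_lt hΦlt
  let K : Subgroup G :=
    { carrier := {c | ∃ u ∈ U, c = ⁅a₀, u⁆}
      one_mem' := ⟨1, one_mem _, by simp [commutatorElement_def]⟩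
      mul_mem' := by
        rintro _ _ ⟨u, hu, rfl⟩ ⟨v, hv, rfl⟩
        exact ⟨u * v, mul_mem hu hv, (hbr a₀ ha₀ u hu v hv).symm⟩
      inv_mem' := by
        rintro _ ⟨u, hu, rfl⟩
        refine ⟨u⁻¹, inv_mem hu, inv_eq_of_mul_eq_one_right ?_⟩
        rw [← hbr a₀ ha₀ u hu u⁻¹ (inv_mem hu)]
        simp [commutatorElement_def] }
  let R : Subgroup G :=
    { carrier := {a | a ∈ U ∧ ∀ u ∈ U, ⁅a, u⁆ ∈ K}
      one_mem' := ⟨one_mem _, fun u _ => by
        rw [show ⁅(1 : G), u⁆ = 1 by simp [commutatorElement_def]]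
        exact one_mem K⟩
      mul_mem' := fun {a b} ha hb => ⟨mul_mem ha.1 hb.1, fun u hu => by
        rw [hbl a ha.1 b hb.1 u hu]; exact mul_mem (ha.2 u hu) (hb.2 u hu)⟩
      inv_mem' := fun {a} ha => ⟨inv_mem ha.1, fun u hu => by
        have e : ⁅a⁻¹, u⁆ = ⁅a, u⁆⁻¹ := by
          refine (inv_eq_of_mul_eq_one_right ?_).symm
          rw [← hbl a ha.1 a⁻¹ (inv_mem ha.1) u hu]
          simp [commutatorElement_def]
        rw [e]; exact inv_mem (ha.2 u hu)⟩ }
  have hKΦ : K ≤ Φ := by rintro _ ⟨u, hu, rfl⟩; exact hcom a₀ ha₀ u hu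
  have hRinv : ∀ x ∈ R, g * x * g⁻¹ ∈ R := by
    intro x hx
    refine ⟨hconj x hx.1, fun u hu => ?_⟩
    have hu' : g⁻¹ * u * g ∈ U := by simpa using (mem_normalizer_iff.1 (inv_mem hg) u).1 hu
    have e : ⁅g * x * g⁻¹, u⁆ = g * ⁅x, g⁻¹ * u * g⁆ * g⁻¹ := by
      simp [commutatorElement_def, mul_assoc]
    rw [e, hgfix _ (hKΦ (hx.2 _ hu'))]
    exact hx.2 _ hu'
  have hRU : R = U := by
    rcases (show R ≤ U from fun x hx => hx.1).lt_or_eq with hlt | he
    · exfalso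
      refine ha₀Φ (hnofix a₀ ha₀ ?_)
      rw [small R hlt hRinv a₀ ⟨ha₀, fun u hu => ⟨u, hu, rfl⟩⟩, mul_inv_cancel_right]
    · exact he
  let S : Subgroup G :=
    { carrier := {a | a ∈ U ∧ a * a ∈ K}
      one_mem' := ⟨one_mem _, by simp⟩
      mul_mem' := fun {a b} ha hb => ⟨mul_mem ha.1 hb.1, by
        have hbaK : ⁅b, a⁆ ∈ K := (hRU.symm ▸ hb.1 : b ∈ R).2 a ha.1
        have e : a * b * (a * b) = a * (⁅b, a⁆ * a) * (b * b) := by
          simp only [commutatorElement_def]; group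
        rw [e, hcent _ (hKΦ hbaK) a ha.1, ← mul_assoc a]
        exact mul_mem (mul_mem ha.2 hbaK) hb.2⟩
      inv_mem' := fun {a} ha => ⟨inv_mem ha.1, by
        rw [← mul_inv_rev]; exact inv_mem ha.2⟩ }
  have hgensS : C ≤ S := by
    rw [hC, closure_le]
    rintro _ ⟨x, hx, rfl⟩
    refine ⟨mul_mem (hconj x hx) (inv_mem hx), ?_⟩
    have hy : g * x * g⁻¹ ∈ U := hconj x hx
    set y := g * x * g⁻¹ with hy'
    have hyy : y * y = x * x := by
      rw [hy', show g * x * g⁻¹ * (g * x * g⁻¹) = g * (x * x) * g⁻¹ by group]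
      exact hgfix _ (hsq x hx)
    have hcK : ⁅x⁻¹, y⁆ ∈ K := (hRU.symm ▸ inv_mem hx : x⁻¹ ∈ R).2 y hy
    have e : y * x⁻¹ * (y * x⁻¹) = y * ⁅x⁻¹, y⁆ * y * (x⁻¹ * x⁻¹) := by
      simp only [commutatorElement_def]; group
    rw [e, ← hcent _ (hKΦ hcK) y hy, mul_assoc ⁅x⁻¹, y⁆, hyy, mul_assoc,
      show x * x * (x⁻¹ * x⁻¹) = 1 by group, mul_one]
    exact hcK
  obtain ⟨u, hu, hue⟩ := inv_mem (hgensS (hgenU ha₀)).2
  have hreal : IsConj a₀ a₀⁻¹ := by
    refine isConj_iff.2 ⟨u⁻¹, ?_⟩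
    rw [inv_inv]
    have hc2 : ⁅a₀, u⁆ * ⁅a₀, u⁆ = 1 := by
      rw [← hbr a₀ ha₀ u hu u hu, commutatorElement_eq_one_iff_mul_comm]
      exact (hcent _ (hsq u hu) a₀ ha₀).symm
    rw [← hue] at hc2
    have h4 : a₀ * a₀ * (a₀ * a₀) = 1 := inv_injective (by rw [mul_inv_rev, hc2, inv_one])
    rw [commutatorElement_def] at hue
    have h5 : u * a₀⁻¹ * u⁻¹ = a₀ := by
      calc u * a₀⁻¹ * u⁻¹ = a₀⁻¹ * (a₀ * u * a₀⁻¹ * u⁻¹) := by group
        _ = a₀⁻¹ * (a₀ * a₀)⁻¹ := by rw [hue]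
        _ = a₀⁻¹ * (a₀ * a₀) := by rw [inv_eq_of_mul_eq_one_right h4]
        _ = a₀ := by group
    nth_rewrite 1 [← h5]
    group
  have h2el : ∃ j : ℕ, orderOf a₀ = 2 ^ j := by
    obtain ⟨j, hj⟩ := hU ⟨a₀, ha₀⟩
    obtain ⟨i, -, hi⟩ := (Nat.dvd_prime_pow Nat.prime_two).1
      (orderOf_dvd_of_pow_eq_one (congrArg Subtype.val hj :))
    exact ⟨i, hi⟩
  refine ha₀Φ (hnofix a₀ ha₀ ?_)
  rw [mem_center_iff.1 (h a₀ h2el hreal) g, mul_inv_cancel_right]

theorem hasNormalTwoComplement_of_real_central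
    (h : ∀ x : G, (∃ j : ℕ, orderOf x = 2 ^ j) → IsConj x x⁻¹ → x ∈ center G) :
    Cfsg.HasNormalPComplement 2 G := by
  have : Fact (Nat.Prime 2) := ⟨Nat.prime_two⟩
  obtain ⟨P⟩ : Nonempty (Sylow 2 G) := inferInstance
  refine (Cfsg.Agent.Fusion.frobenius_criterion P).2 fun Q hQ g hg hcop =>
    mem_centralizer_iff.2 fun x hx => ?_
  exact (commute_of_odd_of_real_central h _ Q rfl (P.isPGroup'.to_le hQ) g hg
    (Nat.coprime_two_right.1 hcop) x hx).symm

theorem no_real_odd_iff_normal (P : Sylow 2 G) :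
    (∀ x : G, x ≠ 1 → Odd (orderOf x) → ¬ IsConj x x⁻¹) ↔ (P : Subgroup G).Normal := by
  have : Fact (Nat.Prime 2) := ⟨Nat.prime_two⟩
  constructor
  · intro h
    set O := Cfsg.pCore 2 G with hO
    have hOp : IsPGroup 2 O := Cfsg.Agent.Cores.pCore_isPGroup
    rcases (Cfsg.Agent.Cores.pCore_le_sylow P : O ≤ P).lt_or_eq with hlt | heq
    swap
    · exact heq ▸ inferInstance
    exfalso
    let π := QuotientGroup.mk' O
    obtain ⟨a, haP, haO⟩ := SetLike.exists_of_lt hlt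
    have ha1 : π a ≠ 1 := fun e => haO ((QuotientGroup.eq_one_iff a).1 e)
    obtain ⟨j, hj⟩ := P.isPGroup' ⟨a, haP⟩
    have hje : (π a) ^ 2 ^ j = 1 := by
      rw [← map_pow, show a ^ 2 ^ j = 1 from congrArg Subtype.val hj, map_one]
    obtain ⟨i, -, hi⟩ := (Nat.dvd_prime_pow Nat.prime_two).1 (orderOf_dvd_of_pow_eq_one hje)
    set t := π a ^ (orderOf (π a) / 2) with ht
    have hto : orderOf t = 2 := orderOf_pow_orderOf_div (orderOf_pos _).ne' (by
      rcases i with _ | i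
      · exact absurd (orderOf_eq_one_iff.1 (by simpa using hi)) ha1
      · rw [hi]; exact dvd_pow_self 2 (Nat.succ_ne_zero i))
    have htt : t * t = 1 := Cfsg.Agent.H26.mul_self_of_orderOf_two hto
    obtain ⟨g, hg⟩ : ∃ g, ¬ IsPGroup 2 (closure ({t, g * t * g⁻¹} : Set (G ⧸ O))) := by
      by_contra hall
      push Not at hall
      obtain ⟨N, hN, hN2, htN⟩ := Cfsg.Agent.Thompson.baer_suzuki hall
      have hbot : Cfsg.pCore 2 (G ⧸ O) = ⊥ := Cfsg.Agent.Cores.pCore_quotient_pCore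
      have := (Cfsg.Agent.Cores.le_pCore hN2) htN
      rw [hbot, mem_bot] at this
      exact Cfsg.Agent.H26.ne_one_of_orderOf_two hto this
    set v := g * t * g⁻¹ with hv
    have hvv : v * v = 1 := by
      rw [hv, show g * t * g⁻¹ * (g * t * g⁻¹) = g * (t * t) * g⁻¹ by group, htt]; group
    obtain ⟨b, m, hm, hbm⟩ := Nat.exists_eq_two_pow_mul_odd (orderOf_pos (t * v)).ne'
    set y := (t * v) ^ 2 ^ b with hy
    have hym : y ^ m = 1 := by rw [hy, ← pow_mul, ← hbm, pow_orderOf_eq_one]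
    have hy1 : y ≠ 1 := fun e => hg (Cfsg.Agent.H26.isPGroup_closure_pair htt hvv (a := b) e)
    have hyinv : t * y * t⁻¹ = y⁻¹ := by
      rw [hy, ← conj_pow, show t * (t * v) * t⁻¹ = (t * v)⁻¹ by
        rw [← mul_assoc, htt, one_mul, mul_inv_rev, inv_eq_of_mul_eq_one_right hvv,
          inv_eq_of_mul_eq_one_right htt], inv_pow]
    obtain ⟨x₀, hx₀⟩ := QuotientGroup.mk'_surjective O y
    obtain ⟨c, l, hl, hcl⟩ := Nat.exists_eq_two_pow_mul_odd (orderOf_pos x₀).ne'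
    have hcy : (2 ^ c).Coprime (orderOf y) := ((Nat.coprime_two_left.2 hm).pow_left c).coprime_dvd_right
      (orderOf_dvd_of_pow_eq_one hym)
    obtain ⟨e, he⟩ := exists_pow_eq_self_of_coprime hcy
    set x := (x₀ ^ 2 ^ c) ^ e with hx
    have hπx : π x = y := by rw [hx, map_pow, map_pow, hx₀, he]
    have hxl : x ^ l = 1 := by
      rw [hx, ← pow_mul, ← pow_mul, mul_comm e, ← mul_assoc, ← hcl, pow_mul, pow_orderOf_eq_one,
        one_pow]
    have hxodd : Odd (orderOf x) := hl.of_dvd_nat (orderOf_dvd_of_pow_eq_one hxl)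
    obtain ⟨t₀, ht₀⟩ := QuotientGroup.mk'_surjective O t
    have hcopx : (Nat.card (zpowers x)).Coprime (Nat.card O) := by
      obtain ⟨k, hk⟩ := IsPGroup.iff_card.1 hOp
      rw [hk, Nat.card_zpowers]
      exact (Nat.coprime_two_right.2 hxodd).pow_right k
    have hle : (zpowers x).map (MulAut.conj t₀).toMonoidHom ≤ O ⊔ zpowers x := by
      rw [MonoidHom.map_zpowers, zpowers_le]
      have h1 : π (t₀ * x * t₀⁻¹ * x) = 1 := by
        rw [map_mul, map_mul, map_mul, map_inv, hπx, ht₀, hyinv, inv_mul_cancel]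
      have := mul_mem (mem_sup_left ((QuotientGroup.eq_one_iff _).1 h1) : _ ∈ O ⊔ zpowers x)
        (mem_sup_right (inv_mem (mem_zpowers x)))
      simpa using this
    obtain ⟨n, hn, hne⟩ := Cfsg.Agent.Coprime.exists_conj_of_le_sup
      (fun z _ => by rw [normalizer_eq_top_iff.2 (inferInstance : O.Normal)]; exact mem_top z) hle
      (card_map_of_injective (MulEquiv.injective _)) hcopx (Or.inl inferInstance)
    obtain ⟨_, hz, hze⟩ :=
      (hne ▸ ⟨x, mem_zpowers x, rfl⟩ :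
        MulAut.conj t₀ x ∈ (zpowers x).map (MulAut.conj n).toMonoidHom)
    obtain ⟨k, rfl⟩ := mem_zpowers_iff.1 hz
    set s := n⁻¹ * t₀ with hs
    have hsx : s * x * s⁻¹ = x ^ k := by
      have hze' : n * x ^ k * n⁻¹ = t₀ * x * t₀⁻¹ := hze
      calc s * x * s⁻¹ = n⁻¹ * (t₀ * x * t₀⁻¹) * n := by rw [hs]; group
        _ = x ^ k := by rw [← hze']; group
    have hπn : π n = 1 := (QuotientGroup.eq_one_iff n).2 hn
    have hπs : π (s * x * s⁻¹ * x) = 1 := by
      rw [hs, map_mul, map_mul, map_mul, map_inv, map_mul, map_inv, hπn, inv_one, one_mul, hπx,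
        ht₀, hyinv, inv_mul_cancel]
    have hmem : s * x * s⁻¹ * x ∈ zpowers x := by
      rw [hsx]; exact mul_mem (zpow_mem (mem_zpowers x) k) (mem_zpowers x)
    have hone : s * x * s⁻¹ * x = 1 := by
      have h1 := Subgroup.inf_eq_bot_of_coprime hcopx
      have : s * x * s⁻¹ * x ∈ zpowers x ⊓ O := ⟨hmem, (QuotientGroup.eq_one_iff _).1 hπs⟩
      rw [h1, mem_bot] at this
      exact this
    refine h x (fun e => hy1 ?_) hxodd (isConj_iff.2 ⟨s, eq_inv_of_mul_eq_one_left hone⟩)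
    rw [← hπx, e, map_one]
  · intro hP x hx1 hodd hreal
    obtain ⟨g, hg⟩ := isConj_iff.1 hreal
    obtain ⟨a, m, hm, hgm⟩ := Nat.exists_eq_two_pow_mul_odd (orderOf_pos g).ne'
    obtain ⟨l, rfl⟩ := hm
    set t := g ^ (2 * l + 1) with ht
    have hsq : Commute (g * g) x := by
      have h2 : g * x⁻¹ * g⁻¹ = x := by
        have := congrArg (·⁻¹) hg
        simpa [mul_assoc] using this
      show g * g * x = x * (g * g)
      calc g * g * x = g * (g * x * g⁻¹) * g⁻¹ * (g * g) := by group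
        _ = _ := by rw [hg, h2]
    have htx : t * x * t⁻¹ = x⁻¹ := by
      have hc : Commute (g ^ (2 * l)) x := by rw [pow_mul, pow_two]; exact hsq.pow_left l
      calc t * x * t⁻¹ = g * (g ^ (2 * l) * x) * (g ^ (2 * l))⁻¹ * g⁻¹ := by
            rw [ht, pow_succ']; group
        _ = g * x * g⁻¹ := by rw [hc.eq]; group
        _ = x⁻¹ := hg
    have ht2 : t ^ 2 ^ a = 1 := by rw [ht, ← pow_mul, mul_comm, ← hgm, pow_orderOf_eq_one]
    have htz : IsPGroup 2 (zpowers t) := by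
      intro z
      refine ⟨a, Subtype.ext ?_⟩
      obtain ⟨k, hk⟩ := mem_zpowers_iff.1 z.2
      rw [SubmonoidClass.coe_pow, ← hk, ← zpow_natCast, ← zpow_mul, mul_comm, zpow_mul,
        zpow_natCast, ht2, one_zpow, OneMemClass.coe_one]
    have htP : t ∈ (P : Subgroup G) :=
      (P.is_maximal' (htz.to_sup_of_normal_right P.isPGroup') le_sup_right) ▸
        mem_sup_left (mem_zpowers t)
    have hmem : x⁻¹ * x⁻¹ ∈ (P : Subgroup G) := by
      have := mul_mem htP (hP.conj_mem _ (inv_mem htP) x)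
      rw [show t * (x * t⁻¹ * x⁻¹) = (t * x * t⁻¹) * x⁻¹ by group, htx] at this
      exact this
    obtain ⟨j, hj⟩ := P.isPGroup' ⟨_, hmem⟩
    have h1 : x ^ (2 * 2 ^ j) = 1 := by
      have : (x⁻¹ * x⁻¹) ^ 2 ^ j = 1 := congrArg Subtype.val hj
      rw [← pow_two, ← pow_mul, inv_pow, inv_eq_one] at this
      exact this
    have h2 := pow_gcd_eq_one.2 ⟨h1, pow_orderOf_eq_one x⟩
    rw [← pow_succ', ((Nat.coprime_two_left.2 hodd).pow_left (j + 1)), pow_one] at h2
    exact hx1 h2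

end Cfsg.Agent.H72
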