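import Mathlib.GroupTheory.Sylow
import Mathlib.GroupTheory.PGroup
import Mathlib.GroupTheory.Perm.Cycle.Type
import Mathlib.GroupTheory.GroupAction.ConjAct
import Mathlib.GroupTheory.Abelianization.Defs
import Mathlib.Tactic
import Cfsg.Prelude.Def_LocalStructure
import Cfsg.Agent.Cores.PCore
import Cfsg.Agent.H27.RealElements

/-! Several short statements. -/

set_option autoImplicit false

namespace Cfsg.Agent.H72

open Subgroup
open scoped commutatorElement

variable {G : Type*} [Group G]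

theorem mem_pPrimeCore_of_translation [Finite G] {p : ℕ} [Fact p.Prime] (d : G)
    (h : ∀ g : G, (orderOf g).Coprime p → (orderOf (d * g)).Coprime p) :
    d ∈ Cfsg.pPrimeCore p G := by
  let D : Submonoid G :=
    { carrier := {d | ∀ g : G, (orderOf g).Coprime p → (orderOf (d * g)).Coprime p}
      one_mem' := fun g hg => by simpa using hg
      mul_mem' := fun {a b} ha hb g hg => by rw [mul_assoc]; exact ha _ (hb g hg) }
  let N : Subgroup G :=
    { D with
      inv_mem' := fun {a} ha => by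
        have e : a⁻¹ = a ^ (orderOf a - 1) := by
          refine inv_eq_of_mul_eq_one_right ?_
          rw [← pow_succ', Nat.sub_add_cancel (orderOf_pos a), pow_orderOf_eq_one]
        rw [e]; exact pow_mem (show a ∈ D from ha) _ }
  have hn : N.Normal := ⟨fun a ha x g hg => by
    have h1 := ha (x⁻¹ * g * x) (by
      rw [show x⁻¹ * g * x = MulAut.conj x⁻¹ g by simp [mul_assoc], MulEquiv.orderOf_eq]; exact hg)
    rw [show x * a * x⁻¹ * g = MulAut.conj x (a * (x⁻¹ * g * x)) by simp [mul_assoc],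
      MulEquiv.orderOf_eq]
    exact h1⟩
  have hord : (Nat.card N).Coprime p := by
    rw [Nat.coprime_comm, (Fact.out : p.Prime).coprime_iff_not_dvd]
    intro hdvd
    obtain ⟨x, hx⟩ := exists_prime_orderOf_dvd_card' (G := N) p hdvd
    have h1 := x.2 1 (by simp)
    rw [mul_one, Subgroup.orderOf_coe, hx, Nat.coprime_self] at h1
    exact (Fact.out : p.Prime).ne_one h1
  exact Cfsg.Agent.Cores.le_pPrimeCore hord (show d ∈ N from h)

theorem pClosed_ti [Finite G] [IsSimpleGroup G] {p : ℕ} [Fact p.Prime] (hnc : ¬ Cfsg.IsPClosed p G)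
    (hsub : ∀ H : Subgroup G, H ≠ ⊤ → Cfsg.IsPClosed p ↥H) :
    (∀ P Q : Sylow p G, P ≠ Q → (P : Subgroup G) ⊓ (Q : Subgroup G) = ⊥) ∧
      ∀ (P : Sylow p G) (R : Subgroup G), R ≤ P → R ≠ ⊥ →
        Subgroup.normalizer (R : Set G) ≤ Subgroup.normalizer ((P : Subgroup G) : Set G) := by
  have key : ∀ n, ∀ P Q : Sylow p G, (P : Subgroup G).index * 0 = 0 →
      Nat.card G - Nat.card ((P : Subgroup G) ⊓ Q : Subgroup G) = n → P ≠ Q →
      (P : Subgroup G) ⊓ (Q : Subgroup G) = ⊥ := by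
    intro n
    induction n using Nat.strong_induction_on with
    | _ n ih =>
    intro P Q _ hn hne
    by_contra hD
    set D := (P : Subgroup G) ⊓ (Q : Subgroup G) with hDdef
    have hDP : D < P := lt_of_le_of_ne inf_le_left (fun h => hne (Sylow.ext
      (P.is_maximal' Q.isPGroup' (h ▸ inf_le_right)).symm))
    have hDQ : D < Q := lt_of_le_of_ne inf_le_right (fun h => hne (Sylow.ext
      (Q.is_maximal' P.isPGroup' (h ▸ inf_le_left))))
    have hN : normalizer (D : Set G) ≠ ⊤ := by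
      intro h
      rcases (normalizer_eq_top_iff.1 h).eq_bot_or_eq_top with h1 | h1
      · exact hD h1
      · exact (lt_of_lt_of_le hDP le_top).ne h1
    obtain ⟨S⟩ : Nonempty (Sylow p (normalizer (D : Set G))) := inferInstance
    have hSn : (S : Subgroup (normalizer (D : Set G))).Normal := hsub _ hN S
    have hgrow : ∀ X : Sylow p G, D < X → ∃ x ∈ (X : Subgroup G), x ∉ D ∧
        x ∈ normalizer (D : Set G) := by
      intro X hX
      have : Group.IsNilpotent (X : Subgroup G) := X.isPGroup'.isNilpotent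
      have hlt : D.subgroupOf (X : Subgroup G) < ⊤ := by
        rw [lt_top_iff_ne_top]
        intro h
        exact not_le_of_gt hX (subgroupOf_eq_top.1 h)
      obtain ⟨x, hx, hx'⟩ := SetLike.exists_of_lt
        (normalizerCondition_of_isNilpotent _ hlt)
      refine ⟨x, x.2, fun h => hx' h, ?_⟩
      rw [mem_normalizer_iff] at hx ⊢
      intro y
      constructor
      · intro hy
        exact (hx ⟨y, hX.le hy⟩).1 hy
      · intro hy
        have hyX : y ∈ (X : Subgroup G) := by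
          have := mul_mem (mul_mem (inv_mem x.2) (hX.le hy)) x.2
          simpa [mul_assoc] using this
        exact (hx ⟨y, hyX⟩).2 hy
    have hSall : ∀ x ∈ normalizer (D : Set G), (∃ X : Sylow p G, x ∈ (X : Subgroup G)) →
        x ∈ (S : Subgroup (normalizer (D : Set G))).map (normalizer (D : Set G)).subtype := by
      rintro x hx ⟨X, hxX⟩
      have hX : IsPGroup p ((X : Subgroup G).subgroupOf (normalizer (D : Set G))) :=
        X.isPGroup'.comap_subtype
      have hsup := S.is_maximal' (hX.to_sup_of_normal_right S.isPGroup') le_sup_right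
      exact ⟨⟨x, hx⟩, hsup ▸ mem_sup_left (show (⟨x, hx⟩ : normalizer (D : Set G)) ∈
        (X : Subgroup G).subgroupOf (normalizer (D : Set G)) from hxX), rfl⟩
    have hS : IsPGroup p ((S : Subgroup _).map (normalizer (D : Set G)).subtype) := S.isPGroup'.map _
    obtain ⟨R, hR⟩ := hS.exists_le_sylow
    have big : ∀ X : Sylow p G, D < X → X = R := by
      intro X hX
      by_contra hXR
      obtain ⟨x, hxX, hxD, hxN⟩ := hgrow X hX
      have hlt : D < (X : Subgroup G) ⊓ R := by
        refine SetLike.lt_iff_le_and_exists.2 ⟨le_inf hX.le ?_, x,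
          mem_inf.2 ⟨hxX, hR (hSall x hxN ⟨X, hxX⟩)⟩, hxD⟩
        exact fun y hy => hR (hSall y (le_normalizer hy) ⟨X, hX.le hy⟩)
      have hc : Nat.card D < Nat.card ((X : Subgroup G) ⊓ R : Subgroup G) :=
        lt_of_not_ge fun hle => hlt.ne (Subgroup.eq_of_le_of_card_ge hlt.le hle)
      have hle : Nat.card ((X : Subgroup G) ⊓ R : Subgroup G) ≤ Nat.card G :=
        Nat.le_of_dvd Nat.card_pos (card_subgroup_dvd_card _)
      have := ih _ (by omega) X R (mul_zero _) rfl hXR
      rw [this] at hlt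
      exact not_lt_bot hlt
    exact hne ((big P hDP).trans (big Q hDQ).symm)
  have hti : ∀ P Q : Sylow p G, P ≠ Q → (P : Subgroup G) ⊓ (Q : Subgroup G) = ⊥ :=
    fun P Q h => key _ P Q (mul_zero _) rfl h
  refine ⟨hti, fun P R hR hne g hg => Sylow.smul_eq_iff_mem_normalizer.1 ?_⟩
  by_contra hgP
  refine hne (le_bot_iff.1 ?_)
  rw [← hti _ _ hgP]
  refine le_inf (fun x hx => ?_) hR
  rw [Sylow.coe_subgroup_smul, Subgroup.mem_pointwise_smul_iff_inv_smul_mem]
  have := (mem_normalizer_iff.1 (inv_mem hg) x).1 hx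
  exact hR (by simpa using this)

theorem normalizerPStable_subgroup [Finite G] {p : ℕ} (hst : Cfsg.IsNormalizerPStable p G)
    (H : Subgroup G) : Cfsg.IsNormalizerPStable p ↥H := by
  intro P hP g hg hcomm
  set P' : Subgroup G := P.map H.subtype with hP'
  set N := normalizer (P : Set H)
  set N' := normalizer (P' : Set G)
  set C := centralizer (P : Set H)
  set C' := centralizer (P' : Set G)
  have hle : N.map H.subtype ≤ N' := by
    rintro _ ⟨x, hx, rfl⟩
    show (x : G) ∈ normalizer (P' : Set G)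
    rw [mem_normalizer_iff]
    intro y
    constructor
    · rintro ⟨z, hz, rfl⟩
      exact ⟨x * z * x⁻¹, (mem_normalizer_iff.1 hx z).1 hz, rfl⟩
    · rintro ⟨z, hz, hzy⟩
      refine ⟨x⁻¹ * z * x, ?_, ?_⟩
      · have := (mem_normalizer_iff.1 (inv_mem hx) z).1 hz
        simpa using this
      · simp only [map_mul, map_inv, hzy]; simp [mul_assoc]
  have hgN' : (g : G) ∈ N' := hle ⟨g, hg, rfl⟩
  have hcomm' : ⁅⁅P', zpowers (g : G)⁆, zpowers (g : G)⁆ = ⊥ := by
    have e : zpowers (g : G) = (zpowers g).map H.subtype := (MonoidHom.map_zpowers H.subtype g).symm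
    rw [e, hP', ← map_commutator, ← map_commutator, hcomm, Subgroup.map_bot]
  let ι₀ : N →* N' := ((H.subtype.comp N.subtype).codRestrict N' fun x => hle ⟨x, x.2, rfl⟩)
  let ι : (N ⧸ C.subgroupOf N) →* (N' ⧸ C'.subgroupOf N') :=
    QuotientGroup.map _ _ ι₀ (by
      intro x hx
      rw [mem_comap, mem_subgroupOf]
      rw [mem_subgroupOf] at hx
      refine mem_centralizer_iff.2 ?_
      rintro _ ⟨z, hz, rfl⟩
      exact congrArg Subtype.val (mem_centralizer_iff.1 hx z hz))
  have hinj : Function.Injective ι := by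
    rw [injective_iff_map_eq_one]
    intro x
    induction x using QuotientGroup.induction_on with
    | H x =>
      intro hx
      rw [QuotientGroup.eq_one_iff, mem_subgroupOf, mem_centralizer_iff]
      intro z hz
      have h1 : ι₀ x ∈ C'.subgroupOf N' := (QuotientGroup.eq_one_iff (ι₀ x)).1 hx
      rw [mem_subgroupOf] at h1
      exact Subtype.ext (mem_centralizer_iff.1 h1 (z : G) ⟨z, hz, rfl⟩)
  have hmem : ι (QuotientGroup.mk ⟨g, hg⟩) ∈ Cfsg.pCore p (N' ⧸ C'.subgroupOf N') :=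
    hst P' (hP.map _) (g : G) hgN' hcomm'
  have hn : ((Cfsg.pCore p (N' ⧸ C'.subgroupOf N')).comap ι).Normal := Normal.comap inferInstance ι
  exact Cfsg.Agent.Cores.le_pCore
    (Cfsg.Agent.Cores.pCore_isPGroup.comap_of_injective ι hinj) hmem

theorem commutator_hom_spec [Finite G] (A : Subgroup G) [A.Normal] (hA : IsMulCommutative A) (x : G)
    (hgen : A ⊔ Subgroup.zpowers x = ⊤) :
    (∀ a ∈ A, x * a * x⁻¹ * a⁻¹ ∈ commutator G) ∧
    (∀ c ∈ commutator G, ∃ a ∈ A, x * a * x⁻¹ * a⁻¹ = c) ∧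
    (∀ a ∈ A, ∀ b ∈ A, x * (a * b) * x⁻¹ * (a * b)⁻¹ =
      (x * a * x⁻¹ * a⁻¹) * (x * b * x⁻¹ * b⁻¹)) ∧
    Nat.card (commutator G) * Nat.card ↥(A ⊓ Subgroup.centralizer ({x} : Set G)) = Nat.card A := by
  have hc : ∀ a ∈ A, ∀ b ∈ A, a * b = b * a := fun a ha b hb =>
    congrArg Subtype.val (hA.is_comm.comm ⟨a, ha⟩ ⟨b, hb⟩)
  have hxA : ∀ a ∈ A, x * a * x⁻¹ ∈ A := fun a ha => Normal.conj_mem ‹_› a ha x
  have hmul : ∀ a ∈ A, ∀ b ∈ A, x * (a * b) * x⁻¹ * (a * b)⁻¹ =
      (x * a * x⁻¹ * a⁻¹) * (x * b * x⁻¹ * b⁻¹) := by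
    intro a ha b hb
    calc x * (a * b) * x⁻¹ * (a * b)⁻¹ = (x * a * x⁻¹) * ((x * b * x⁻¹ * b⁻¹) * a⁻¹) := by group
      _ = (x * a * x⁻¹) * (a⁻¹ * (x * b * x⁻¹ * b⁻¹)) := by
          rw [hc _ (A.mul_mem (hxA b hb) (A.inv_mem hb)) _ (A.inv_mem ha)]
      _ = _ := by group
  let f : A →* G :=
    { toFun := fun a => x * a * x⁻¹ * (a : G)⁻¹
      map_one' := by simp
      map_mul' := fun a b => by simpa using hmul a a.2 b b.2 }
  have hf1 : ∀ a ∈ A, x * a * x⁻¹ * a⁻¹ ∈ commutator G := fun a _ =>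
    commutator_mem_commutator (H₁ := ⊤) (H₂ := ⊤) (mem_top x) (mem_top a)
  have hfA : ∀ c ∈ f.range, c ∈ A := by
    rintro c ⟨a, rfl⟩
    exact A.mul_mem (hxA a a.2) (A.inv_mem a.2)
  have hn : f.range.Normal := by
    refine normalizer_eq_top_iff.1 (top_le_iff.1 ?_)
    rw [← hgen]
    refine sup_le (fun a ha => mem_normalizer_iff.2 fun c => ?_) (zpowers_le.2 ?_)
    · constructor
      · intro hcm
        rw [hc a ha c (hfA c hcm), mul_inv_cancel_right]
        exact hcm
      · intro hcm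
        have h2 := hfA _ hcm
        have : c ∈ A := by simpa [mul_assoc] using A.mul_mem (A.mul_mem (A.inv_mem ha) h2) ha
        rwa [hc a ha c this, mul_inv_cancel_right] at hcm
    · have hfwd : ∀ c ∈ f.range, x * c * x⁻¹ ∈ f.range := by
        rintro _ ⟨b, rfl⟩
        exact ⟨⟨x * b * x⁻¹, hxA b b.2⟩, by simp [f, mul_assoc]⟩
      have hbij : Function.Bijective (fun c : f.range => (⟨x * c * x⁻¹, hfwd c c.2⟩ : f.range)) :=
        Finite.injective_iff_bijective.1 (fun a b h => Subtype.ext (by simpa using congrArg Subtype.val h))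
      refine mem_normalizer_iff.2 fun c => ⟨hfwd c, fun hcm => ?_⟩
      obtain ⟨d, hd⟩ := hbij.2 ⟨_, hcm⟩
      have : (d : G) = c := by simpa using congrArg Subtype.val hd
      exact this ▸ d.2
  have hle : commutator G ≤ f.range := by
    let π := QuotientGroup.mk' f.range
    have hx : ∀ a ∈ A, Commute (π x) (π a) := fun a ha => by
      have h1 : π (x * a * x⁻¹ * a⁻¹) = 1 := (QuotientGroup.eq_one_iff _).2 ⟨⟨a, ha⟩, rfl⟩
      rw [map_mul, map_mul, map_mul, map_inv, map_inv, mul_inv_eq_one, mul_inv_eq_iff_eq_mul] at h1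
      exact h1
    have hspan : ∀ g : G, ∃ a ∈ A, ∃ k : ℤ, g = a * x ^ k := fun g => by
      have hg : g ∈ A ⊔ zpowers x := hgen ▸ mem_top g
      rw [mem_sup_of_normal_left] at hg
      obtain ⟨a, ha, z, hz, rfl⟩ := hg
      obtain ⟨k, rfl⟩ := mem_zpowers_iff.1 hz
      exact ⟨a, ha, k, rfl⟩
    rw [_root_.commutator_def, commutator_le]
    intro g _ h _
    obtain ⟨a, ha, k, rfl⟩ := hspan g
    obtain ⟨b, hb, l, rfl⟩ := hspan h
    refine (QuotientGroup.eq_one_iff _).1 (?_ : π ⁅a * x ^ k, b * x ^ l⁆ = 1)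
    rw [map_commutatorElement, commutatorElement_eq_one_iff_commute]
    simp only [map_mul, map_zpow]
    refine Commute.mul_left (Commute.mul_right ?_ ?_) (Commute.mul_right ?_ ?_)
    · show π a * π b = π b * π a
      rw [← map_mul, ← map_mul, hc a ha b hb]
    · exact ((hx a ha).zpow_left l).symm
    · exact (hx b hb).zpow_left k
    · exact (Commute.refl (π x)).zpow_zpow k l
  have hrange : f.range = commutator G :=
    le_antisymm (by rintro _ ⟨a, rfl⟩; exact hf1 a a.2) hle
  have hker : f.ker = (A ⊓ centralizer ({x} : Set G)).subgroupOf A := by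
    ext a
    rw [MonoidHom.mem_ker, mem_subgroupOf, mem_inf, mem_centralizer_singleton_iff]
    constructor
    · intro h
      refine ⟨a.2, ?_⟩
      have h' : x * (a : G) * x⁻¹ * (a : G)⁻¹ = 1 := h
      rw [mul_inv_eq_one, mul_inv_eq_iff_eq_mul] at h'
      exact h'.symm
    · rintro ⟨-, h⟩
      show x * (a : G) * x⁻¹ * (a : G)⁻¹ = 1
      rw [mul_inv_eq_one, mul_inv_eq_iff_eq_mul]
      exact h.symm
  refine ⟨hf1, fun c hcm => ?_, hmul, ?_⟩
  · obtain ⟨a, ha⟩ := hle hcm
    exact ⟨a, a.2, ha⟩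
  · rw [← hrange, ← Nat.card_congr (subgroupOfEquivOfLe (inf_le_left :
      A ⊓ centralizer ({x} : Set G) ≤ A)).toEquiv, ← hker, ← Subgroup.index_ker f, mul_comm]
    exact f.ker.card_mul_index

theorem real_element_spec [Finite G] (x : G) (hx : IsConj x x⁻¹) :
    (∃ t : G, (∃ j : ℕ, orderOf t = 2 ^ j) ∧ t * x * t⁻¹ = x⁻¹) ∧
    (Odd (Subgroup.centralizer ({x} : Set G)).index → x ^ 2 = 1) ∧
    ∀ (N : Subgroup G) [N.Normal], Odd N.index →
      ∃ hxN : x ∈ N, IsConj (⟨x, hxN⟩ : N) (⟨x, hxN⟩ : N)⁻¹ := by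
  obtain ⟨g, hg⟩ := isConj_iff.1 hx
  obtain ⟨a, m, hm, hgm⟩ := Nat.exists_eq_two_pow_mul_odd (orderOf_pos g).ne'
  set t := g ^ m with ht
  have ht2 : t ^ 2 ^ a = 1 := by rw [ht, ← pow_mul, mul_comm, ← hgm, pow_orderOf_eq_one]
  have htx : t * x * t⁻¹ = x⁻¹ := by
    obtain ⟨l, rfl⟩ := hm
    have hsq : Commute (g ^ (2 * l)) x := by
      rw [pow_mul, pow_two]
      exact (Cfsg.Agent.H27.RealElements.sq_commute hg).pow_left l
    calc t * x * t⁻¹ = g * (g ^ (2 * l) * x) * (g ^ (2 * l))⁻¹ * g⁻¹ := by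
          rw [ht, pow_succ']; group
      _ = g * x * g⁻¹ := by rw [hsq.eq]; group
      _ = x⁻¹ := hg
  have hto : ∃ j : ℕ, orderOf t = 2 ^ j := by
    obtain ⟨j, -, hj⟩ := (Nat.dvd_prime_pow Nat.prime_two).1 (orderOf_dvd_of_pow_eq_one ht2)
    exact ⟨j, hj⟩
  refine ⟨⟨t, hto, htx⟩, fun hodd => ?_, fun N _ hN => ?_⟩
  · classical
    have : Fact (Nat.Prime 2) := ⟨Nat.prime_two⟩
    let α := {y : G // IsConj x y}
    have hi : ∀ {y : G}, IsConj x y → IsConj x y⁻¹ := by
      intro y hy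
      obtain ⟨c, hc⟩ := isConj_iff.1 hy
      refine hx.trans (isConj_iff.2 ⟨c, ?_⟩)
      rw [← hc]; group
    let σ : Equiv.Perm α := Equiv.mk (fun y => ⟨(y : G)⁻¹, hi y.2⟩) (fun y => ⟨(y : G)⁻¹, hi y.2⟩)
      (fun y => Subtype.ext (inv_inv _)) (fun y => Subtype.ext (inv_inv _))
    have := Fintype.ofFinite α
    have hcard : Nat.card α = (centralizer ({x} : Set G)).index := by
      let F : G ⧸ centralizer ({x} : Set G) → α := Quotient.lift
        (fun c : G => (⟨c * x * c⁻¹, isConj_iff.2 ⟨c, rfl⟩⟩ : α))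
        (fun c d h => Subtype.ext (by
          have h' : c⁻¹ * d ∈ centralizer ({x} : Set G) := QuotientGroup.leftRel_apply.1 h
          rw [mem_centralizer_singleton_iff] at h'
          calc c * x * c⁻¹ = c * (x * (c⁻¹ * d)) * d⁻¹ := by group
            _ = d * x * d⁻¹ := by rw [← h']; group))
      refine (Nat.card_congr (Equiv.ofBijective F ⟨?_, ?_⟩)).symm
      · intro u v
        induction u using QuotientGroup.induction_on with
        | H c =>
          induction v using QuotientGroup.induction_on with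
          | H d =>
            intro h
            have h' : c * x * c⁻¹ = d * x * d⁻¹ := congrArg Subtype.val h
            rw [QuotientGroup.eq, mem_centralizer_singleton_iff]
            calc c⁻¹ * d * x = c⁻¹ * (d * x * d⁻¹) * d := by group
              _ = x * (c⁻¹ * d) := by rw [← h']; group
      · intro y
        obtain ⟨c, hc⟩ := isConj_iff.1 y.2
        exact ⟨QuotientGroup.mk c, Subtype.ext hc⟩
    have hnd : ¬ 2 ∣ Fintype.card α := by
      rw [← Nat.card_eq_fintype_card, hcard]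
      exact fun h => (Nat.not_even_iff_odd.2 hodd) (even_iff_two_dvd.2 h)
    obtain ⟨y, hy⟩ := Equiv.Perm.exists_fixed_point_of_prime (p := 2) (n := 1) hnd (σ := σ)
      (by rw [pow_one, pow_two]; ext u; simp [σ])
    obtain ⟨c, hc⟩ := isConj_iff.1 y.2
    have hy' : (y : G)⁻¹ = y := congrArg Subtype.val hy
    have hy2 : (y : G) ^ 2 = 1 := by
      rw [pow_two]; nth_rewrite 1 [← hy']; exact inv_mul_cancel _
    rw [← hc, conj_pow] at hy2
    exact mul_eq_left.1 (mul_inv_eq_one.1 hy2)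
  · have h2 : ∀ z : G, (∃ j : ℕ, z ^ 2 ^ j = 1) → z ∈ N := by
      rintro z ⟨j, hj⟩
      rw [← QuotientGroup.eq_one_iff]
      have h1 : (z : G ⧸ N) ^ 2 ^ j = 1 := by rw [← QuotientGroup.mk_pow, hj, QuotientGroup.mk_one]
      have h2 : (z : G ⧸ N) ^ N.index = 1 := by rw [Subgroup.index]; exact pow_card_eq_one'
      have := pow_gcd_eq_one.2 ⟨h1, h2⟩
      rwa [(Nat.coprime_two_left.2 hN).pow_left j, pow_one] at this
    have htN : t ∈ N := h2 t ⟨a, ht2⟩
    have hxN : x ∈ N := by
      rw [← QuotientGroup.eq_one_iff]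
      have h1 := congrArg (QuotientGroup.mk' N) htx
      rw [map_mul, map_mul, map_inv, map_inv] at h1
      simp only [QuotientGroup.mk'_apply, (QuotientGroup.eq_one_iff t).2 htN, inv_one, one_mul,
        mul_one] at h1
      have h2' : (x : G ⧸ N) ^ 2 = 1 := by rw [pow_two]; nth_rewrite 1 [h1]; exact inv_mul_cancel _
      have h3 : (x : G ⧸ N) ^ N.index = 1 := by rw [Subgroup.index]; exact pow_card_eq_one'
      have := pow_gcd_eq_one.2 ⟨h2', h3⟩
      rwa [Nat.coprime_two_left.2 hN, pow_one] at this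
    exact ⟨hxN, isConj_iff.2 ⟨⟨t, htN⟩, Subtype.ext htx⟩⟩

end Cfsg.Agent.H72
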