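import Cfsg.Agent.H72.AbelianIndexP
import Mathlib.GroupTheory.Nilpotent

/-!
Soft subgroups of p-groups: abelian, self-centralizing, of index p in the normalizer.
-/

set_option autoImplicit false
set_option linter.style.haveILetI false

namespace Cfsg.Agent.H72.Soft

open Subgroup
open scoped commutatorElement

universe u

variable {P : Type u} [Group P] {p : ℕ}

/-- A soft subgroup. -/
structure IsSoft (p : ℕ) (E : Subgroup P) : Prop where
  comm : IsMulCommutative E
  cent : centralizer (E : Set P) ≤ E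
  idx : E.relIndex (normalizer (E : Set P)) = p

theorem mem_normalizer_of_conj_le [Finite P] {H : Subgroup P} {g : P} (h : ∀ x ∈ H, g * x * g⁻¹ ∈ H) :
    g ∈ normalizer (H : Set P) := by
  rw [mem_normalizer_iff_map_conj_eq]
  exact eq_of_le_of_card_ge (by rintro _ ⟨x, hx, rfl⟩; exact h x hx)
    (Subgroup.card_map_of_injective (MulAut.conj g).injective).ge

theorem eq_of_lt_of_relIndex [Finite P] [hp : Fact p.Prime] {H T L : Subgroup P} (hHT : H < T) (hTL : T ≤ L)
    (h : H.relIndex L = p) : T = L := by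
  have h1 := Subgroup.relIndex_mul_relIndex H T L hHT.le hTL
  rw [h] at h1
  rcases hp.out.eq_one_or_self_of_dvd _ (Dvd.intro _ h1) with h2 | h2
  · exact absurd (Subgroup.relIndex_eq_one.1 h2) hHT.not_ge
  · rw [h2] at h1
    exact le_antisymm hTL (Subgroup.relIndex_eq_one.1 (by
      have := hp.out.pos; exact Nat.eq_of_mul_eq_mul_left this (h1.trans (mul_one p).symm)))

theorem normalizer_le_of_lt [Finite P] [hp : Fact p.Prime] (hP : IsPGroup p P) {H K : Subgroup P}
    (h : H.relIndex (normalizer (H : Set P)) = p) (hlt : H < K) : normalizer (H : Set P) ≤ K := by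
  obtain ⟨x, hxK, hxH, hxN⟩ := PGroups.exists_mem_notMem_normalizer hP hlt
  have hT : H < K ⊓ normalizer (H : Set P) :=
    lt_of_le_of_ne (le_inf hlt.le le_normalizer) fun e => hxH (e ▸ ⟨hxK, hxN⟩)
  exact (eq_of_lt_of_relIndex hT inf_le_right h).symm.le.trans inf_le_left

variable [Finite P] [hp : Fact p.Prime] {E : Subgroup P}

theorem IsSoft.lt_normalizer (h : IsSoft p E) : E < normalizer (E : Set P) :=
  lt_of_le_of_ne le_normalizer fun e => hp.out.one_lt.ne (by
    rw [← h.idx, ← e, Subgroup.relIndex_self])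

theorem IsSoft.normalizer_not_comm (h : IsSoft p E) :
    ¬ IsMulCommutative ↥(normalizer (E : Set P)) := fun hc =>
  h.lt_normalizer.not_ge fun x hx => h.cent (Subgroup.mem_centralizer_iff.2 fun _ he =>
    PGroups.comm_of_isMulCommutative hc (le_normalizer he) hx)

theorem IsSoft.card_normalizer (h : IsSoft p E) :
    Nat.card ↥(normalizer (E : Set P)) = p * Nat.card E := by
  rw [← Subgroup.relIndex_bot_left, ← Subgroup.relIndex_bot_left E,
    ← Subgroup.relIndex_mul_relIndex ⊥ E _ bot_le h.lt_normalizer.le, h.idx, mul_comm]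

/-- Subgroups containing `E` form a chain once all their normalizer steps have index `p`. -/
theorem chain_of (hP : IsPGroup p P) {K L : Subgroup P}
    (h : (K ⊓ L).relIndex (normalizer ((K ⊓ L : Subgroup P) : Set P)) = p) : K ≤ L ∨ L ≤ K := by
  by_contra hne
  push Not at hne
  have h1 := normalizer_le_of_lt hP h (lt_of_le_not_ge inf_le_left fun h' => hne.1 (h'.trans inf_le_right))
  have h2 := normalizer_le_of_lt hP h (lt_of_le_not_ge inf_le_right fun h' => hne.2 (h'.trans inf_le_left))
  have h3 : normalizer ((K ⊓ L : Subgroup P) : Set P) ≤ K ⊓ L := le_inf h1 h2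
  exact hp.out.one_lt.ne (by rw [← h, Subgroup.relIndex_eq_one.2 h3])

/-- The first step of the tower. -/
theorem first_step (hP : IsPGroup p P) (hE : IsSoft p E) (hne : normalizer (E : Set P) ≠ ⊤) :
    (normalizer (E : Set P)).relIndex (normalizer ((normalizer (E : Set P) : Subgroup P) : Set P)) = p ∧
      (∀ a ∈ normalizer (E : Set P), ∀ b ∈ normalizer (E : Set P), ∀ k ∈ normalizer (E : Set P),
        Commute ⁅a, b⁆ k) ∧
      ∀ [Group.IsNilpotent ↥(normalizer (E : Set P))],
        Group.nilpotencyClass ↥(normalizer (E : Set P)) = 2 := by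
  set N := normalizer (E : Set P) with hNdef
  set N2 := normalizer (N : Set P) with hN2
  have hEN : E ≤ N := le_normalizer
  have hNp : IsPGroup p N := hP.to_subgroup N
  have hna : center N ≠ ⊤ := fun h => hE.normalizer_not_comm ⟨⟨fun a b =>
    (Subgroup.mem_center_iff.1 (h ▸ mem_top b) a)⟩⟩
  have hE' : IsMulCommutative (E.subgroupOf N) := ⟨⟨fun a b => Subtype.ext (Subtype.ext
    (PGroups.comm_of_isMulCommutative hE.comm a.2 b.2))⟩⟩
  have hEi : (E.subgroupOf N).index = p := hE.idx
  obtain ⟨-, hcases⟩ := AbIdx.abelian_index_p p hNp hna _ hE' hEi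
  have himg : ∀ g ∈ N2, (E.map (MulAut.conj g).toMonoidHom) ≤ N ∧
      IsMulCommutative ((E.map (MulAut.conj g).toMonoidHom).subgroupOf N) ∧
      ((E.map (MulAut.conj g).toMonoidHom).subgroupOf N).index = p := by
    intro g hg
    have hle : E.map (MulAut.conj g).toMonoidHom ≤ N :=
      (Subgroup.map_mono hEN).trans (Subgroup.mem_normalizer_iff_map_conj_eq.1 hg).le
    refine ⟨hle, ⟨⟨?_⟩⟩, ?_⟩
    · rintro ⟨⟨a, haN⟩, ha⟩ ⟨⟨b, hbN⟩, hb⟩
      obtain ⟨a', ha', ea⟩ := Subgroup.mem_map.1 (Subgroup.mem_subgroupOf.1 ha)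
      obtain ⟨b', hb', eb⟩ := Subgroup.mem_map.1 (Subgroup.mem_subgroupOf.1 hb)
      refine Subtype.ext (Subtype.ext ?_)
      show a * b = b * a
      rw [show a = _ from ea.symm, show b = _ from eb.symm, ← map_mul,
        PGroups.comm_of_isMulCommutative hE.comm ha' hb', map_mul]
    · have h1 := ((E.map (MulAut.conj g).toMonoidHom).subgroupOf N).card_mul_index
      have h2 := (E.subgroupOf N).card_mul_index
      rw [hEi] at h2
      rw [Nat.card_congr (Subgroup.subgroupOfEquivOfLe hle).toEquiv,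
        Subgroup.card_map_of_injective (MulAut.conj g).injective] at h1
      rw [Nat.card_congr (Subgroup.subgroupOfEquivOfLe hEN).toEquiv, ← h1] at h2
      exact (Nat.eq_of_mul_eq_mul_left Nat.card_pos h2).symm
  obtain ⟨h, hh2, hhN⟩ : ∃ h ∈ N2, h ∉ N := SetLike.exists_of_lt (PGroups.lt_normalizer hP hne)
  have hFne : (E.map (MulAut.conj h).toMonoidHom).subgroupOf N ≠ E.subgroupOf N := fun e => by
    rw [Subgroup.subgroupOf_inj, inf_eq_left.2 (himg h hh2).1, inf_eq_left.2 hEN] at e
    exact hhN (Subgroup.mem_normalizer_iff_map_conj_eq.2 e)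
  obtain ⟨hcard, -, hQ, hnum⟩ := hcases.resolve_right fun hc => hFne (hc.2 _ (himg h hh2).2.1 (himg h hh2).2.2)
  have hNN2 : N ≤ N2 := le_normalizer
  refine ⟨?_, ?_, ?_⟩
  · let f : ↥N2 ⧸ N.subgroupOf N2 → {B : Subgroup N // IsMulCommutative ↥B ∧ B.index = p} :=
      fun q => ⟨(E.map (MulAut.conj (q.out : P)).toMonoidHom).subgroupOf N, (himg _ q.out.2).2⟩
    have hf : Function.Injective f := by
      intro q q' hqq
      have e := congrArg Subtype.val hqq
      simp only [f] at e
      rw [Subgroup.subgroupOf_inj, inf_eq_left.2 (himg _ q.out.2).1, inf_eq_left.2 (himg _ q'.out.2).1] at e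
      rw [← QuotientGroup.out_eq' q, ← QuotientGroup.out_eq' q', QuotientGroup.eq, Subgroup.mem_subgroupOf,
        Subgroup.coe_mul, Subgroup.coe_inv]
      show _ ∈ normalizer (E : Set P)
      refine mem_normalizer_of_conj_le fun x hx => ?_
      have hmem : (MulAut.conj (q'.out : P)).toMonoidHom x ∈ E.map (MulAut.conj (q.out : P)).toMonoidHom :=
        e ▸ mem_map_of_mem _ hx
      obtain ⟨y, hy, hyx⟩ := hmem
      have hyx' : (q.out : P) * y * (q.out : P)⁻¹ = (q'.out : P) * x * (q'.out : P)⁻¹ := hyx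
      have : (q.out : P)⁻¹ * (q'.out : P) * x * ((q.out : P)⁻¹ * (q'.out : P))⁻¹ = y := by
        calc _ = (q.out : P)⁻¹ * ((q'.out : P) * x * (q'.out : P)⁻¹) * (q.out : P) := by group
          _ = (q.out : P)⁻¹ * ((q.out : P) * y * (q.out : P)⁻¹) * (q.out : P) := by rw [hyx']
          _ = y := by group
      rw [this]; exact hy
    have hle : N.relIndex N2 ≤ p + 1 := by
      rw [← hnum, Subgroup.relIndex, Subgroup.index_eq_card]
      exact Nat.card_le_card_of_injective f hf
    obtain ⟨k, hk⟩ := (hP.to_subgroup N2).index (N.subgroupOf N2)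
    have hk0 : k ≠ 0 := fun h0 => hhN (Subgroup.relIndex_eq_one.1 (hk.trans (by rw [h0, pow_zero])) hh2)
    rw [Subgroup.relIndex] at hle ⊢
    rw [hk] at hle ⊢
    have hk1 : k = 1 := by
      by_contra hk1
      have h2 : p ^ 2 ≤ p + 1 := (Nat.pow_le_pow_right hp.out.pos (by omega)).trans hle
      nlinarith [hp.out.two_le]
    rw [hk1, pow_one]
  · intro a ha b hb k hk
    have hc : commutator ↥N ≤ center ↥N := PGroups.le_center_of_card_eq hNp _ hcard
    have := Subgroup.mem_center_iff.1 (hc (Subgroup.commutator_mem_commutator (mem_top (⟨a, ha⟩ : N))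
      (mem_top (⟨b, hb⟩ : N)))) ⟨k, hk⟩
    exact (congrArg Subtype.val this).symm
  · intro _
    have hnt : Nontrivial N := by
      by_contra h0
      rw [not_nontrivial_iff_subsingleton] at h0
      exact hna (Subgroup.eq_top_iff' _ |>.2 fun x => Subgroup.mem_center_iff.2 fun y => Subsingleton.elim _ _)
    rw [Group.nilpotencyClass_eq_quotient_center_plus_one]
    have hq2 : IsMulCommutative (↥N ⧸ center ↥N) := IsPGroup.isMulCommutative_of_card_eq_prime_sq (p := p) hQ
    have hle : Group.nilpotencyClass (↥N ⧸ center ↥N) ≤ 1 := by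
      rw [← Subgroup.upperCentralSeries_eq_top_iff_nilpotencyClass_le, Subgroup.upperCentralSeries_one]
      exact eq_top_iff.2 fun x _ => Subgroup.mem_center_iff.2 fun y => mul_comm' y x
    have hge : Group.nilpotencyClass (↥N ⧸ center ↥N) ≠ 0 := fun h0 => by
      have := Group.nilpotencyClass_zero_iff_subsingleton.1 h0
      rw [Nat.card_unique] at hQ
      nlinarith [hp.out.two_le]
    omega

end Cfsg.Agent.H72.Soft
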