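import Cfsg.Agent.H72.SoftBase

/-!
The normalizer tower of a soft subgroup.
-/

set_option autoImplicit false
set_option linter.style.haveILetI false

namespace Cfsg.Agent.H72.Soft

open Subgroup
open scoped commutatorElement

universe u

variable {P : Type u} [Group P] [Finite P] {p : ℕ} [hp : Fact p.Prime]

/-- The properties of a proper member `K` of the tower of `E`. -/
structure Step (p : ℕ) (E K : Subgroup P) : Prop where
  idx : K.relIndex (normalizer (K : Set P)) = p
  comm : ∀ a ∈ normalizer (E : Set P), ∀ b ∈ normalizer (E : Set P), ∀ k ∈ K, Commute ⁅a, b⁆ k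
  cls : ∀ i : ℕ, Nat.card K = p ^ i * Nat.card E → ∀ [Group.IsNilpotent K],
    Group.nilpotencyClass K = i + 1

theorem conj_mem_of_comm_mem {E D : Subgroup P} (hDE : D ≤ E) {g : P} (h : ∀ e ∈ E, ⁅g, e⁆ ∈ D) :
    g ∈ normalizer (E : Set P) :=
  mem_normalizer_of_conj_le fun e he => by
    have h1 := E.mul_mem (hDE (h e he)) he
    rwa [commutatorElement_def, inv_mul_cancel_right] at h1

/-- If some `g` in `N(E)` outside `E` centralizes `E` modulo `D`, then `N(E)' ≤ D`. -/
theorem comm_mem_of {E : Subgroup P} (hE : IsSoft p E) (D : Subgroup P) [D.Normal] {g : P}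
    (hg : g ∈ normalizer (E : Set P)) (hgE : g ∉ E) (h : ∀ e ∈ E, ⁅g, e⁆ ∈ D) :
    ∀ a ∈ normalizer (E : Set P), ∀ b ∈ normalizer (E : Set P), ⁅a, b⁆ ∈ D := by
  set q := QuotientGroup.mk' D
  have hlt : E < E ⊔ zpowers g := lt_of_le_of_ne le_sup_left fun e =>
    hgE (e ▸ Subgroup.mem_sup_right (mem_zpowers g))
  have htop : E ⊔ zpowers g = normalizer (E : Set P) :=
    eq_of_lt_of_relIndex hlt (sup_le le_normalizer (zpowers_le.2 hg)) hE.idx
  have hab : IsMulCommutative ↥((E ⊔ zpowers g).map q) := by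
    rw [Subgroup.map_sup, MonoidHom.map_zpowers]
    refine PGroups.isMulCommutative_sup_zpowers ⟨⟨?_⟩⟩ (Subgroup.mem_centralizer_iff.2 ?_)
    · rintro ⟨a, ha⟩ ⟨b, hb⟩
      obtain ⟨a', ha', ea⟩ := Subgroup.mem_map.1 ha
      obtain ⟨b', hb', eb⟩ := Subgroup.mem_map.1 hb
      refine Subtype.ext ?_
      show a * b = b * a
      rw [← ea, ← eb, ← map_mul, PGroups.comm_of_isMulCommutative hE.comm ha' hb', map_mul]
    · rintro _ ⟨e, he, rfl⟩
      rw [eq_comm, ← commutatorElement_eq_one_iff_mul_comm, ← map_commutatorElement]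
      exact (QuotientGroup.eq_one_iff _).2 (h e he)
  intro a ha b hb
  rw [← htop] at ha hb
  rw [← QuotientGroup.eq_one_iff]
  show q ⁅a, b⁆ = 1
  rw [map_commutatorElement, commutatorElement_eq_one_iff_mul_comm]
  exact PGroups.comm_of_isMulCommutative hab (mem_map_of_mem q ha) (mem_map_of_mem q hb)

theorem comap_map_mk {E D : Subgroup P} [D.Normal] (h : D ≤ E) :
    (E.map (QuotientGroup.mk' D)).comap (QuotientGroup.mk' D) = E := by
  rw [Subgroup.comap_map_eq, QuotientGroup.ker_mk', sup_eq_left.2 h]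

theorem normalizer_map_mk {E D : Subgroup P} [D.Normal] (h : D ≤ E) :
    normalizer ((E.map (QuotientGroup.mk' D) : Subgroup (P ⧸ D)) : Set (P ⧸ D)) =
      (normalizer (E : Set P)).map (QuotientGroup.mk' D) := by
  have hs := QuotientGroup.mk'_surjective D
  apply Subgroup.comap_injective hs
  rw [Subgroup.comap_normalizer_eq_of_surjective _ hs, comap_map_mk h, comap_map_mk (h.trans le_normalizer)]

theorem relIndex_map_mk {E F D : Subgroup P} [D.Normal] (h : D ≤ E) :
    (E.map (QuotientGroup.mk' D)).relIndex (F.map (QuotientGroup.mk' D)) = E.relIndex F := by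
  rw [← Subgroup.relIndex_comap, comap_map_mk h]

theorem map_lt_map_mk {E F D : Subgroup P} [D.Normal] (h : D ≤ E) (hEF : E < F) :
    E.map (QuotientGroup.mk' D) < F.map (QuotientGroup.mk' D) := by
  refine lt_of_le_of_ne (Subgroup.map_mono hEF.le) fun e => hEF.ne ?_
  rw [← comap_map_mk h, e, comap_map_mk (h.trans hEF.le)]

theorem card_map_mk {E D : Subgroup P} [D.Normal] (h : D ≤ E) :
    Nat.card ↥(E.map (QuotientGroup.mk' D)) * Nat.card D = Nat.card E := by
  rw [← Subgroup.relIndex_ker, QuotientGroup.ker_mk', ← Subgroup.relIndex_bot_left,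
    ← Subgroup.relIndex_bot_left E, mul_comm, Subgroup.relIndex_mul_relIndex _ _ _ bot_le h]

theorem nilpotencyClass_congr {A B : Type*} [Group A] [Group B] (e : A ≃* B) [Group.IsNilpotent A]
    [Group.IsNilpotent B] : Group.nilpotencyClass A = Group.nilpotencyClass B :=
  le_antisymm (Group.nilpotencyClass_le_of_surjective e.symm.toMonoidHom e.symm.surjective)
    (Group.nilpotencyClass_le_of_surjective e.toMonoidHom e.surjective)

/-- Restriction to a subgroup containing the normalizer. -/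
theorem isSoft_subgroupOf {E M : Subgroup P} (hE : IsSoft p E) (hM : normalizer (E : Set P) ≤ M) :
    IsSoft p (E.subgroupOf M) := by
  have hEM : E ≤ M := le_normalizer.trans hM
  refine ⟨⟨⟨fun a b => Subtype.ext (Subtype.ext
    (PGroups.comm_of_isMulCommutative hE.comm a.2 b.2))⟩⟩, fun x hx => ?_, ?_⟩
  · exact hE.cent (Subgroup.mem_centralizer_iff.2 fun e he =>
      congrArg Subtype.val (Subgroup.mem_centralizer_iff.1 hx ⟨e, hEM he⟩ he))
  · rw [← Subgroup.subgroupOf_normalizer_eq hEM, Subgroup.relIndex_subgroupOf hM, hE.idx]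

/-- The quotient of a soft subgroup by `D ≤ E` when `N(E)' ≰ D`. -/
theorem isSoft_map {E D : Subgroup P} [D.Normal] (hE : IsSoft p E) (hDE : D ≤ E)
    (h : ¬ ∀ a ∈ normalizer (E : Set P), ∀ b ∈ normalizer (E : Set P), ⁅a, b⁆ ∈ D) :
    IsSoft p (E.map (QuotientGroup.mk' D)) := by
  refine ⟨⟨⟨?_⟩⟩, fun x hx => ?_, ?_⟩
  · rintro ⟨a, ha⟩ ⟨b, hb⟩
    obtain ⟨a', ha', ea⟩ := Subgroup.mem_map.1 ha
    obtain ⟨b', hb', eb⟩ := Subgroup.mem_map.1 hb
    refine Subtype.ext ?_
    show a * b = b * a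
    rw [← ea, ← eb, ← map_mul, PGroups.comm_of_isMulCommutative hE.comm ha' hb', map_mul]
  · obtain ⟨g, rfl⟩ := QuotientGroup.mk'_surjective D x
    have hc : ∀ e ∈ E, ⁅g, e⁆ ∈ D := fun e he => by
      rw [← QuotientGroup.eq_one_iff]
      show QuotientGroup.mk' D ⁅g, e⁆ = 1
      rw [map_commutatorElement, commutatorElement_eq_one_iff_mul_comm]
      exact (Subgroup.mem_centralizer_iff.1 hx _ (mem_map_of_mem _ he)).symm
    by_contra hg
    exact h (comm_mem_of hE D (conj_mem_of_comm_mem hDE hc) (fun hgE => hg (mem_map_of_mem _ hgE)) hc)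
  · rw [normalizer_map_mk hDE, relIndex_map_mk hDE, hE.idx]

/-- The quotient by `D` with `N(E)' ≤ D` makes `N(E)` soft. -/
theorem isSoft_map_normalizer {E D : Subgroup P} [D.Normal] (hE : IsSoft p E) (hDE : D ≤ E)
    (h : ∀ a ∈ normalizer (E : Set P), ∀ b ∈ normalizer (E : Set P), ⁅a, b⁆ ∈ D)
    (h2 : (normalizer (E : Set P)).relIndex
      (normalizer ((normalizer (E : Set P) : Subgroup P) : Set P)) = p) :
    IsSoft p ((normalizer (E : Set P)).map (QuotientGroup.mk' D)) := by
  have hD1 : D ≤ normalizer (E : Set P) := hDE.trans le_normalizer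
  refine ⟨⟨⟨?_⟩⟩, fun x hx => ?_, ?_⟩
  · rintro ⟨a, ha⟩ ⟨b, hb⟩
    obtain ⟨a', ha', ea⟩ := Subgroup.mem_map.1 ha
    obtain ⟨b', hb', eb⟩ := Subgroup.mem_map.1 hb
    refine Subtype.ext ?_
    show a * b = b * a
    rw [← ea, ← eb, ← commutatorElement_eq_one_iff_mul_comm, ← map_commutatorElement]
    exact (QuotientGroup.eq_one_iff _).2 (h a' ha' b' hb')
  · obtain ⟨g, rfl⟩ := QuotientGroup.mk'_surjective D x
    refine mem_map_of_mem _ (conj_mem_of_comm_mem hDE fun e he => ?_)
    rw [← QuotientGroup.eq_one_iff]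
    show QuotientGroup.mk' D ⁅g, e⁆ = 1
    rw [map_commutatorElement, commutatorElement_eq_one_iff_mul_comm]
    exact (Subgroup.mem_centralizer_iff.1 hx _ (mem_map_of_mem _ (le_normalizer he))).symm
  · rw [normalizer_map_mk hD1, relIndex_map_mk hD1, h2]

theorem step_aux : ∀ (n : ℕ) (P : Type u) [Group P] [Finite P], Nat.card P ≤ n → IsPGroup p P →
    ∀ E : Subgroup P, IsSoft p E → ∀ (m : ℕ) (K : Subgroup P), Nat.card K ≤ m → E < K → K ≠ ⊤ →
      Step p E K := by
  intro n
  induction n with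
  | zero => intro P _ _ hc; exact absurd hc (Nat.not_le.2 Nat.card_pos)
  | succ n ihn =>
  intro P _ _ hcard hP E hE m
  induction m with
  | zero => intro K hc; exact absurd hc (Nat.not_le.2 Nat.card_pos)
  | succ m ihm =>
  intro K hKc hEK hKtop
  set N1 := normalizer (E : Set P) with hN1def
  have hN1K : N1 ≤ K := normalizer_le_of_lt hP hE.idx hEK
  have hN1top : N1 ≠ ⊤ := fun e => hKtop (top_le_iff.1 (e ▸ hN1K))
  obtain ⟨hb1, hb2, hb3⟩ := first_step hP hE hN1top
  by_cases hKN1 : K = N1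
  · subst hKN1
    refine ⟨hb1, hb2, fun i hi _ => ?_⟩
    rw [hE.card_normalizer] at hi
    have h1 := Nat.eq_of_mul_eq_mul_right Nat.card_pos hi
    rw [hb3, show i = 1 from (Nat.pow_right_injective hp.out.two_le ((pow_one p).trans h1)).symm]
  have hKlt : N1 < K := lt_of_le_of_ne hN1K (Ne.symm hKN1)
  have hKN : K < normalizer (K : Set P) := PGroups.lt_normalizer hP hKtop
  by_cases hnorm : normalizer (K : Set P) ≠ ⊤
  · -- work inside `N(K)`
    set M := normalizer (K : Set P) with hMdef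
    have hKM : K ≤ M := le_normalizer
    have hEM : E ≤ M := hEK.le.trans hKM
    have hN1M : N1 ≤ M := hN1K.trans hKM
    have hMlt : Nat.card M ≤ n := by
      have h1 : Nat.card M < Nat.card P :=
        lt_of_le_of_ne (Subgroup.card_le_card_group M) fun e => hnorm (Subgroup.eq_top_of_card_eq M e)
      omega
    have hs := ihn M hMlt (hP.to_subgroup M) (E.subgroupOf M) (isSoft_subgroupOf hE hN1M) _
      (K.subgroupOf M) le_rfl ?_ ?_
    · refine ⟨?_, fun a ha b hb k hk => ?_, fun i hi _ => ?_⟩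
      · have h1 := hs.idx
        rw [← Subgroup.subgroupOf_normalizer_eq hKM, Subgroup.relIndex_subgroupOf le_rfl] at h1
        exact h1
      · have h1 := hs.comm ⟨a, hN1M ha⟩ (by rw [← Subgroup.subgroupOf_normalizer_eq hEM]; exact ha)
          ⟨b, hN1M hb⟩ (by rw [← Subgroup.subgroupOf_normalizer_eq hEM]; exact hb) ⟨k, hKM hk⟩ hk
        exact congrArg Subtype.val h1
      · haveI : Group.IsNilpotent ↥(K.subgroupOf M) :=
          ((hP.to_subgroup M).to_subgroup _).isNilpotent
        rw [← nilpotencyClass_congr (Subgroup.subgroupOfEquivOfLe hKM)]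
        refine hs.cls i ?_
        rw [Nat.card_congr (Subgroup.subgroupOfEquivOfLe hKM).toEquiv,
          Nat.card_congr (Subgroup.subgroupOfEquivOfLe hEM).toEquiv, hi]
    · refine lt_of_le_of_ne (fun x hx => hEK.le hx) fun e => hEK.ne ?_
      rwa [Subgroup.subgroupOf_inj, inf_eq_left.2 hEM, inf_eq_left.2 hKM] at e
    · exact fun e => hKN.not_ge (Subgroup.subgroupOf_eq_top.1 e)
  push Not at hnorm
  haveI hKn : K.Normal := Subgroup.normalizer_eq_top_iff.1 hnorm
  -- the maximal subgroup of `K` above `E` and a second one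
  obtain ⟨A', hA', hEA'⟩ := (eq_top_or_exists_le_coatom (E.subgroupOf K)).resolve_left
    fun e => hEK.not_ge (Subgroup.subgroupOf_eq_top.1 e)
  set A := A'.map K.subtype with hAdef
  have hAK : A ≤ K := Subgroup.map_subtype_le A'
  have hAlt : A < K := lt_of_le_of_ne hAK fun e => hA'.1 (by
    rw [← Subgroup.comap_map_eq_self_of_injective K.subtype_injective A', ← hAdef, e]
    exact Subgroup.subgroupOf_self K)
  have hKnA : K ≤ normalizer (A : Set P) := by
    intro k hk
    refine mem_normalizer_of_conj_le ?_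
    rintro _ ⟨a, ha, rfl⟩
    exact ⟨⟨k, hk⟩ * a * ⟨k, hk⟩⁻¹,
      (PGroups.normal_of_isCoatom (hP.to_subgroup K) hA').conj_mem a ha _, rfl⟩
  have hEA : E < A := by
    refine lt_of_le_of_ne (fun x hx => ⟨⟨x, hEK.le hx⟩, hEA' hx, rfl⟩) fun e => ?_
    rw [← e] at hKnA
    exact hKlt.not_ge hKnA
  have hAtop : A ≠ ⊤ := fun e => hKtop (top_le_iff.1 (e ▸ hAK))
  have hAcard : Nat.card A ≤ m := by
    have : Nat.card A < Nat.card K := (Subgroup.card_le_of_le hAK).lt_of_ne
      fun e => hAlt.ne (Subgroup.eq_of_le_of_card_ge hAK e.ge)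
    omega
  have hsA := ihm A hAcard hEA hAtop
  have hNA : normalizer (A : Set P) = K := (eq_of_lt_of_relIndex hAlt hKnA hsA.idx).symm
  obtain ⟨h, hhK⟩ : ∃ h, h ∉ K := by
    by_contra hall
    push Not at hall
    exact hKtop (eq_top_iff.2 fun x _ => hall x)
  set B := A.map (MulAut.conj h).toMonoidHom with hBdef
  have hBne : B ≠ A := fun e => hhK (hNA ▸ Subgroup.mem_normalizer_iff_map_conj_eq.2 e)
  have hBK : B ≤ K := by
    rintro _ ⟨a, ha, rfl⟩; exact hKn.conj_mem a (hAK ha) h
  have hBcard : Nat.card B = Nat.card A := Subgroup.card_map_of_injective (MulAut.conj h).injective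
  have hAKp : A.relIndex K = p := hNA ▸ hsA.idx
  have hBKp : B.relIndex K = p := by
    have e1 := Subgroup.relIndex_mul_relIndex ⊥ B K bot_le hBK
    have e2 := Subgroup.relIndex_mul_relIndex ⊥ A K bot_le hAK
    rw [Subgroup.relIndex_bot_left, Subgroup.relIndex_bot_left] at e1 e2
    rw [hBcard, ← e2, hAKp] at e1
    exact Nat.eq_of_mul_eq_mul_left Nat.card_pos e1
  -- the centre of `K`
  set D := K ⊓ centralizer (K : Set P) with hDdef
  haveI : D.Normal := by
    haveI : (centralizer (K : Set P)).Normal := Subgroup.normal_centralizer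
    infer_instance
  have hDE : D ≤ E := fun x hx => hE.cent (Subgroup.centralizer_le hEK.le hx.2)
  have hKnt : K ≠ ⊥ := fun e => not_lt_bot (e ▸ hEK)
  have hDne : D ≠ ⊥ := by
    intro e
    haveI : Nontrivial K := (Subgroup.nontrivial_iff_ne_bot K).2 hKnt
    haveI := (hP.to_subgroup K).center_nontrivial
    obtain ⟨z, hz1⟩ := exists_ne (1 : center K)
    have hzD : ((z : K) : P) ∈ D := ⟨(z : K).2, Subgroup.mem_centralizer_iff.2 fun k hk =>
      congrArg Subtype.val (Subgroup.mem_center_iff.1 z.2 ⟨k, hk⟩)⟩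
    rw [e, Subgroup.mem_bot] at hzD
    exact hz1 (Subtype.ext (Subtype.ext hzD))
  have hQcard : Nat.card (P ⧸ D) ≤ n := by
    have h1 := D.card_mul_index
    rw [Subgroup.index_eq_card] at h1
    have h2 : 2 ≤ Nat.card D := (Subgroup.one_lt_card_iff_ne_bot D).2 hDne
    have h3 : 0 < Nat.card (P ⧸ D) := Nat.card_pos
    nlinarith
  set q := QuotientGroup.mk' D with hqdef
  have hQP : IsPGroup p (P ⧸ D) := hP.to_quotient D
  have hDK : D ≤ K := inf_le_left
  have hKqtop : K.map q ≠ ⊤ := fun e => hKtop (by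
    rw [← comap_map_mk hDK, e, Subgroup.comap_top])
  have hC : ∀ a ∈ N1, ∀ b ∈ N1, ⁅a, b⁆ ∈ D := by
    by_contra hC
    have hs := ihn (P ⧸ D) hQcard hQP _ (isSoft_map hE hDE hC) _ (K.map q) le_rfl
      (map_lt_map_mk hDE hEK) hKqtop
    have hZ2 : ∀ a ∈ N1, ∀ b ∈ N1, ∀ k ∈ K, ⁅⁅a, b⁆, k⁆ ∈ D := by
      intro a ha b hb k hk
      have h1 := hs.comm (q a) (by rw [normalizer_map_mk hDE]; exact mem_map_of_mem q ha)
        (q b) (by rw [normalizer_map_mk hDE]; exact mem_map_of_mem q hb) (q k) (mem_map_of_mem q hk)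
      rw [← QuotientGroup.eq_one_iff]
      show q ⁅⁅a, b⁆, k⁆ = 1
      rw [map_commutatorElement, map_commutatorElement, commutatorElement_eq_one_iff_mul_comm]
      exact h1.eq
    -- the conjugate of a commutator centralizes `E` modulo the centre
    have hconj : ∀ a ∈ N1, ∀ b ∈ N1, ∀ e ∈ E, ⁅h * ⁅a, b⁆ * h⁻¹, e⁆ ∈ D := by
      intro a ha b hb e he
      have hk : h⁻¹ * e * h ∈ K := by simpa using hKn.conj_mem e (hEK.le he) h⁻¹
      have h1 := (inferInstance : D.Normal).conj_mem _ (hZ2 a ha b hb _ hk) h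
      have h2 : h * ⁅⁅a, b⁆, h⁻¹ * e * h⁆ * h⁻¹ = ⁅h * ⁅a, b⁆ * h⁻¹, e⁆ := by
        simp only [commutatorElement_def]; group
      rwa [h2] at h1
    by_cases hall : ∀ a ∈ N1, ∀ b ∈ N1, h * ⁅a, b⁆ * h⁻¹ ∈ E
    · apply hC
      intro a ha b hb
      have hEB : ¬ E ≤ B := fun hEB => by
        have hA1 : A ⊓ B ≤ A := inf_le_left
        rcases eq_or_lt_of_le (le_inf hEA.le hEB : E ≤ A ⊓ B) with e | e
        · rcases chain_of hP (K := A) (L := B) (e ▸ hE.idx) with h' | h'
          · exact hBne (Subgroup.eq_of_le_of_card_ge h' hBcard.le).symm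
          · exact hBne (Subgroup.eq_of_le_of_card_ge h' hBcard.ge)
        · have hsT := ihm (A ⊓ B) ((Subgroup.card_le_of_le hA1).trans hAcard) e
            fun e' => hAtop (top_le_iff.1 (e' ▸ hA1))
          rcases chain_of hP (K := A) (L := B) hsT.idx with h' | h'
          · exact hBne (Subgroup.eq_of_le_of_card_ge h' hBcard.le).symm
          · exact hBne (Subgroup.eq_of_le_of_card_ge h' hBcard.ge)
      have hsup : B ⊔ E = K := eq_of_lt_of_relIndex
        (lt_of_le_of_ne le_sup_left fun e => hEB (e ▸ le_sup_right)) (sup_le hBK hEK.le) hBKp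
      have hmem : h * ⁅a, b⁆ * h⁻¹ ∈ centralizer (K : Set P) := by
        rw [← hsup, ← zpowers_le]
        refine Subgroup.le_centralizer_iff.1 (sup_le ?_ ?_)
        · rw [Subgroup.le_centralizer_iff, zpowers_le, Subgroup.mem_centralizer_iff]
          rintro _ ⟨x, hx, rfl⟩
          show (h * x * h⁻¹) * (h * ⁅a, b⁆ * h⁻¹) = (h * ⁅a, b⁆ * h⁻¹) * (h * x * h⁻¹)
          calc _ = h * (x * ⁅a, b⁆) * h⁻¹ := by group
            _ = h * (⁅a, b⁆ * x) * h⁻¹ := by rw [(hsA.comm a ha b hb x hx).eq]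
            _ = _ := by group
        · rw [Subgroup.le_centralizer_iff, zpowers_le, Subgroup.mem_centralizer_iff]
          exact fun x hx => PGroups.comm_of_isMulCommutative hE.comm hx (hall a ha b hb)
      have h3 := (inferInstance : D.Normal).conj_mem _ ⟨hEK.le (hall a ha b hb), hmem⟩ h⁻¹
      simpa [mul_assoc] using h3
    · push Not at hall
      obtain ⟨a, ha, b, hb, hab⟩ := hall
      exact hC (comm_mem_of hE D (conj_mem_of_comm_mem hDE (hconj a ha b hb)) hab (hconj a ha b hb))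
  -- now `N(E)` is soft modulo the centre
  have hD1 : D ≤ N1 := hDE.trans le_normalizer
  have hs := ihn (P ⧸ D) hQcard hQP _ (isSoft_map_normalizer hE hDE hC hb1) _ (K.map q) le_rfl
    (map_lt_map_mk hD1 hKlt) hKqtop
  refine ⟨?_, fun a ha b hb k hk => ?_, fun i hi _ => ?_⟩
  · have h1 := hs.idx
    rw [normalizer_map_mk hDK, relIndex_map_mk hDK] at h1
    exact h1
  · exact ((hC a ha b hb).2 k hk).symm
  · rcases i with _ | j
    · rw [pow_zero, one_mul] at hi
      exact absurd (Subgroup.eq_of_le_of_card_ge hEK.le hi.le) hEK.ne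
    haveI : Nontrivial K := (Subgroup.nontrivial_iff_ne_bot K).2 hKnt
    rw [Group.nilpotencyClass_eq_quotient_center_plus_one]
    let f : K →* ↥(K.map q) := q.subgroupMap K
    have hf : Function.Surjective f := q.subgroupMap_surjective K
    have hker : f.ker = center K := by
      ext x
      rw [MonoidHom.mem_ker, Subtype.ext_iff]
      show q (x : P) = 1 ↔ _
      rw [hqdef, QuotientGroup.mk'_apply, QuotientGroup.eq_one_iff, Subgroup.mem_center_iff]
      exact ⟨fun hx g => Subtype.ext (Subgroup.mem_centralizer_iff.1 hx.2 g g.2),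
        fun hx => ⟨x.2, Subgroup.mem_centralizer_iff.2 fun g hg => congrArg Subtype.val (hx ⟨g, hg⟩)⟩⟩
    haveI : Group.IsNilpotent ↥(K.map q) := (hQP.to_subgroup _).isNilpotent
    haveI : Group.IsNilpotent (K ⧸ center K) := inferInstance
    rw [nilpotencyClass_congr ((QuotientGroup.quotientMulEquivOfEq hker.symm).trans
      (QuotientGroup.quotientKerEquivOfSurjective f hf)), hs.cls j ?_]
    refine Nat.eq_of_mul_eq_mul_right (Nat.card_pos (α := D)) ?_
    rw [card_map_mk hDK, mul_assoc, card_map_mk hD1, hi, hE.card_normalizer, pow_succ]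
    ring

theorem step {P : Type u} [Group P] [Finite P] (hP : IsPGroup p P) {E K : Subgroup P} (hE : IsSoft p E)
    (hEK : E < K) (hK : K ≠ ⊤) : Step p E K :=
  step_aux _ P le_rfl hP E hE _ K le_rfl hEK hK

theorem relIndex_normalizer (hP : IsPGroup p P) {E K : Subgroup P} (hE : IsSoft p E)
    (hEK : E ≤ K) (hK : K ≠ ⊤) : K.relIndex (normalizer (K : Set P)) = p := by
  rcases hEK.lt_or_eq with h | rfl
  · exact (step hP hE h hK).idx
  · exact hE.idx

end Cfsg.Agent.H72.Soft
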