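import Cfsg.Agent.H52.SylowStruct
import Cfsg.Agent.H27.QuaternionSylow
import Cfsg.Agent.Symplectic.Order
import Cfsg.Agent.Linear.Order
import Cfsg.Agent.Arith.LTE

/-!
A Sylow 2-subgroup of `Sp_{2n}(q)`, `q` odd, is a quaternion group wreathed with a Sylow 2-subgroup
of `S_n`; hence its squares lie in its derived subgroup.
-/

set_option autoImplicit false

namespace Cfsg.Agent.H72.SymplecticSylow

open Matrix
open scoped MatrixGroups commutatorElement

theorem sq_of_mul {G : Type*} [Group G] {S : Subgroup G} {u v : G} (hu : u ∈ S) (hv : v ∈ S)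
    (huu : u * u ∈ ⁅S, S⁆) (hvv : v * v ∈ ⁅S, S⁆) : u * v * (u * v) ∈ ⁅S, S⁆ := by
  have h := mul_mem (mul_mem huu (Subgroup.commutator_mem_commutator (inv_mem hu) hv)) hvv
  simpa [commutatorElement_def, mul_assoc] using h

theorem sq_map {G H : Type*} [Group G] [Group H] (f : G →* H) {A : Subgroup G} {S : Subgroup H}
    (hA : A.map f ≤ S) {a : G} (ha : a * a ∈ ⁅A, A⁆) : f a * f a ∈ ⁅S, S⁆ := by
  refine Subgroup.commutator_mono hA hA ?_
  rw [← Subgroup.map_commutator, ← map_mul]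
  exact ⟨_, ha, rfl⟩

/-- Squares in a Sylow 2-subgroup of a symmetric group lie in its derived subgroup. -/
theorem perm_sq (n : ℕ) : ∀ P : Sylow 2 (Equiv.Perm (Fin n)), ∀ σ ∈ P,
    σ * σ ∈ ⁅(P : Subgroup (Equiv.Perm (Fin n))), (P : Subgroup (Equiv.Perm (Fin n)))⁆ := by
  induction n using Nat.strong_induction_on with
  | _ n ih =>
    intro P σ hσ
    rcases Nat.lt_or_ge n 2 with h2 | h2
    · haveI : Subsingleton (Fin n) := Fintype.card_le_one_iff_subsingleton.1 (by rw [Fintype.card_fin]; omega)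
      rw [Subsingleton.elim (σ * σ) 1]; exact one_mem _
    obtain ⟨R⟩ : Nonempty (Sylow 2 (Equiv.Perm (Fin (n / 2)))) := inferInstance
    obtain ⟨e, he⟩ := H52.exists_model_map n R P
    set W := H52.wrSub (γ := Fin (n % 2)) (R : Subgroup (Equiv.Perm (Fin (n / 2))))
    let ι : Equiv.Perm (Fin (n / 2)) →* Equiv.Perm ((Fin (n / 2) × Bool) ⊕ Fin (n % 2)) :=
      { toFun := fun τ => H52.wr τ (fun _ => false)
        map_one' := H52.wr_one
        map_mul' := fun a b => by rw [H52.wr_mul]; congr 1 }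
    have hι : (R : Subgroup (Equiv.Perm (Fin (n / 2)))).map ι ≤ W := by
      rintro _ ⟨τ, hτ, rfl⟩; exact H52.wr_mem_wrSub hτ _
    have key : ∀ g ∈ W, g * g ∈ ⁅W, W⁆ := by
      rintro _ ⟨τ, hτ, f, rfl⟩
      have e1 : (H52.wr τ f : Equiv.Perm ((Fin (n / 2) × Bool) ⊕ Fin (n % 2))) = ι τ * H52.wr 1 f := by
        show _ = H52.wr τ (fun _ => false) * H52.wr 1 f
        rw [H52.wr_mul, mul_one]
        congr 1
        funext b; simp
      rw [e1]
      refine sq_of_mul (hι ⟨τ, hτ, rfl⟩) (H52.wr_mem_wrSub (one_mem _) f)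
        (sq_map ι hι (ih (n / 2) (by omega) R τ hτ)) ?_
      have : (H52.wr 1 f : Equiv.Perm ((Fin (n / 2) × Bool) ⊕ Fin (n % 2))) * H52.wr 1 f = 1 := by
        rw [H52.wr_mul, mul_one, ← H52.wr_one]
        congr 1
        funext b; simp
      rw [this]; exact one_mem _
    have hmem : σ ∈ (P : Subgroup (Equiv.Perm (Fin n))) := hσ
    rw [he] at hmem ⊢
    obtain ⟨g, hg, rfl⟩ := hmem
    exact sq_map e.permCongrHom.toMonoidHom le_rfl (key g hg)

/-- In a generalized quaternion group every square is a commutator. -/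
theorem quaternion_sq {m : ℕ} (hm : 2 ∣ m) (x : QuaternionGroup m) :
    ∃ u v : QuaternionGroup m, x * x = ⁅u, v⁆ := by
  cases x with
  | a i =>
    refine ⟨QuaternionGroup.a i, QuaternionGroup.xa 0, ?_⟩
    rw [commutatorElement_def, eq_mul_inv_iff_mul_eq, eq_mul_inv_iff_mul_eq]
    simp only [QuaternionGroup.a_mul_a, QuaternionGroup.a_mul_xa, QuaternionGroup.xa_mul_a]
    congr 1
    ring
  | xa i =>
    obtain ⟨r, hr⟩ := hm
    refine ⟨QuaternionGroup.a (r : ZMod (2 * m)), QuaternionGroup.xa 0, ?_⟩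
    rw [commutatorElement_def, eq_mul_inv_iff_mul_eq, eq_mul_inv_iff_mul_eq]
    simp only [QuaternionGroup.xa_mul_xa, QuaternionGroup.a_mul_xa, QuaternionGroup.xa_mul_a]
    congr 1
    subst hr; push_cast; ring

variable {F : Type*} [Field F] {n : ℕ}

/-- The matrix with entry `c i` at `(i, σ⁻¹ i)`. -/
def D (c : Fin n → F) (σ : Equiv.Perm (Fin n)) : Matrix (Fin n) (Fin n) F :=
  Matrix.of fun i j => if σ j = i then c i else 0

theorem D_apply (c : Fin n → F) (σ : Equiv.Perm (Fin n)) (i j : Fin n) :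
    D c σ i j = if σ j = i then c i else 0 := rfl

theorem D_mul (c d : Fin n → F) (σ τ : Equiv.Perm (Fin n)) :
    D c σ * D d τ = D (fun i => c i * d (σ⁻¹ i)) (σ * τ) := by
  ext i j
  rw [Matrix.mul_apply, Finset.sum_eq_single (σ⁻¹ i)]
  · simp only [D_apply, Equiv.Perm.coe_inv, Equiv.apply_symm_apply, if_true, Equiv.Perm.coe_mul,
      Function.comp_apply]
    by_cases h : τ j = σ.symm i
    · simp [h]
    · have h' : σ (τ j) ≠ i := fun h' => h (by rw [← h', Equiv.symm_apply_apply])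
      simp [h, h']
  · intro b _ hb
    rw [D_apply, if_neg fun h => hb (by rw [← h]; simp), zero_mul]
  · simp

theorem D_mul_transpose (c d : Fin n → F) (σ : Equiv.Perm (Fin n)) :
    D c σ * (D d σ)ᵀ = D (fun i => c i * d i) 1 := by
  ext i j
  rw [Matrix.mul_apply, Finset.sum_eq_single (σ⁻¹ i)]
  · simp only [D_apply, Matrix.transpose_apply, Equiv.Perm.coe_inv, Equiv.apply_symm_apply,
      if_true, Equiv.Perm.one_apply]
    by_cases h : j = i
    · subst h; simp
    · simp [h, Ne.symm h]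
  · intro b _ hb
    rw [D_apply, if_neg fun h => hb (by rw [← h]; simp), zero_mul]
  · simp

theorem D_one (c : Fin n → F) : D c 1 = Matrix.diagonal c := by
  ext i j
  by_cases h : j = i
  · subst h; simp [D_apply]
  · simp [D_apply, h, Matrix.diagonal_apply_ne _ (Ne.symm h)]

theorem D_add (c d : Fin n → F) (σ : Equiv.Perm (Fin n)) : D c σ + D d σ = D (c + d) σ := by
  ext i j
  by_cases h : σ j = i <;> simp [D_apply, h]

theorem D_sub (c d : Fin n → F) (σ : Equiv.Perm (Fin n)) : D c σ - D d σ = D (c - d) σ := by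
  ext i j
  by_cases h : σ j = i <;> simp [D_apply, h]

/-- The symplectic matrix of a monomial element of `SL₂ ≀ S_n`. -/
def mkMat (a : Fin n → SL(2, F)) (σ : Equiv.Perm (Fin n)) : Matrix (Fin n ⊕ Fin n) (Fin n ⊕ Fin n) F :=
  fromBlocks (D (fun i => a i 0 0) σ) (D (fun i => a i 0 1) σ) (D (fun i => a i 1 0) σ)
    (D (fun i => a i 1 1) σ)

theorem mkMat_mem (a : Fin n → SL(2, F)) (σ : Equiv.Perm (Fin n)) :
    mkMat a σ ∈ Matrix.symplecticGroup (Fin n) F := by
  have hdet : ∀ i, a i 0 0 * a i 1 1 - a i 0 1 * a i 1 0 = 1 := fun i => by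
    have := (a i).2
    rwa [Matrix.det_fin_two] at this
  rw [SymplecticGroup.mem_iff, mkMat, Matrix.J, fromBlocks_transpose, fromBlocks_multiply,
    fromBlocks_multiply]
  simp only [mul_zero, zero_add, add_zero, mul_one, mul_neg, neg_mul, D_mul_transpose, D_one]
  congr 1 <;> ext i j <;> by_cases h : i = j
  all_goals first
    | (subst h; simp; linear_combination (hdet i) * 0)
    | (subst h; simp; linear_combination (hdet i))
    | (subst h; simp; linear_combination -(hdet i))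
    | simp [h]

/-- The element of the symplectic group. -/
def mk (a : Fin n → SL(2, F)) (σ : Equiv.Perm (Fin n)) : Matrix.symplecticGroup (Fin n) F :=
  ⟨mkMat a σ, mkMat_mem a σ⟩

theorem mk_mul (a b : Fin n → SL(2, F)) (σ τ : Equiv.Perm (Fin n)) :
    mk a σ * mk b τ = mk (fun i => a i * b (σ⁻¹ i)) (σ * τ) := by
  apply Subtype.ext
  show mkMat a σ * mkMat b τ = mkMat _ _
  simp only [mkMat, fromBlocks_multiply, D_mul, D_add]
  congr 2 <;> funext i <;> simp [Matrix.SpecialLinearGroup.coe_mul, Matrix.mul_apply, Fin.sum_univ_two]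

theorem mk_one : mk (1 : Fin n → SL(2, F)) 1 = 1 := by
  apply Subtype.ext
  show mkMat 1 1 = 1
  simp [mkMat, D_one]

theorem mk_inj {a b : Fin n → SL(2, F)} {σ τ : Equiv.Perm (Fin n)} (h : mk a σ = mk b τ) :
    a = b ∧ σ = τ := by
  have h' : mkMat a σ = mkMat b τ := congrArg Subtype.val h
  rw [mkMat, mkMat, fromBlocks_inj] at h'
  obtain ⟨h00, h01, h10, h11⟩ := h'
  have hστ : σ = τ := by
    refine Equiv.ext fun j => ?_
    by_contra hne
    have e0 := congrFun (congrFun h00 (σ j)) j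
    have e1 := congrFun (congrFun h10 (σ j)) j
    simp only [D_apply, if_true, if_neg (Ne.symm hne)] at e0 e1
    have := (a (σ j)).2
    rw [Matrix.det_fin_two, e0, e1] at this
    simp at this
  subst hστ
  refine ⟨funext fun i => ?_, rfl⟩
  ext r s
  fin_cases r <;> fin_cases s
  · simpa [D_apply] using congrFun (congrFun h00 i) (σ⁻¹ i)
  · simpa [D_apply] using congrFun (congrFun h01 i) (σ⁻¹ i)
  · simpa [D_apply] using congrFun (congrFun h10 i) (σ⁻¹ i)
  · simpa [D_apply] using congrFun (congrFun h11 i) (σ⁻¹ i)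

/-- The diagonal part. -/
def diagHom : (Fin n → SL(2, F)) →* Matrix.symplecticGroup (Fin n) F where
  toFun a := mk a 1
  map_one' := mk_one
  map_mul' a b := by rw [mk_mul, mul_one]; congr 1

/-- The block permutations. -/
def permHom : Equiv.Perm (Fin n) →* Matrix.symplecticGroup (Fin n) F where
  toFun σ := mk 1 σ
  map_one' := mk_one
  map_mul' σ τ := by rw [mk_mul]; congr 1; funext i; simp

theorem mk_inv (a : Fin n → SL(2, F)) (σ : Equiv.Perm (Fin n)) :
    (mk a σ)⁻¹ = mk (fun i => (a (σ i))⁻¹) σ⁻¹ := by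
  refine inv_eq_of_mul_eq_one_right ?_
  rw [mk_mul, mul_inv_cancel, ← mk_one]
  congr 1
  funext i; simp

/-- The monomial group over a subgroup of `SL₂` and one of `S_n`. -/
def wreath (Q : Subgroup SL(2, F)) (T : Subgroup (Equiv.Perm (Fin n))) :
    Subgroup (Matrix.symplecticGroup (Fin n) F) where
  carrier := {g | ∃ a : Fin n → SL(2, F), (∀ i, a i ∈ Q) ∧ ∃ σ ∈ T, g = mk a σ}
  one_mem' := ⟨1, fun _ => one_mem Q, 1, one_mem T, mk_one.symm⟩
  mul_mem' := by
    rintro _ _ ⟨a, ha, σ, hσ, rfl⟩ ⟨b, hb, τ, hτ, rfl⟩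
    exact ⟨_, fun i => mul_mem (ha i) (hb _), _, mul_mem hσ hτ, mk_mul a b σ τ⟩
  inv_mem' := by
    rintro _ ⟨a, ha, σ, hσ, rfl⟩
    exact ⟨_, fun i => inv_mem (ha _), _, inv_mem hσ, mk_inv a σ⟩

theorem card_wreath (Q : Subgroup SL(2, F)) (T : Subgroup (Equiv.Perm (Fin n))) :
    Nat.card (wreath Q T) = Nat.card Q ^ n * Nat.card T := by
  have e : Nat.card ((Fin n → Q) × T) = Nat.card Q ^ n * Nat.card T := by
    rw [Nat.card_prod, Nat.card_fun, Nat.card_eq_fintype_card (α := Fin n), Fintype.card_fin]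
  rw [← e]
  refine (Nat.card_eq_of_bijective (fun p => (⟨mk (fun i => (p.1 i : SL(2, F))) p.2,
    _, fun i => (p.1 i).2, _, p.2.2, rfl⟩ : wreath Q T)) ⟨?_, ?_⟩).symm
  · rintro ⟨a, σ⟩ ⟨b, τ⟩ h
    obtain ⟨h1, h2⟩ := mk_inj (congrArg Subtype.val h)
    exact Prod.ext (funext fun i => Subtype.ext (congrFun h1 i)) (Subtype.ext h2)
  · rintro ⟨_, a, ha, σ, hσ, rfl⟩
    exact ⟨(fun i => ⟨a i, ha i⟩, ⟨σ, hσ⟩), rfl⟩

theorem wreath_sq (Q : Subgroup SL(2, F)) (T : Subgroup (Equiv.Perm (Fin n)))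
    (hQ : ∀ x ∈ Q, ∃ u ∈ Q, ∃ v ∈ Q, x * x = ⁅u, v⁆) (hT : ∀ σ ∈ T, σ * σ ∈ ⁅T, T⁆) :
    ∀ g ∈ wreath Q T, g * g ∈ ⁅wreath Q T, wreath Q T⁆ := by
  rintro _ ⟨a, ha, σ, hσ, rfl⟩
  have hd : ∀ b : Fin n → SL(2, F), (∀ i, b i ∈ Q) → diagHom b ∈ wreath Q T := fun b hb =>
    ⟨b, hb, 1, one_mem T, rfl⟩
  have hp : T.map (permHom (F := F)) ≤ wreath Q T := by
    rintro _ ⟨τ, hτ, rfl⟩; exact ⟨1, fun _ => one_mem Q, τ, hτ, rfl⟩
  have e : mk a σ = diagHom a * permHom σ := by
    show _ = mk a 1 * mk 1 σ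
    rw [mk_mul, one_mul]; congr 1; funext i; simp
  rw [e]
  refine sq_of_mul (hd a ha) (hp ⟨σ, hσ, rfl⟩) ?_ (sq_map permHom hp (hT σ hσ))
  choose u hu v hv huv using fun i => hQ (a i) (ha i)
  have h2 : a * a = ⁅u, v⁆ := funext fun i => by
    rw [Pi.mul_apply, huv i, commutatorElement_def, commutatorElement_def]; rfl
  rw [← map_mul, h2, map_commutatorElement]
  exact Subgroup.commutator_mem_commutator (hd u hu) (hd v hv)

theorem padic_card [Fintype F] (hF : Odd (Fintype.card F)) :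
    (Nat.card (Matrix.symplecticGroup (Fin n) F)).factorization 2 =
      n * (Nat.card SL(2, F)).factorization 2 + (Nat.card (Equiv.Perm (Fin n))).factorization 2 := by
  haveI := Fact.mk Nat.prime_two
  set q := Fintype.card F
  have hq2 : 2 ≤ q := Fintype.one_lt_card
  have hodd : ¬ 2 ∣ q := by rw [Nat.odd_iff] at hF; omega
  set d := padicValNat 2 (q + 1) + padicValNat 2 (q - 1)
  have hterm : ∀ i, padicValNat 2 (q ^ (2 * (i + 1)) - 1) = d + padicValNat 2 (i + 1) := fun i => by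
    have := Cfsg.Agent.Arith.padicValNat_two_pow_sub_one hq2 (n := 2 * (i + 1)) (by omega) ⟨_, rfl⟩ hodd
    rw [padicValNat.mul (by omega) (by omega), padicValNat.self (by norm_num)] at this
    omega
  have hne : ∀ i, q ^ (2 * (i + 1)) - 1 ≠ 0 := fun i =>
    Cfsg.Agent.Arith.pow_sub_one_ne_zero hq2 (by omega)
  have hsl : (Nat.card SL(2, F)).factorization 2 = d := by
    rw [Nat.factorization_def _ Nat.prime_two, Cfsg.Agent.Linear.card_SL_two,
      padicValNat.mul (by omega) (by have := hne 0; simpa using this), padicValNat.eq_zero_of_not_dvd hodd,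
      zero_add]
    simpa using hterm 0
  rw [hsl, Nat.factorization_def _ Nat.prime_two, Nat.factorization_def _ Nat.prime_two,
    Cfsg.Agent.Symplectic.card_sp, Nat.card_perm, Nat.card_eq_fintype_card, Fintype.card_fin]
  rw [padicValNat.mul (pow_ne_zero _ (by omega)) (Finset.prod_ne_zero_iff.2 fun i _ => hne i),
    padicValNat.eq_zero_of_not_dvd (fun h => hodd (Nat.prime_two.dvd_of_dvd_pow h)), zero_add]
  clear hsl
  induction n with
  | zero => simp
  | succ k ih =>
    rw [Finset.prod_range_succ, padicValNat.mul (Finset.prod_ne_zero_iff.2 fun i _ => hne i) (hne k),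
      Nat.factorial_succ, padicValNat.mul (by omega) (Nat.factorial_ne_zero k), ih, hterm]
    ring

/-- **Main result.** -/
theorem result [Fintype F] (hF : Odd (Fintype.card F))
    (P : Sylow 2 (Matrix.symplecticGroup (Fin n) F)) :
    ∀ x : (P : Subgroup (Matrix.symplecticGroup (Fin n) F)),
      x ^ 2 ∈ commutator (P : Subgroup (Matrix.symplecticGroup (Fin n) F)) := by
  haveI := Fact.mk Nat.prime_two
  obtain ⟨Q⟩ : Nonempty (Sylow 2 SL(2, F)) := inferInstance
  obtain ⟨T⟩ : Nonempty (Sylow 2 (Equiv.Perm (Fin n))) := inferInstance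
  obtain ⟨k, hk, ⟨e⟩⟩ := H27.QuaternionSylow.sylow_equiv_quaternion hF Q
  have hQ : ∀ x ∈ (Q : Subgroup SL(2, F)), ∃ u ∈ (Q : Subgroup SL(2, F)),
      ∃ v ∈ (Q : Subgroup SL(2, F)), x * x = ⁅u, v⁆ := by
    intro x hx
    obtain ⟨u, v, huv⟩ := quaternion_sq (dvd_pow_self 2 (by omega)) (e ⟨x, hx⟩)
    refine ⟨e.symm u, (e.symm u).2, e.symm v, (e.symm v).2, ?_⟩
    have h := congrArg (fun y => ((e.symm y : (Q : Subgroup SL(2, F))) : SL(2, F))) huv
    simpa [map_commutatorElement, commutatorElement_def] using h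
  set W := wreath (Q : Subgroup SL(2, F)) (T : Subgroup (Equiv.Perm (Fin n)))
  have hW : ∀ g ∈ W, g * g ∈ ⁅W, W⁆ := wreath_sq _ _ hQ (perm_sq n T)
  have hcard : Nat.card W = 2 ^ (Nat.card (Matrix.symplecticGroup (Fin n) F)).factorization 2 := by
    rw [card_wreath, Q.card_eq_multiplicity, T.card_eq_multiplicity, padic_card hF, pow_add, ← pow_mul,
      mul_comm n]
  obtain ⟨g, hg⟩ := MulAction.exists_smul_eq (Matrix.symplecticGroup (Fin n) F) (Sylow.ofCard W hcard) P
  set f := (MulAut.conj g).toMonoidHom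
  have hP : (P : Subgroup (Matrix.symplecticGroup (Fin n) F)) = W.map f := by
    rw [← hg, Sylow.coe_subgroup_smul]; rfl
  intro x
  have hx : (x : Matrix.symplecticGroup (Fin n) F) ∈ W.map f := hP ▸ x.2
  obtain ⟨w, hw, hwx⟩ := hx
  have h := sq_map f (le_of_eq hP.symm) (hW w hw)
  rw [hwx, ← Subgroup.map_subtype_commutator] at h
  obtain ⟨y, hy, hyx⟩ := h
  have : y = x ^ 2 := Subtype.ext (by rw [SubgroupClass.coe_pow, pow_two]; exact hyx)
  exact this ▸ hy

end Cfsg.Agent.H72.SymplecticSylow
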