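import Cfsg.Agent.H72.SymplecticSylow

/-!
The derived length of a Sylow 2-subgroup of `Sp_{2n}(q)`, `q` odd.
-/

set_option autoImplicit false

namespace Cfsg.Agent.H72.SymplecticSylowDerived

open Matrix Cfsg.Agent.H72.SymplecticSylow
open scoped MatrixGroups commutatorElement

/-! ### The derived series of a subgroup, inside the ambient group -/

section
variable {G : Type*} [Group G]

/-- The `j`-th derived subgroup of `H`, as a subgroup of the ambient group. -/
def ds (H : Subgroup G) : ℕ → Subgroup G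
  | 0 => H
  | j + 1 => ⁅ds H j, ds H j⁆

theorem ds_eq_map (H : Subgroup G) (j : ℕ) : ds H j = (derivedSeries H j).map H.subtype := by
  induction j with
  | zero => simp [ds, ← MonoidHom.range_eq_map]
  | succ j ih => rw [ds, ih, derivedSeries_succ, Subgroup.map_commutator]

theorem derivedSeries_eq_bot_iff (H : Subgroup G) (j : ℕ) :
    derivedSeries H j = ⊥ ↔ ds H j = ⊥ := by
  rw [ds_eq_map, Subgroup.map_eq_bot_iff_of_injective _ H.subtype_injective]

theorem ds_mono {H K : Subgroup G} (h : H ≤ K) : ∀ j, ds H j ≤ ds K j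
  | 0 => h
  | j + 1 => Subgroup.commutator_mono (ds_mono h j) (ds_mono h j)

theorem ds_map {G' : Type*} [Group G'] (f : G →* G') (H : Subgroup G) :
    ∀ j, ds (H.map f) j = (ds H j).map f
  | 0 => rfl
  | j + 1 => by rw [ds, ds_map f H j, ← Subgroup.map_commutator]; rfl

theorem ds_shift (H : Subgroup G) : ∀ j, ds ⁅H, H⁆ j = ds H (j + 1)
  | 0 => rfl
  | j + 1 => by rw [ds, ds_shift H j]; rfl

theorem ds_add (H : Subgroup G) (i : ℕ) : ∀ j, ds (ds H i) j = ds H (i + j)
  | 0 => rfl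
  | j + 1 => by rw [ds, ds_add H i j]; rfl

theorem ds_le (H : Subgroup G) : ∀ j, ds H j ≤ H
  | 0 => le_rfl
  | j + 1 => (Subgroup.commutator_mono (ds_le H j) (ds_le H j)).trans H.commutator_le_self

theorem ds_bot_of_le (H : Subgroup G) {i j : ℕ} (hij : i ≤ j) (h : ds H i = ⊥) : ds H j = ⊥ := by
  obtain ⟨d, rfl⟩ := Nat.exists_eq_add_of_le hij
  rw [← ds_add, h, eq_bot_iff]
  exact ds_le ⊥ d

/-- A subgroup of the form `H × H'` extended by an exchanging involution is one step deeper. -/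
theorem exists_ds_succ_ne_bot {H H' K : Subgroup G} {s : G} (hss : s * s = 1) (hs : s ∈ K)
    (hH : H ≤ K) (hsH : ∀ h ∈ H, s * h * s ∈ H') (hcomm : ∀ a ∈ H, ∀ b ∈ H', a * b = b * a)
    (hdisj : H ⊓ H' = ⊥) {j : ℕ} (hj : ds H j ≠ ⊥) : ds K (j + 1) ≠ ⊥ := by
  have key : ∀ i, ∀ x ∈ ds H i, ∃ y ∈ H', x * y ∈ ds ⁅K, K⁆ i := by
    intro i
    induction i with
    | zero =>
      intro h hh
      refine ⟨s * h⁻¹ * s, hsH _ (inv_mem hh), ?_⟩
      show _ ∈ ⁅K, K⁆
      have e : s⁻¹ = s := inv_eq_of_mul_eq_one_right hss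
      have hc := Subgroup.commutator_mem_commutator (hH hh) hs
      rw [commutatorElement_def, e] at hc
      simpa [mul_assoc] using hc
    | succ i ih =>
      intro x hx
      let S : Subgroup G :=
        { carrier := {x | x ∈ H ∧ ∃ y ∈ H', x * y ∈ ds ⁅K, K⁆ (i + 1)}
          one_mem' := ⟨one_mem _, 1, one_mem _, by simp⟩
          mul_mem' := by
            rintro x₁ x₂ ⟨hx₁, y₁, hy₁, h₁⟩ ⟨hx₂, y₂, hy₂, h₂⟩
            refine ⟨mul_mem hx₁ hx₂, y₁ * y₂, mul_mem hy₁ hy₂, ?_⟩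
            have e : x₁ * y₁ * (x₂ * y₂) = x₁ * x₂ * (y₁ * y₂) := by
              rw [mul_assoc x₁ y₁, ← mul_assoc y₁ x₂, ← hcomm x₂ hx₂ y₁ hy₁]
              simp only [mul_assoc]
            exact e ▸ mul_mem h₁ h₂
          inv_mem' := by
            rintro x ⟨hx, y, hy, h⟩
            refine ⟨inv_mem hx, y⁻¹, inv_mem hy, ?_⟩
            have e : (x * y)⁻¹ = x⁻¹ * y⁻¹ := by
              rw [hcomm x hx y hy, _root_.mul_inv_rev]
            exact e ▸ inv_mem h }
      have hle : ds H (i + 1) ≤ S := by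
        rw [ds, Subgroup.commutator_le]
        intro a ha b hb
        obtain ⟨a', ha', haa⟩ := ih a ha
        obtain ⟨b', hb', hbb⟩ := ih b hb
        have ha0 := ds_le H i ha
        have hb0 := ds_le H i hb
        refine ⟨H.commutator_le_self (Subgroup.commutator_mem_commutator ha0 hb0), ⁅a', b'⁆,
          H'.commutator_le_self (Subgroup.commutator_mem_commutator ha' hb'), ?_⟩
        have e : ⁅a * a', b * b'⁆ = ⁅a, b⁆ * ⁅a', b'⁆ :=
          (map_commutatorElement
            (MonoidHom.noncommCoprod H.subtype H'.subtype fun u v => hcomm u u.2 v v.2)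
            ((⟨a, ha0⟩ : H), (⟨a', ha'⟩ : H')) ((⟨b, hb0⟩ : H), (⟨b', hb'⟩ : H'))).symm
        rw [← e]
        exact Subgroup.commutator_mem_commutator haa hbb
      exact (hle hx).2
  rw [← ds_shift]
  intro hbot
  refine hj ((Subgroup.eq_bot_iff_forall _).2 fun x hx => ?_)
  obtain ⟨y, hy, hxy⟩ := key j x hx
  rw [hbot, Subgroup.mem_bot] at hxy
  have : x ∈ H ⊓ H' := Subgroup.mem_inf.2
    ⟨ds_le H j hx, by rw [eq_inv_of_mul_eq_one_left hxy]; exact inv_mem hy⟩
  rwa [hdisj, Subgroup.mem_bot] at this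

end

/-! ### Symmetric groups -/

/-- A Sylow 2-subgroup of `S_n` has derived length at most `log₂ n`. -/
theorem ds_perm (n : ℕ) : ∀ P : Sylow 2 (Equiv.Perm (Fin n)),
    ds (P : Subgroup (Equiv.Perm (Fin n))) (Nat.log 2 n) = ⊥ := by
  induction n using Nat.strong_induction_on with
  | _ n ih =>
    intro P
    rcases Nat.lt_or_ge n 2 with h2 | h2
    · have : Subsingleton (Fin n) :=
        Fintype.card_le_one_iff_subsingleton.1 (by rw [Fintype.card_fin]; omega)
      exact (Subgroup.eq_bot_iff_forall _).2 fun x _ => Subsingleton.elim x 1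
    obtain ⟨R⟩ : Nonempty (Sylow 2 (Equiv.Perm (Fin (n / 2)))) := inferInstance
    obtain ⟨e, he⟩ := H52.exists_model_map n R P
    have step : ∀ j, ds (H52.wrSub (γ := Fin (n % 2)) (R : Subgroup (Equiv.Perm (Fin (n / 2))))) j ≤
        H52.wrSub (ds (R : Subgroup (Equiv.Perm (Fin (n / 2)))) j) := by
      intro j
      induction j with
      | zero => exact le_rfl
      | succ j hj =>
        refine (Subgroup.commutator_mono hj hj).trans (Subgroup.commutator_le.2 ?_)
        rintro _ ⟨σ, hσ, f, rfl⟩ _ ⟨τ, hτ, g, rfl⟩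
        rw [commutatorElement_def, H52.wr_inv, H52.wr_inv, H52.wr_mul, H52.wr_mul, H52.wr_mul]
        exact H52.wr_mem_wrSub (Subgroup.commutator_mem_commutator hσ hτ) _
    have hlog : Nat.log 2 n = Nat.log 2 (n / 2) + 1 := by
      rw [Nat.log_div_base]
      have := Nat.log_pos (b := 2) (by norm_num) h2
      omega
    rw [he, ds_map, hlog, ds, Subgroup.map_eq_bot_iff]
    refine le_trans ?_ bot_le
    have h := step (Nat.log 2 (n / 2))
    rw [ih (n / 2) (by omega) R] at h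
    refine (Subgroup.commutator_mono h h).trans (Subgroup.commutator_le.2 ?_)
    rintro _ ⟨σ, hσ, f, rfl⟩ _ ⟨τ, hτ, g, rfl⟩
    rw [Subgroup.mem_bot] at hσ hτ
    subst hσ hτ
    rw [Subgroup.mem_bot, commutatorElement_eq_one_iff_mul_comm, H52.wr_mul, H52.wr_mul]
    congr 1
    funext b
    exact Bool.xor_comm _ _

theorem ds_quaternion (m : ℕ) : ds (⊤ : Subgroup (QuaternionGroup m)) 2 = ⊥ := by
  let A : Subgroup (QuaternionGroup m) :=
    { carrier := Set.range QuaternionGroup.a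
      one_mem' := ⟨0, rfl⟩
      mul_mem' := by rintro _ _ ⟨i, rfl⟩ ⟨j, rfl⟩; exact ⟨i + j, by simp⟩
      inv_mem' := by rintro _ ⟨i, rfl⟩; exact ⟨-i, by rfl⟩ }
  have h1 : ⁅(⊤ : Subgroup (QuaternionGroup m)), ⊤⁆ ≤ A := by
    refine Subgroup.commutator_le.2 fun x _ y _ => ?_
    rw [commutatorElement_def]
    cases x <;> cases y <;> exact ⟨_, rfl⟩
  show ⁅⁅(⊤ : Subgroup (QuaternionGroup m)), ⊤⁆, ⁅(⊤ : Subgroup (QuaternionGroup m)), ⊤⁆⁆ = ⊥
  refine eq_bot_iff.2 ((Subgroup.commutator_mono h1 h1).trans (Subgroup.commutator_le.2 ?_))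
  rintro _ ⟨i, rfl⟩ _ ⟨j, rfl⟩
  rw [Subgroup.mem_bot, commutatorElement_eq_one_iff_mul_comm]
  simp [add_comm]

/-! ### The symplectic group -/

variable {F : Type*} [Field F] {n : ℕ}

theorem ds_wreath (Q : Subgroup SL(2, F)) (T : Subgroup (Equiv.Perm (Fin n))) {k : ℕ}
    (hT : ds T k = ⊥) (hQ : ds Q 2 = ⊥) : ds (wreath Q T) (k + 2) = ⊥ := by
  have step : ∀ j, ds (wreath Q T) j ≤ wreath Q (ds T j) := by
    intro j
    induction j with
    | zero => exact le_rfl
    | succ j hj =>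
      refine (Subgroup.commutator_mono hj hj).trans (Subgroup.commutator_le.2 ?_)
      rintro _ ⟨a, ha, σ, hσ, rfl⟩ _ ⟨b, hb, τ, hτ, rfl⟩
      refine ⟨_, ?_, ⁅σ, τ⁆, Subgroup.commutator_mem_commutator hσ hτ,
        by rw [commutatorElement_def, mk_inv, mk_inv, mk_mul, mk_mul, mk_mul]; rfl⟩
      intro i
      exact mul_mem (mul_mem (mul_mem (ha _) (hb _)) (inv_mem (ha _))) (inv_mem (hb _))
  have diag : ∀ A : Subgroup SL(2, F), ⁅wreath A (⊥ : Subgroup (Equiv.Perm (Fin n))),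
      wreath A (⊥ : Subgroup (Equiv.Perm (Fin n)))⁆ ≤
        wreath ⁅A, A⁆ (⊥ : Subgroup (Equiv.Perm (Fin n))) := by
    intro A
    refine Subgroup.commutator_le.2 ?_
    rintro _ ⟨a, ha, σ, hσ, rfl⟩ _ ⟨b, hb, τ, hτ, rfl⟩
    rw [Subgroup.mem_bot] at hσ hτ
    subst hσ hτ
    refine ⟨fun i => ⁅a i, b i⁆, fun i => Subgroup.commutator_mem_commutator (ha i) (hb i), 1,
      one_mem _, ?_⟩
    show ⁅diagHom a, diagHom b⁆ = diagHom (fun i => ⁅a i, b i⁆)
    rw [← map_commutatorElement]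
    rfl
  have h0 := step k
  rw [hT] at h0
  have h1 : ds (wreath Q T) (k + 1) ≤ wreath ⁅Q, Q⁆ ⊥ :=
    (Subgroup.commutator_mono h0 h0).trans (diag Q)
  have h2 : ds (wreath Q T) (k + 2) ≤ wreath (ds Q 2) ⊥ :=
    (Subgroup.commutator_mono h1 h1).trans (diag ⁅Q, Q⁆)
  rw [hQ] at h2
  refine eq_bot_iff.2 (h2.trans ?_)
  rintro _ ⟨a, ha, σ, hσ, rfl⟩
  rw [Subgroup.mem_bot] at hσ
  obtain rfl : a = 1 := funext fun i => Subgroup.mem_bot.1 (ha i)
  rw [Subgroup.mem_bot, hσ, mk_one]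

/-- The monomial elements supported on a set of coordinates. -/
def supported (A : Set (Fin n)) : Subgroup (Matrix.symplecticGroup (Fin n) F) where
  carrier := {g | ∃ (a : Fin n → SL(2, F)) (σ : Equiv.Perm (Fin n)),
    (∀ i ∉ A, a i = 1 ∧ σ i = i) ∧ g = mk a σ}
  one_mem' := ⟨1, 1, fun _ _ => ⟨rfl, rfl⟩, mk_one.symm⟩
  mul_mem' := by
    rintro _ _ ⟨a, σ, hA, rfl⟩ ⟨b, τ, hB, rfl⟩
    refine ⟨_, _, fun i hi => ?_, mk_mul a b σ τ⟩
    have hσ : σ⁻¹ i = i := Equiv.Perm.inv_eq_iff_eq.2 (hA i hi).2.symm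
    refine ⟨by rw [(hA i hi).1, hσ, (hB i hi).1, one_mul], ?_⟩
    rw [Equiv.Perm.mul_apply, (hB i hi).2, (hA i hi).2]
  inv_mem' := by
    rintro _ ⟨a, σ, hA, rfl⟩
    refine ⟨_, _, fun i hi => ⟨?_, Equiv.Perm.inv_eq_iff_eq.2 (hA i hi).2.symm⟩, mk_inv a σ⟩
    rw [(hA i hi).2, (hA i hi).1, inv_one]

theorem supported_comm {A B : Set (Fin n)} (hAB : ∀ i, i ∈ A → i ∉ B)
    {g h : Matrix.symplecticGroup (Fin n) F} (hg : g ∈ supported A) (hh : h ∈ supported B) :
    g * h = h * g := by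
  obtain ⟨a, σ, hA, rfl⟩ := hg
  obtain ⟨b, τ, hB, rfl⟩ := hh
  have key : ∀ i, i ∈ A → σ i ∈ A := fun i hi => by
    by_contra h
    have := σ.injective (hA _ h).2
    rw [this] at h
    exact h hi
  have keyB : ∀ i, i ∈ B → τ i ∈ B := fun i hi => by
    by_contra h
    have := τ.injective (hB _ h).2
    rw [this] at h
    exact h hi
  have keyi : ∀ i, i ∈ A → σ⁻¹ i ∈ A := fun i hi => by
    by_contra h
    exact h (by have := (hA _ h).2; rw [← Equiv.Perm.mul_apply, mul_inv_cancel] at this; exact this ▸ hi)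
  have keyiB : ∀ i, i ∈ B → τ⁻¹ i ∈ B := fun i hi => by
    by_contra h
    exact h (by have := (hB _ h).2; rw [← Equiv.Perm.mul_apply, mul_inv_cancel] at this; exact this ▸ hi)
  rw [mk_mul, mk_mul]
  congr 1
  · funext i
    by_cases hi : i ∈ A
    · have hτ : τ⁻¹ i = i := Equiv.Perm.inv_eq_iff_eq.2 (hB i (hAB i hi)).2.symm
      rw [(hB i (hAB i hi)).1, hτ, (hB _ (hAB _ (keyi i hi))).1, mul_one, one_mul]
    · have hσ : σ⁻¹ i = i := Equiv.Perm.inv_eq_iff_eq.2 (hA i hi).2.symm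
      by_cases hiB : i ∈ B
      · have : τ⁻¹ i ∉ A := fun h => hAB _ h (keyiB i hiB)
        rw [(hA i hi).1, hσ, (hA _ this).1, one_mul, mul_one]
      · have hτ : τ⁻¹ i = i := Equiv.Perm.inv_eq_iff_eq.2 (hB i hiB).2.symm
        rw [(hA i hi).1, hσ, hτ, (hA i hi).1, (hB i hiB).1]
  · ext i
    by_cases hi : i ∈ A
    · simp [(hB i (hAB i hi)).2, (hB _ (hAB _ (key i hi))).2]
    · by_cases hiB : i ∈ B
      · have : τ i ∉ A := fun h => hAB _ h (keyB i hiB)
        simp [(hA i hi).2, (hA _ this).2]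
      · simp [(hA i hi).2, (hB i hiB).2]

theorem supported_inf {A B : Set (Fin n)} (hAB : ∀ i, i ∈ A → i ∉ B) :
    (supported A ⊓ supported B : Subgroup (Matrix.symplecticGroup (Fin n) F)) = ⊥ := by
  refine (Subgroup.eq_bot_iff_forall _).2 ?_
  rintro _ ⟨⟨a, σ, hA, rfl⟩, ⟨b, τ, hB, he⟩⟩
  obtain ⟨rfl, rfl⟩ := mk_inj he
  have : a = 1 ∧ σ = 1 := by
    refine ⟨funext fun i => ?_, Equiv.ext fun i => ?_⟩
    all_goals by_cases hi : i ∈ A
    · exact (hB i (hAB i hi)).1
    · exact (hA i hi).1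
    · exact (hB i (hAB i hi)).2
    · exact (hA i hi).2
  rw [this.1, this.2, mk_one]

theorem conj_supported {A : Set (Fin n)} {π : Equiv.Perm (Fin n)} (hπ : π * π = 1)
    {g : Matrix.symplecticGroup (Fin n) F} (hg : g ∈ supported A) :
    permHom π * g * permHom π ∈ supported {i | π i ∈ A} := by
  obtain ⟨a, σ, hA, rfl⟩ := hg
  have hinv : π⁻¹ = π := inv_eq_of_mul_eq_one_right hπ
  refine ⟨fun i => a (π i), π * σ * π, fun i hi => ?_, ?_⟩
  · refine ⟨(hA _ hi).1, ?_⟩
    rw [Equiv.Perm.mul_apply, Equiv.Perm.mul_apply, (hA _ hi).2, ← Equiv.Perm.mul_apply, hπ,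
      Equiv.Perm.one_apply]
  · show mk 1 π * mk a σ * mk 1 π = _
    rw [mk_mul, mk_mul, hinv]
    congr 1
    funext i; simp

theorem exists_deep [Fintype F] (hF : Odd (Fintype.card F)) (j : ℕ) (hj : 2 ^ j ≤ n) :
    ∃ H : Subgroup (Matrix.symplecticGroup (Fin n) F),
      IsPGroup 2 H ∧ H ≤ supported {i | (i : ℕ) < 2 ^ j} ∧ ds H (j + 1) ≠ ⊥ := by
  induction j with
  | zero =>
    obtain ⟨Q, x, y, hQ, hx, hy, hne⟩ := H27.QuaternionSylow.exists_noncomm hF
    let i0 : Fin n := ⟨0, by omega⟩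
    let f : SL(2, F) →* Matrix.symplecticGroup (Fin n) F :=
      diagHom.comp (MonoidHom.mulSingle (fun _ : Fin n => SL(2, F)) i0)
    have hf : Function.Injective f := fun a b h => by
      have := congrFun (mk_inj h).1 i0
      simpa using this
    refine ⟨Q.map f, hQ.map f, ?_, ?_⟩
    · rintro _ ⟨z, -, rfl⟩
      refine ⟨_, 1, fun i hi => ⟨?_, rfl⟩, rfl⟩
      exact Pi.mulSingle_eq_of_ne (M := fun _ : Fin n => SL(2, F)) (i := i0) (fun h => hi (by simp [h, i0])) z
    · rw [ne_eq, ds_map, Subgroup.map_eq_bot_iff_of_injective _ hf]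
      intro hbot
      refine hne ?_
      have := (Subgroup.eq_bot_iff_forall _).1 hbot ⁅x, y⁆ (Subgroup.commutator_mem_commutator hx hy)
      exact commutatorElement_eq_one_iff_mul_comm.1 this
  | succ j ih =>
    have hj' : 2 ^ j * 2 ≤ n := by rwa [← pow_succ]
    obtain ⟨H, hH, hsupp, hds⟩ := ih (by omega)
    let p : Fin n → Fin n := fun i =>
      if h : (i : ℕ) < 2 ^ j then ⟨i + 2 ^ j, by omega⟩
      else if (i : ℕ) < 2 ^ j * 2 then ⟨i - 2 ^ j, by omega⟩ else i
    have hval : ∀ i : Fin n, ((p i : Fin n) : ℕ) = if (i : ℕ) < 2 ^ j then (i : ℕ) + 2 ^ j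
        else if (i : ℕ) < 2 ^ j * 2 then (i : ℕ) - 2 ^ j else i := fun i => by
      simp only [p]; split_ifs <;> rfl
    have hp : Function.Involutive p := fun i => Fin.ext (by
      rw [hval, hval]; split_ifs <;> omega)
    set π : Equiv.Perm (Fin n) := hp.toPerm
    have hπ : π * π = 1 := Equiv.ext fun i => hp i
    set A : Set (Fin n) := {i | (i : ℕ) < 2 ^ j}
    set B : Set (Fin n) := {i | π i ∈ A}
    have hAB : ∀ i, i ∈ A → i ∉ B := fun i hi hiB => by
      have h1 : ((p i : Fin n) : ℕ) < 2 ^ j := hiB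
      have h2 : (i : ℕ) < 2 ^ j := hi
      rw [hval, if_pos h2] at h1
      omega
    set s : Matrix.symplecticGroup (Fin n) F := permHom π with hsdef
    have hss : s * s = 1 := by rw [hsdef, ← map_mul, hπ, map_one]
    have hsinv : s⁻¹ = s := inv_eq_of_mul_eq_one_right hss
    set H' := H.map (MulAut.conj s).toMonoidHom with hH'def
    have hH' : H' ≤ supported B := by
      rintro _ ⟨h, hh, rfl⟩
      show s * h * s⁻¹ ∈ _
      rw [hsinv]
      exact conj_supported hπ (hsupp hh)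
    have hsH : ∀ h ∈ H, s * h * s ∈ H' := fun h hh =>
      ⟨h, hh, by show s * h * s⁻¹ = _; rw [hsinv]⟩
    have hsH' : ∀ h ∈ H', s * h * s ∈ H := by
      rintro _ ⟨h, hh, rfl⟩
      show s * (s * h * s⁻¹) * s ∈ H
      simpa [← mul_assoc, hss] using hh
    have hcomm : ∀ a ∈ H, ∀ b ∈ H', a * b = b * a := fun a ha b hb =>
      supported_comm hAB (hsupp ha) (hH' hb)
    have hs2 : IsPGroup 2 (Subgroup.zpowers s) := fun y => ⟨1, Subtype.ext (by
      obtain ⟨z, hz⟩ := Subgroup.mem_zpowers_iff.1 y.2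
      rw [pow_one, SubgroupClass.coe_pow, ← hz, ← zpow_natCast, ← _root_.zpow_mul, mul_comm,
        _root_.zpow_mul, zpow_natCast, pow_two, hss, _root_.one_zpow]
      rfl)⟩
    have hbase : IsPGroup 2 (H ⊔ H' : Subgroup (Matrix.symplecticGroup (Fin n) F)) := by
      refine hH.to_sup_of_normal_right' (hH.map _) fun a ha => ?_
      refine Subgroup.centralizer_le_normalizer _ ?_
      exact Subgroup.mem_centralizer_iff.2 fun b hb => (hcomm a ha b hb).symm
    have hnorm : Subgroup.zpowers s ≤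
        Subgroup.normalizer ((H ⊔ H' : Subgroup (Matrix.symplecticGroup (Fin n) F)) :
          Set (Matrix.symplecticGroup (Fin n) F)) := by
      have hle : H ⊔ H' ≤ (H ⊔ H').comap (MulAut.conj s).toMonoidHom := by
        refine sup_le (fun a ha => Subgroup.mem_comap.2 ?_) (fun a ha => Subgroup.mem_comap.2 ?_)
        · rw [MulEquiv.coe_toMonoidHom, MulAut.conj_apply, hsinv]
          exact Subgroup.mem_sup_right (hsH a ha)
        · rw [MulEquiv.coe_toMonoidHom, MulAut.conj_apply, hsinv]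
          exact Subgroup.mem_sup_left (hsH' a ha)
      have hin : ∀ g ∈ H ⊔ H', s * g * s⁻¹ ∈ H ⊔ H' := fun g hg => by
        simpa [MulAut.conj_apply] using hle hg
      rw [Subgroup.zpowers_le, Subgroup.mem_normalizer_iff]
      intro g
      refine ⟨hin g, fun h => ?_⟩
      have h' := hin _ h
      rw [hsinv] at h'
      simpa [← mul_assoc, hss, mul_assoc g s s] using h'
    refine ⟨Subgroup.zpowers s ⊔ (H ⊔ H'), hs2.to_sup_of_normal_right' hbase hnorm, ?_, ?_⟩
    · have hmono : ∀ C : Set (Fin n), (∀ i ∈ C, (i : ℕ) < 2 ^ j * 2) →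
          supported (F := F) C ≤ supported {i | (i : ℕ) < 2 ^ (j + 1)} := by
        rintro C hC _ ⟨a, σ, hA, rfl⟩
        exact ⟨a, σ, fun i hi => hA i fun h => hi (by rw [pow_succ]; exact hC i h), rfl⟩
      refine sup_le (Subgroup.zpowers_le.2 ?_) (sup_le (hsupp.trans (hmono A fun i hi => ?_))
        (hH'.trans (hmono B fun i hi => ?_)))
      · refine ⟨1, π, fun i hi => ⟨rfl, Fin.ext ?_⟩, rfl⟩
        have : ¬ (i : ℕ) < 2 ^ j * 2 := by rw [← pow_succ]; exact hi
        show ((p i : Fin n) : ℕ) = i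
        rw [hval, if_neg (by omega), if_neg this]
      · have : (i : ℕ) < 2 ^ j := hi
        omega
      · have h1 : ((p i : Fin n) : ℕ) < 2 ^ j := hi
        rw [hval] at h1
        split_ifs at h1 <;> omega
    · refine exists_ds_succ_ne_bot hss (Subgroup.mem_sup_left (Subgroup.mem_zpowers s))
        (le_sup_of_le_right le_sup_left) hsH hcomm ?_ hds
      exact eq_bot_iff.2 ((inf_le_inf hsupp hH').trans (le_of_eq (supported_inf hAB)))

/-- **Main result.** -/
theorem result [Fintype F] (hF : Odd (Fintype.card F)) (hn : 1 ≤ n)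
    (R : Sylow 2 (Matrix.symplecticGroup (Fin n) F)) :
    derivedSeries (R : Subgroup (Matrix.symplecticGroup (Fin n) F)) (Nat.log 2 (2 * n) + 1) = ⊥ ∧
      derivedSeries (R : Subgroup (Matrix.symplecticGroup (Fin n) F)) (Nat.log 2 (2 * n)) ≠ ⊥ := by
  have := Fact.mk Nat.prime_two
  have hlog : Nat.log 2 (2 * n) = Nat.log 2 n + 1 := by
    rw [mul_comm, Nat.log_mul_base (by norm_num) (by omega)]
  rw [ne_eq, derivedSeries_eq_bot_iff, derivedSeries_eq_bot_iff, hlog]
  have conj : ∀ P : Sylow 2 (Matrix.symplecticGroup (Fin n) F),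
      ∃ f : Matrix.symplecticGroup (Fin n) F →* Matrix.symplecticGroup (Fin n) F,
        Function.Injective f ∧ (R : Subgroup (Matrix.symplecticGroup (Fin n) F)) =
          (P : Subgroup (Matrix.symplecticGroup (Fin n) F)).map f := fun P => by
    obtain ⟨g, hg⟩ := MulAction.exists_smul_eq (Matrix.symplecticGroup (Fin n) F) P R
    exact ⟨(MulAut.conj g).toMonoidHom, (MulAut.conj g).injective,
      by rw [← hg, Sylow.coe_subgroup_smul]; rfl⟩
  constructor
  · obtain ⟨Q⟩ : Nonempty (Sylow 2 SL(2, F)) := inferInstance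
    obtain ⟨T⟩ : Nonempty (Sylow 2 (Equiv.Perm (Fin n))) := inferInstance
    have hcard : Nat.card (wreath (Q : Subgroup SL(2, F)) (T : Subgroup (Equiv.Perm (Fin n)))) =
        2 ^ (Nat.card (Matrix.symplecticGroup (Fin n) F)).factorization 2 := by
      rw [card_wreath, Q.card_eq_multiplicity, T.card_eq_multiplicity, padic_card hF, pow_add,
        ← pow_mul, mul_comm n]
    obtain ⟨f, -, hR⟩ := conj (Sylow.ofCard _ hcard)
    obtain ⟨k, -, ⟨e⟩⟩ := H27.QuaternionSylow.sylow_equiv_quaternion hF Q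
    have hQ : ds (Q : Subgroup SL(2, F)) 2 = ⊥ := by
      rw [← derivedSeries_eq_bot_iff]
      have h := map_derivedSeries_eq (f := e.symm.toMonoidHom) e.symm.surjective 2
      have h' : derivedSeries (QuaternionGroup (2 ^ k)) 2 = ⊥ := by
        have := ds_eq_map (⊤ : Subgroup (QuaternionGroup (2 ^ k))) 2
        rw [ds_quaternion, eq_comm, Subgroup.map_eq_bot_iff_of_injective _ (Subgroup.subtype_injective _)]
          at this
        rw [← map_derivedSeries_eq (f := (Subgroup.topEquiv (G := QuaternionGroup (2 ^ k))).toMonoidHom)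
          (MulEquiv.surjective _) 2, this, Subgroup.map_bot]
      rw [h', Subgroup.map_bot] at h
      exact h.symm
    rw [hR, ds_map, Sylow.coe_ofCard, ds_wreath _ _ (ds_perm n T) hQ, Subgroup.map_bot]
  · obtain ⟨H, hH, -, hds⟩ := exists_deep (F := F) hF (Nat.log 2 n)
      (Nat.pow_log_le_self 2 (by omega))
    obtain ⟨P, hP⟩ := hH.exists_le_sylow
    obtain ⟨f, hf, hR⟩ := conj P
    rw [hR, ds_map, Subgroup.map_eq_bot_iff_of_injective _ hf]
    exact fun h => hds (eq_bot_iff.2 ((ds_mono hP _).trans h.le))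

end Cfsg.Agent.H72.SymplecticSylowDerived
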