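import Cfsg.Agent.H72.WardKey

/-!
Ward's theorem: the case of an abelian `q`-group.
-/

set_option autoImplicit false

namespace Cfsg.Agent.H72

open Subgroup
open scoped commutatorElement

variable {V : Type*} [CommGroup V] [Finite V] {p q : ℕ} [Fact p.Prime] [Fact q.Prime]

theorem ward_abelian (Q R : Subgroup (MulAut V)) (hQ : IsPGroup q Q)
    (habel : ∀ x ∈ Q, ∀ y ∈ Q, Commute x y) (hpQ : ¬ p ∣ Nat.card Q) (hpR : ¬ p ∣ Nat.card R)
    (hcop : (Nat.card Q).Coprime (Nat.card V)) (a c : MulAut V) (hac : Commute a c)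
    (ha : a ^ p = 1) (hc : c ^ p = 1) (haQ : a ∈ normalizer (Q : Set (MulAut V)))
    (hcQ : c ∈ normalizer (Q : Set (MulAut V))) (hQa : ∀ x ∈ Q, Commute x a → x = 1)
    (hfix : ∀ j < p, ∀ x ∈ cIn Q (c * a ^ j), ∀ v, (c * a ^ j) v = v → x v = v)
    (hRa : ∀ y ∈ R, Commute y a) (hRQ : ∀ y ∈ R, y ∈ normalizer (Q : Set (MulAut V)))
    (hcR : c ∈ normalizer (R : Set (MulAut V))) (hRc : ∀ y ∈ R, Commute y c → y = 1)
    (hgen : Q ≤ closure {u | ∃ y ∈ R, ∃ x ∈ Q, u = y * x * y⁻¹ * x⁻¹}) : Q = ⊥ := by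
  classical
  have := finite_mulAut (V := V)
  have hline : ∀ j, (c * a ^ j) ^ p = 1 := fun j => by
    rw [(hac.symm.pow_right j).mul_pow, hc, ← pow_mul, mul_comm j, pow_mul, ha, one_pow, one_mul]
  have hdQ : ∀ j : ℕ, c * a ^ j ∈ normalizer (Q : Set (MulAut V)) := fun j =>
    mul_mem hcQ (pow_mem haQ j)
  have hdd : ∀ j k : ℕ, Commute (c * a ^ j) (c * a ^ k) := fun j k =>
    ((Commute.refl c).mul_right (hac.symm.pow_right k)).mul_left
      ((hac.pow_left j).mul_right ((Commute.refl a).pow_pow j k))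
  have hda : ∀ j : ℕ, Commute a (c * a ^ j) := fun j => hac.mul_right (Commute.self_pow a j)
  have hinter : ∀ j k, j < p → k < p → j ≠ k → ∀ x ∈ Q, Commute x (c * a ^ j) →
      Commute x (c * a ^ k) → x = 1 := by
    intro j k hj hk hjk x hx h1 h2
    refine hQa x hx ?_
    have := mem_of_two_lines ha (centralizer ({x} : Set (MulAut V))) hj hk hjk
      (mem_centralizer_singleton_iff.2 h1.symm.eq) (mem_centralizer_singleton_iff.2 h2.symm.eq)
    exact (mem_centralizer_singleton_iff.1 this).symm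
  let T : ℕ → Subgroup (MulAut V) :=
    fun j => closure {x | ∃ k < p, k ≠ j ∧ x ∈ cIn Q (c * a ^ k)}
  have hTQ : ∀ j, T j ≤ Q := fun j => (closure_le _).2 (by
    rintro x ⟨k, -, -, hx⟩; exact (mem_cIn.1 hx).1)
  have hTgen : ∀ j k, k < p → k ≠ j → cIn Q (c * a ^ k) ≤ T j := fun j k hk hkj x hx =>
    subset_closure ⟨k, hk, hkj, hx⟩
  have hTn : ∀ (g : MulAut V), g ∈ normalizer (Q : Set (MulAut V)) →
      (∀ k, Commute g (c * a ^ k)) → ∀ j, g ∈ normalizer (T j : Set (MulAut V)) := by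
    intro g hg hgd j
    refine mem_normalizer_of_conj_mem fun x hx => ?_
    have : (T j).map (MulAut.conj g).toMonoidHom ≤ T j := by
      rw [MonoidHom.map_closure, closure_le]
      rintro _ ⟨y, ⟨k, hk, hkj, hy⟩, rfl⟩
      exact hTgen j k hk hkj (conj_mem_cIn hg (hgd k) hy)
    exact this ⟨x, hx, rfl⟩
  -- `d_j` acts trivially modulo `T j`
  have hmod : ∀ j < p, c * a ^ j ∈ modSub Q (T j) (hTQ j) := by
    intro j hj
    have hS : Q ≤ closure {x | x ∈ Q ∧ ∃ k < p, Commute x (c * a ^ k)} := by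
      refine le_of_lines hQ hpQ hac ha hc haQ hcQ _ (fun x hx => ?_) (fun k hk x hx => ?_)
      · rw [hQa x (mem_cIn.1 hx).1 (mem_cIn.1 hx).2]
        exact one_mem _
      · exact subset_closure ⟨(mem_cIn.1 hx).1, k, hk, (mem_cIn.1 hx).2⟩
    refine mem_modSub_of_le (hTQ j) (fun x hx h hh => ?_) (hdQ j) hS rfl (fun x hx => hx.1) ?_
    · rw [(habel x hx h (hTQ j hh)).eq, mul_inv_cancel_right]
      exact hh
    · rintro x ⟨hx, k, hk, hxk⟩
      by_cases hkj : k = j
      · subst hkj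
        rw [hxk.symm.eq, mul_inv_cancel_right, mul_inv_cancel]
        exact one_mem _
      · have hxT : x ∈ T j := hTgen j k hk hkj (mem_cIn.2 ⟨hx, hxk⟩)
        exact mul_mem (conj_mem_of_mem_normalizer (hTn _ (hdQ j) (hdd j) j) hxT) (inv_mem hxT)
  have hcopZ : ∀ Z : Subgroup (MulAut V), Z ≤ Q → (Nat.card Z).Coprime (Nat.card V) := fun Z hZ =>
    Nat.Coprime.coprime_dvd_left (card_dvd_of_le hZ) hcop
  have hu : ∀ j < p, ∀ x ∈ cIn Q (c * a ^ j), ∀ v : V, ∀ t ∈ T j,
      t (x v * v⁻¹) = x v * v⁻¹ := by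
    intro j hj x hx v t ht
    have : T j ≤ MulAction.stabilizer (MulAut V) (x v * v⁻¹) := by
      rw [closure_le]
      rintro z ⟨k, hk, hkj, hz⟩
      have := Fintype.ofFinite (cIn Q (c * a ^ k))
      have hxZ : ∀ w ∈ cIn Q (c * a ^ k), Commute x w := fun w hw =>
        habel x (mem_cIn.1 hx).1 w (mem_cIn.1 hw).1
      refine prod_pow_mem_range_fixed (Z := cIn Q (c * a ^ k)) hxZ (hcopZ _ (cIn_le _ _))
        (fun w hw => ?_) v hz
      exact kernel_fixed (p := p) _ (c * a ^ j) (mem_normalizer_cIn (hdQ j) (hdd j k)) (hline j)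
        (fun y hy h => hinter j k hj hk (Ne.symm hkj) y (mem_cIn.1 hy).1 h (mem_cIn.1 hy).2)
        (hcopZ _ (cIn_le _ _)) hxZ (hfix j hj x hx) hw
    exact this ht
  -- `R` preserves the fixed space of `T j`
  have hRW : ∀ j < p, ∀ y ∈ R, ∀ v : V, (∀ t ∈ T j, t v = v) → ∀ t ∈ T j, t (y v) = y v := by
    intro j hj y hy v hv t ht
    have : T j ≤ MulAction.stabilizer (MulAut V) (y v) := by
      rw [closure_le]
      rintro x ⟨k, hk, hkj, hx⟩
      show x (y v) = y v
      set H := T k ⊔ (T j).map (MulAut.conj y).toMonoidHom with hH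
      have hHQ : H ≤ Q := sup_le (hTQ k) (by
        rintro _ ⟨z, hz, rfl⟩
        exact conj_mem_of_mem_normalizer (hRQ y hy) (hTQ j hz))
      have hd1 : c * a ^ k ∈ modSub Q H hHQ :=
        ⟨hdQ k, fun r hr => mem_sup_left ((hmod k hk).2 r hr)⟩
      have hd2 : y * (c * a ^ j) * y⁻¹ ∈ modSub Q H hHQ := by
        refine ⟨mul_mem (mul_mem (hRQ y hy) (hdQ j)) (inv_mem (hRQ y hy)), fun r hr => ?_⟩
        have hr' : y⁻¹ * r * y ∈ Q := by
          simpa using conj_mem_of_mem_normalizer (inv_mem (hRQ y hy)) hr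
        refine mem_sup_right ⟨_, (hmod j hj).2 _ hr', ?_⟩
        simp [mul_assoc]
      have hw : c⁻¹ * y * c * y⁻¹ ∈ R := by
        have := conj_mem_of_mem_normalizer (inv_mem hcR) hy
        exact mul_mem (by simpa using this) (inv_mem hy)
      set w := c⁻¹ * y * c * y⁻¹ with hwdef
      have hg : (c * a ^ k)⁻¹ * (y * (c * a ^ j) * y⁻¹) = w * a ^ ((j : ℤ) - k) := by
        have e1 : a ^ j * y⁻¹ = y⁻¹ * a ^ j := ((hRa y hy).pow_right j).inv_left.symm.eq
        have e2 : (a ^ k)⁻¹ * w = w * (a ^ k)⁻¹ := ((hRa w hw).pow_right k).inv_right.symm.eq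
        have e3 : (a ^ k)⁻¹ * a ^ j = a ^ ((j : ℤ) - k) := by
          rw [← zpow_natCast, ← zpow_natCast, ← zpow_neg, ← zpow_add, neg_add_eq_sub]
        calc (c * a ^ k)⁻¹ * (y * (c * a ^ j) * y⁻¹)
            = (a ^ k)⁻¹ * (c⁻¹ * (y * (c * (a ^ j * y⁻¹)))) := by simp [mul_assoc]
          _ = (a ^ k)⁻¹ * w * a ^ j := by rw [e1, hwdef]; simp [mul_assoc]
          _ = w * a ^ ((j : ℤ) - k) := by rw [e2, mul_assoc, e3]
      have hz : a ^ (((j : ℤ) - k) * (Nat.card R : ℤ)) ∈ modSub Q H hHQ := by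
        have h1 := pow_mem (mul_mem (inv_mem hd1) hd2) (Nat.card R)
        rw [hg, ((hRa w hw).zpow_right _).mul_pow,
          show w ^ Nat.card R = 1 from
            congrArg Subtype.val (pow_card_eq_one' (x := (⟨w, hw⟩ : R))),
          one_mul, ← zpow_natCast, ← zpow_mul] at h1
        exact h1
      have haM : a ∈ modSub Q H hHQ := by
        refine mem_of_zpow_mem ha _ ?_ hz
        intro hdvd
        rcases (Nat.prime_iff_prime_int.1 (Fact.out : p.Prime)).dvd_mul.1 hdvd with h | h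
        · obtain ⟨m, hm⟩ := h
          have hp0 : (0 : ℤ) < p := by exact_mod_cast (Fact.out : p.Prime).pos
          rcases lt_trichotomy m 0 with hm' | hm' | hm'
          · have : (j : ℤ) - k ≤ -p := by rw [hm]; nlinarith
            omega
          · subst hm'; simp only [mul_zero] at hm; omega
          · have : (p : ℤ) ≤ (j : ℤ) - k := by rw [hm]; nlinarith
            omega
        · exact hpR (Int.natCast_dvd_natCast.1 h)
      have hQH : Q ≤ H := by
        let f : Q → Q := fun r => ⟨a * r * a⁻¹ * (r : MulAut V)⁻¹,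
          mul_mem (conj_mem_of_mem_normalizer haQ r.2) (inv_mem r.2)⟩
        have hinj : Function.Injective f := by
          intro r s h
          have h' : a * (r : MulAut V) * a⁻¹ * (r : MulAut V)⁻¹ =
              a * s * a⁻¹ * (s : MulAut V)⁻¹ := congrArg Subtype.val h
          have h2 : ((s⁻¹ * r : Q) : MulAut V) = 1 := by
            refine hQa _ (s⁻¹ * r).2 ?_
            show ((s : MulAut V)⁻¹ * r) * a = a * ((s : MulAut V)⁻¹ * r)
            have hrs := habel _ (inv_mem s.2) (a * r * a⁻¹ * (r : MulAut V)⁻¹)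
              (mul_mem (conj_mem_of_mem_normalizer haQ r.2) (inv_mem r.2))
            symm
            calc a * ((s : MulAut V)⁻¹ * r) =
                  (a * (s : MulAut V) * a⁻¹ * (s : MulAut V)⁻¹ * s)⁻¹ *
                    (a * r * a⁻¹ * (r : MulAut V)⁻¹) * r * a := by group
              _ = ((s : MulAut V)⁻¹ * (a * (s : MulAut V) * a⁻¹ * (s : MulAut V)⁻¹)⁻¹ *
                    (a * r * a⁻¹ * (r : MulAut V)⁻¹)) * r * a := by group
              _ = _ := by rw [h']; group
          exact (inv_mul_eq_one.1 (Subtype.ext h2 : s⁻¹ * r = (1 : Q))).symm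
        intro r hr
        obtain ⟨s, hs⟩ := Finite.injective_iff_surjective.1 hinj ⟨r, hr⟩
        rw [show r = a * (s : MulAut V) * a⁻¹ * (s : MulAut V)⁻¹ from
          (congrArg Subtype.val hs).symm]
        exact haM.2 _ s.2
      have := Fintype.ofFinite (T k)
      set N := ∏ z : T k, (z : MulAut V) (y v) with hN
      have hxN : x N = N := by
        have hstab : H ≤ MulAction.stabilizer (MulAut V) N := by
          refine sup_le (fun z hz => ?_) ?_
          · exact norm_fixed (T k).subtype ⟨z, hz⟩ (y v)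
          · rintro _ ⟨z, hz, rfl⟩
            show (y * z * y⁻¹) N = N
            rw [hN, map_prod]
            refine Finset.prod_congr rfl fun s _ => ?_
            have hcs : Commute (y * z * y⁻¹) (s : MulAut V) :=
              habel _ (conj_mem_of_mem_normalizer (hRQ y hy) (hTQ j hz)) _ (hTQ k s.2)
            refine (congrArg (fun e : MulAut V => e (y v)) hcs.eq).trans ?_
            show (s : MulAut V) ((y * z * y⁻¹) (y v)) = _
            simp only [MulAut.mul_apply, MulAut.inv_def, MulEquiv.symm_apply_apply, hv z hz]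
        exact hstab (hQH (mem_cIn.1 hx).1)
      have h1 : (x (y v) * (y v)⁻¹) ^ Nat.card (T k) = 1 := by
        have e : ∏ z : T k, (z : MulAut V) (x (y v) * (y v)⁻¹) =
            (x (y v) * (y v)⁻¹) ^ Nat.card (T k) := by
          rw [Finset.prod_congr rfl (fun (z : T k) _ => hu k hk x hx (y v) z z.2),
            Finset.prod_const, Finset.card_univ, Nat.card_eq_fintype_card]
        rw [← e]
        simp only [map_mul, map_inv, Finset.prod_mul_distrib, Finset.prod_inv_distrib]
        have e2 : ∏ z : T k, (z : MulAut V) (x (y v)) = x N := by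
          rw [hN, map_prod]
          exact Finset.prod_congr rfl fun z _ =>
            (congrArg (fun e : MulAut V => e (y v))
              (habel x (mem_cIn.1 hx).1 z (hTQ k z.2)).eq).symm
        rw [e2, hxN, ← hN, mul_inv_cancel]
      exact mul_inv_eq_one.1
        (eq_of_pow_eq_pow_of_coprime (hcopZ _ (hTQ k)) (h1.trans (one_pow _).symm))
    exact this ht
  -- the kernel on the fixed space of `T j` is everything
  have hK : ∀ j < p, ∀ x ∈ Q, ∀ v : V, (∀ t ∈ T j, t v = v) → x v = v := by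
    intro j hj
    let K : Subgroup (MulAut V) :=
      { carrier := {x | x ∈ Q ∧ ∀ v : V, (∀ t ∈ T j, t v = v) → x v = v}
        one_mem' := ⟨one_mem _, fun v _ => rfl⟩
        mul_mem' := fun {x y} hx hy => ⟨mul_mem hx.1 hy.1, fun v hv => by
          rw [MulAut.mul_apply, hy.2 v hv, hx.2 v hv]⟩
        inv_mem' := fun {x} hx => ⟨inv_mem hx.1, fun v hv => by
          conv_lhs => rw [← hx.2 v hv]
          exact x.symm_apply_apply v⟩ }
    have hKQ : K ≤ Q := fun x hx => hx.1
    have hRK : ∀ y ∈ R, y ∈ normalizer (K : Set (MulAut V)) := fun y hy => by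
      refine mem_normalizer_of_conj_mem fun x hx =>
        ⟨conj_mem_of_mem_normalizer (hRQ y hy) hx.1, fun v hv => ?_⟩
      rw [MulAut.mul_apply, MulAut.mul_apply, hx.2 _ (hRW j hj y⁻¹ (inv_mem hy) v hv),
        MulAut.inv_def, MulEquiv.apply_symm_apply]
    have hd : c * a ^ j ∈ modSub Q K hKQ :=
      ⟨hdQ j, fun r hr => ⟨hTQ j ((hmod j hj).2 r hr), fun v hv => hv _ ((hmod j hj).2 r hr)⟩⟩
    have hle := le_of_modSub hKQ j hd hRa hRQ hRK hcR hRc hgen
    exact fun x hx v hv => (hle hx).2 v hv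
  rw [← le_bot_iff]
  refine le_of_lines hQ hpQ hac ha hc haQ hcQ _ (fun x hx => ?_) (fun j hj x hx => ?_)
  · exact mem_bot.2 (hQa x (mem_cIn.1 hx).1 (mem_cIn.1 hx).2)
  · refine mem_bot.2 (MulEquiv.ext fun v => ?_)
    refine eq_one_of_shift hcop (mem_cIn.1 hx).1 (u := x v * v⁻¹) ?_ ?_
    · rw [mul_comm v, inv_mul_cancel_right]
    · exact hK j hj x (mem_cIn.1 hx).1 _ (hu j hj x hx v)

end Cfsg.Agent.H72
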