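import Cfsg.Agent.H72.WardBasic

/-!
The key lemma for Ward's theorem, inside the automorphism group of an abelian group.
-/

set_option autoImplicit false

namespace Cfsg.Agent.H72

open Subgroup
open scoped commutatorElement

/-- Two commuting automorphisms: a common fixed point in an invariant coset. -/
theorem exists_fixed_mem_coset₂ {G : Type*} [Group G] [Finite G] {p : ℕ} [Fact p.Prime]
    (a c : MulAut G) (hac : Commute a c) (ha : a ^ p = 1) (hc : c ^ p = 1) (N : Subgroup G)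
    (hNa : ∀ x ∈ N, a x ∈ N) (hNc : ∀ x ∈ N, c x ∈ N) (hp : ¬ p ∣ Nat.card N) (g : G)
    (hga : g⁻¹ * a g ∈ N) (hgc : g⁻¹ * c g ∈ N) :
    ∃ n ∈ N, a (g * n) = g * n ∧ c (g * n) = g * n := by
  obtain ⟨n, hn, hfix⟩ := exists_fixed_mem_coset a ha N hNa hp g hga
  let F : Subgroup G :=
    { carrier := {x | a x = x}
      one_mem' := map_one a
      mul_mem' := fun {x y} (hx : a x = x) (hy : a y = y) => by
        show a (x * y) = x * y
        rw [map_mul, hx, hy]
      inv_mem' := fun {x} (hx : a x = x) => by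
        show a x⁻¹ = x⁻¹
        rw [map_inv, hx] }
  let M : Subgroup G := N ⊓ F
  have hcomm : ∀ x, a (c x) = c (a x) := fun x => congrArg (fun e : MulAut G => e x) hac.eq
  have hM : ∀ x ∈ M, c x ∈ M := by
    rintro x ⟨hx, hx'⟩
    exact ⟨hNc x hx, (hcomm x).trans (congrArg c hx')⟩
  have hgn : (g * n)⁻¹ * c (g * n) ∈ M := by
    refine ⟨?_, ?_⟩
    · have e : (g * n)⁻¹ * c (g * n) = n⁻¹ * (g⁻¹ * c g) * c n := by rw [map_mul]; group
      rw [e]
      show _ ∈ N
      exact mul_mem (mul_mem (inv_mem hn) hgc) (hNc n hn)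
    · show a ((g * n)⁻¹ * c (g * n)) = (g * n)⁻¹ * c (g * n)
      rw [map_mul, map_inv, hcomm, hfix]
  obtain ⟨m, hm, hmf⟩ := exists_fixed_mem_coset c hc M hM
    (fun h => hp (h.trans (card_dvd_of_le inf_le_left))) (g * n) hgn
  refine ⟨n * m, mul_mem hn hm.1, ?_, by rw [← mul_assoc]; exact hmf⟩
  rw [← mul_assoc, map_mul, hfix]
  exact congrArg (g * n * ·) hm.2

/-- A common fixed point of the image lifts, so it is trivial. -/
theorem fpf_pair_of_surjective {G H : Type*} [Group G] [Finite G] [Group H] {p : ℕ} [Fact p.Prime]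
    (φ : G →* H) (hφ : Function.Surjective φ) (a c : MulAut G) (hac : Commute a c)
    (ha : a ^ p = 1) (hc : c ^ p = 1) (hp : ¬ p ∣ Nat.card G) (fa fc : H → H)
    (hfa : ∀ g, φ (a g) = fa (φ g)) (hfc : ∀ g, φ (c g) = fc (φ g))
    (hfpf : ∀ g, a g = g → c g = g → g = 1) : ∀ x, fa x = x → fc x = x → x = 1 := by
  intro x hxa hxc
  obtain ⟨g, rfl⟩ := hφ x
  have h1 : fa 1 = 1 := by rw [← map_one φ, ← hfa, map_one]
  have h2 : fc 1 = 1 := by rw [← map_one φ, ← hfc, map_one]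
  obtain ⟨n, hn, hna, hnc⟩ := exists_fixed_mem_coset₂ a c hac ha hc φ.ker
    (fun y hy => by rw [MonoidHom.mem_ker] at hy ⊢; rw [hfa, hy, h1])
    (fun y hy => by rw [MonoidHom.mem_ker] at hy ⊢; rw [hfc, hy, h2])
    (fun h => hp (h.trans (card_subgroup_dvd_card _))) g
    (by rw [MonoidHom.mem_ker, map_mul, map_inv, hfa, hxa, inv_mul_cancel])
    (by rw [MonoidHom.mem_ker, map_mul, map_inv, hfc, hxc, inv_mul_cancel])
  have h := congrArg φ (hfpf _ hna hnc)
  rwa [map_mul, MonoidHom.mem_ker.1 hn, mul_one, map_one] at h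

section

variable {X : Type*} [Group X]

/-- Elements acting trivially on `Q` modulo `H`. -/
def modSub (Q H : Subgroup X) (hHQ : H ≤ Q) : Subgroup X where
  carrier := {g | g ∈ normalizer (Q : Set X) ∧ ∀ q ∈ Q, g * q * g⁻¹ * q⁻¹ ∈ H}
  one_mem' := ⟨one_mem _, fun q _ => by simp⟩
  mul_mem' := by
    rintro g h ⟨hg, hg'⟩ ⟨hh, hh'⟩
    refine ⟨mul_mem hg hh, fun q hq => ?_⟩
    set e := h * q * h⁻¹ * q⁻¹ with he
    have he' : e ∈ H := hh' q hq
    have h1 : g * e * g⁻¹ * e⁻¹ * e ∈ H := mul_mem (hg' e (hHQ he')) he'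
    have : g * h * q * (g * h)⁻¹ * q⁻¹ = (g * e * g⁻¹ * e⁻¹ * e) * (g * q * g⁻¹ * q⁻¹) := by
      rw [he]; group
    rw [this]
    exact mul_mem h1 (hg' q hq)
  inv_mem' := by
    rintro g ⟨hg, hg'⟩
    refine ⟨inv_mem hg, fun q hq => ?_⟩
    have hq' : g⁻¹ * q * g ∈ Q := by
      have := (mem_normalizer_iff.1 (inv_mem hg) q).1 hq
      simpa using this
    have h1 := inv_mem (hg' _ hq')
    simpa [mul_assoc] using h1

theorem mem_modSub {Q H : Subgroup X} {hHQ : H ≤ Q} {g : X} :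
    g ∈ modSub Q H hHQ ↔ g ∈ normalizer (Q : Set X) ∧ ∀ q ∈ Q, g * q * g⁻¹ * q⁻¹ ∈ H := Iff.rfl

/-- It suffices to check membership in `modSub` on generators, if `H` is normal in `Q`. -/
theorem mem_modSub_of_le {Q H S : Subgroup X} (hHQ : H ≤ Q) (hn : ∀ q ∈ Q, ∀ h ∈ H, q * h * q⁻¹ ∈ H)
    {g : X} (hg : g ∈ normalizer (Q : Set X)) (hS : Q ≤ S) {gens : Set X} (hSg : S = closure gens)
    (hgQ : gens ⊆ Q) (hgen : ∀ q ∈ gens, g * q * g⁻¹ * q⁻¹ ∈ H) : g ∈ modSub Q H hHQ := by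
  refine ⟨hg, fun q hq => ?_⟩
  have key : ∀ q ∈ S, q ∈ Q ∧ g * q * g⁻¹ * q⁻¹ ∈ H := by
    intro q hq
    rw [hSg] at hq
    induction hq using Subgroup.closure_induction with
    | mem x hx => exact ⟨hgQ hx, hgen x hx⟩
    | one => exact ⟨one_mem _, by simp⟩
    | mul x y _ _ ihx ihy =>
      refine ⟨mul_mem ihx.1 ihy.1, ?_⟩
      have : g * (x * y) * g⁻¹ * (x * y)⁻¹ =
          (g * x * g⁻¹ * x⁻¹) * (x * (g * y * g⁻¹ * y⁻¹) * x⁻¹) := by group
      rw [this]
      exact mul_mem ihx.2 (hn x ihx.1 _ ihy.2)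
    | inv x _ ih =>
      refine ⟨inv_mem ih.1, ?_⟩
      have : g * x⁻¹ * g⁻¹ * x⁻¹⁻¹ = x⁻¹ * (g * x * g⁻¹ * x⁻¹)⁻¹ * x⁻¹⁻¹ := by group
      rw [this]
      exact hn _ (inv_mem ih.1) _ (inv_mem ih.2)
  exact (key q (hS hq)).2

theorem mem_of_zpow_mem {p : ℕ} [hp : Fact p.Prime] {a : X} (ha : a ^ p = 1) (H : Subgroup X)
    {z : ℤ} (hz : ¬ (p : ℤ) ∣ z) (h : a ^ z ∈ H) : a ∈ H := by
  have hc : IsCoprime (p : ℤ) z := (Nat.prime_iff_prime_int.1 hp.out).coprime_iff_not_dvd.2 hz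
  obtain ⟨u, v, huv⟩ := hc
  rw [← zpow_one a, ← huv, zpow_add, mul_comm u, zpow_mul, zpow_natCast, ha, one_zpow, one_mul,
    mul_comm v, zpow_mul]
  exact zpow_mem h v

/-- `Q ⊓ C(d)`. -/
def cIn (Q : Subgroup X) (d : X) : Subgroup X := Q ⊓ centralizer ({d} : Set X)

theorem mem_cIn {Q : Subgroup X} {d x : X} : x ∈ cIn Q d ↔ x ∈ Q ∧ Commute x d := by
  rw [cIn, mem_inf, mem_centralizer_singleton_iff]
  rfl

theorem cIn_le (Q : Subgroup X) (d : X) : cIn Q d ≤ Q := inf_le_left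

theorem conj_mem_cIn {Q : Subgroup X} {d g x : X} (hg : g ∈ normalizer (Q : Set X))
    (hgd : Commute g d) (hx : x ∈ cIn Q d) : g * x * g⁻¹ ∈ cIn Q d := by
  rw [mem_cIn] at hx ⊢
  exact ⟨(mem_normalizer_iff.1 hg x).1 hx.1, (hgd.mul_left hx.2).mul_left hgd.inv_left⟩

/-- Conjugation by an element of the normalizer. -/
def conjRestrict (Q : Subgroup X) (b : X) (hb : b ∈ normalizer (Q : Set X)) : MulAut Q :=
  restrictAut Q (MulAut.conj b) (fun x => (mem_normalizer_iff.1 hb x).symm)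

theorem conjRestrict_coe {Q : Subgroup X} {b : X} (hb : b ∈ normalizer (Q : Set X)) (x : Q) :
    (conjRestrict Q b hb x : X) = b * x * b⁻¹ := rfl

theorem conjRestrict_pow {Q : Subgroup X} {b : X} (hb : b ∈ normalizer (Q : Set X)) (i : ℕ) :
    (conjRestrict Q b hb) ^ i = conjRestrict Q (b ^ i) (pow_mem hb i) := by
  induction i with
  | zero => ext x; simp [conjRestrict_coe]
  | succ i ih =>
    ext x
    rw [pow_succ, MulAut.mul_apply, ih]
    simp [conjRestrict_coe, pow_succ, mul_assoc]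

theorem conjRestrict_pow_eq_one {Q : Subgroup X} {b : X} (hb : b ∈ normalizer (Q : Set X)) {p : ℕ}
    (h : b ^ p = 1) : (conjRestrict Q b hb) ^ p = 1 := by
  ext x
  simp [conjRestrict_pow, conjRestrict_coe, h]

theorem conjRestrict_fixed {Q : Subgroup X} {b : X} (hb : b ∈ normalizer (Q : Set X)) (x : Q) :
    conjRestrict Q b hb x = x ↔ Commute (x : X) b := by
  rw [Subtype.ext_iff, conjRestrict_coe, mul_inv_eq_iff_eq_mul]
  exact eq_comm

theorem conjRestrict_mul {Q : Subgroup X} {b c : X} (hb : b ∈ normalizer (Q : Set X))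
    (hc : c ∈ normalizer (Q : Set X)) :
    conjRestrict Q b hb * conjRestrict Q c hc = conjRestrict Q (b * c) (mul_mem hb hc) := by
  ext x
  simp [MulAut.mul_apply, conjRestrict_coe, mul_assoc]

theorem conjRestrict_commute {Q : Subgroup X} {b c : X} (hb : b ∈ normalizer (Q : Set X))
    (hc : c ∈ normalizer (Q : Set X)) (h : Commute b c) :
    Commute (conjRestrict Q b hb) (conjRestrict Q c hc) := by
  show _ = _
  rw [conjRestrict_mul, conjRestrict_mul]
  ext x
  simp only [conjRestrict_coe, h.eq]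

theorem le_of_lines [Finite X] {p q : ℕ} [Fact p.Prime] [Fact q.Prime] {Q : Subgroup X}
    (hQ : IsPGroup q Q) (hpQ : ¬ p ∣ Nat.card Q) {a c : X} (hac : Commute a c) (ha : a ^ p = 1)
    (hc : c ^ p = 1) (haQ : a ∈ normalizer (Q : Set X)) (hcQ : c ∈ normalizer (Q : Set X))
    (S : Subgroup X) (hA : cIn Q a ≤ S) (hD : ∀ j < p, cIn Q (c * a ^ j) ≤ S) : Q ≤ S := by
  have h := eq_top_of_lines (p := p) hQ hpQ (conjRestrict Q a haQ) (conjRestrict Q c hcQ)
    (conjRestrict_commute haQ hcQ hac) (conjRestrict_pow_eq_one haQ ha)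
    (conjRestrict_pow_eq_one hcQ hc) (S.subgroupOf Q)
    (fun x hx => hA (mem_cIn.2 ⟨x.2, (conjRestrict_fixed haQ x).1 hx⟩))
    (fun j hj x hx => by
      rw [conjRestrict_pow, conjRestrict_mul] at hx
      exact hD j hj (mem_cIn.2 ⟨x.2, (conjRestrict_fixed _ x).1 hx⟩))
  exact subgroupOf_eq_top.1 h

end

section

variable {V : Type*} [CommGroup V] [Finite V] {p : ℕ} [Fact p.Prime]

/-- `R` centralizing `d` fixes the fixed points of `d`. -/
theorem fixed_centralized (R : Subgroup (MulAut V)) [Finite R] (b d : MulAut V)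
    (hbR : b ∈ normalizer (R : Set (MulAut V))) (hb : b ^ p = 1) (hbd : Commute b d)
    (hRd : ∀ y ∈ R, Commute y d) (hfpf : ∀ y ∈ R, Commute y b → y = 1)
    (hV : ∀ v, d v = v → b v = v → v = 1) (hcop : (Nat.card R).Coprime (Nat.card V))
    {y : MulAut V} (hy : y ∈ R) {v : V} (hv : d v = v) : y v = v := by
  have := Fintype.ofFinite R
  have app : ∀ {f g : MulAut V}, Commute f g → ∀ w, f (g w) = g (f w) :=
    fun h w => congrArg (fun e : MulAut V => e w) h.eq
  refine fixes_of_norm_eq_one (p := p) R.subtype b (conjRestrict R b hbR) (fun z => ?_)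
    (conjRestrict_pow_eq_one hbR hb)
    (fun z hz => Subtype.ext (hfpf z z.2 ((conjRestrict_fixed hbR z).1 hz))) hcop v (fun z => ?_)
    ⟨y, hy⟩
  · simp [conjRestrict_coe, mul_assoc]
  · refine hV _ ?_ (prod_pow_fixed (Fact.out : p.Prime).pos b hb _)
    rw [map_prod]
    refine Finset.prod_congr rfl fun i _ => ?_
    rw [app (hbd.symm.pow_right i), coe_subtype, ← app (hRd z z.2), hv]

/-- An element centralizing `Z` and fixing the fixed points of `d` fixes the kernel of the norm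
of `Z`, when `d` normalizes `Z` without fixed points. -/
theorem kernel_fixed (Z : Subgroup (MulAut V)) [Fintype Z] (d : MulAut V)
    (hdZ : d ∈ normalizer (Z : Set (MulAut V))) (hd : d ^ p = 1)
    (hfpf : ∀ z ∈ Z, Commute z d → z = 1) (hcop : (Nat.card Z).Coprime (Nat.card V))
    {x : MulAut V} (hxZ : ∀ z ∈ Z, Commute x z) (hx : ∀ w, d w = w → x w = w) {v : V}
    (hv : ∏ z : Z, (z : MulAut V) v = 1) : x v = v := by
  have h := norm_formula (p := p) Z.subtype d (conjRestrict Z d hdZ)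
    (fun z => by simp [conjRestrict_coe, mul_assoc]) (conjRestrict_pow_eq_one hdZ hd)
    (fun z hz => Subtype.ext (hfpf z z.2 ((conjRestrict_fixed hdZ z).1 hz))) v
  simp only [coe_subtype] at h
  have hzero : ∀ i : ℕ, ∏ z : Z, (z : MulAut V) ((d ^ i) v) = 1 := by
    intro i
    have e : ∏ z : Z, (z : MulAut V) ((d ^ i) v) = (d ^ i) (∏ z : Z, (z : MulAut V) v) := by
      rw [map_prod]
      refine (Fintype.prod_bijective (conjRestrict Z (d ^ i) (pow_mem hdZ i))
        (MulEquiv.bijective _) _ _ fun z => ?_).symm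
      rw [conjRestrict_coe, MulAut.mul_apply, MulAut.mul_apply, MulAut.inv_def,
        MulEquiv.symm_apply_apply]
    rw [e, hv, map_one]
  simp only [hzero, Finset.prod_const_one, one_mul] at h
  refine eq_of_pow_eq_pow_of_coprime hcop ?_
  rw [← map_pow, Nat.card_eq_fintype_card, ← h]
  simp only [map_prod]
  refine Finset.prod_congr rfl fun z _ => ?_
  rw [← map_prod, ← map_prod (z : MulAut V)]
  refine (congrArg (fun e : MulAut V => e _) (hxZ z z.2).eq).trans ?_
  exact congrArg (z : MulAut V) (hx _ (prod_pow_fixed (Fact.out : p.Prime).pos d hd _))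

end

end Cfsg.Agent.H72
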