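import Cfsg.Agent.H72.FPFourMain
import Cfsg.Agent.PGroups.Basic
import Mathlib.GroupTheory.Abelianization.Defs
import Mathlib.GroupTheory.Perm.Cycle.Type
import Mathlib.GroupTheory.Frattini

/-!
Two commuting automorphisms of prime exponent acting coprimely: fixed points in cosets, generation
by fixed points, and a norm identity.
-/

set_option autoImplicit false

namespace Cfsg.Agent.H72

open Subgroup

/-- An automorphism of exponent `p` has a fixed point in every invariant coset of an invariant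
subgroup of order prime to `p`. -/
theorem exists_fixed_mem_coset {G : Type*} [Group G] [Finite G] {p : ℕ} [Fact p.Prime]
    (σ : MulAut G) (hσ : σ ^ p = 1) (N : Subgroup G) (hN : ∀ x ∈ N, σ x ∈ N)
    (hp : ¬ p ∣ Nat.card N) (g : G) (hg : g⁻¹ * σ g ∈ N) : ∃ n ∈ N, σ (g * n) = g * n := by
  classical
  let α := {x : G // g⁻¹ * x ∈ N}
  have hmem : ∀ x : α, g⁻¹ * σ x.1 ∈ N := fun x => by
    have : g⁻¹ * σ x.1 = (g⁻¹ * σ g) * σ (g⁻¹ * x.1) := by
      rw [map_mul, map_inv]; group
    rw [this]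
    exact mul_mem hg (hN _ x.2)
  let f : α → α := fun x => ⟨σ x.1, hmem x⟩
  have hf : Function.Bijective f := Finite.injective_iff_bijective.1
    fun x y h => Subtype.ext (σ.injective (congrArg Subtype.val h))
  let τ : Equiv.Perm α := Equiv.ofBijective f hf
  have hpow : ∀ (k : ℕ) (x : α), ((τ ^ k) x).1 = (σ ^ k) x.1 := by
    intro k
    induction k with
    | zero => intro x; rfl
    | succ k ih =>
      intro x
      rw [pow_succ', pow_succ', Equiv.Perm.mul_apply, MulAut.mul_apply, ← ih]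
      rfl
  have := Fintype.ofFinite α
  have hcard : Nat.card α = Nat.card N := Nat.card_congr
    { toFun := fun x => ⟨g⁻¹ * x.1, x.2⟩
      invFun := fun n => ⟨g * n.1, by simp⟩
      left_inv := fun x => by simp
      right_inv := fun n => by simp }
  obtain ⟨x, hx⟩ := Equiv.Perm.exists_fixed_point_of_prime (p := p) (n := 1) (σ := τ)
    (by rwa [← Nat.card_eq_fintype_card, hcard])
    (by
      rw [pow_one]
      ext x
      rw [hpow, hσ]
      rfl)
  refine ⟨g⁻¹ * x.1, x.2, ?_⟩
  rw [mul_inv_cancel_left]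
  exact congrArg Subtype.val hx

/-- An element of exponent `p` is a power of each of its nontrivial powers. -/
theorem mem_of_pow_mem {G : Type*} [Group G] {p : ℕ} [hp : Fact p.Prime] {a : G} (ha : a ^ p = 1)
    (H : Subgroup G) {i : ℕ} (h0 : 0 < i) (hi : i < p) (h : a ^ i ∈ H) : a ∈ H := by
  have hc : i.Coprime p :=
    ((hp.out.coprime_iff_not_dvd).2 (Nat.not_dvd_of_pos_of_lt h0 hi)).symm
  obtain ⟨m, hm⟩ := exists_pow_eq_self_of_coprime (n := i)
    (Nat.Coprime.coprime_dvd_right (orderOf_dvd_of_pow_eq_one ha) hc)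
  rw [← hm]
  exact pow_mem h m

theorem fixed_of_pow_fixed {G : Type*} [Group G] {p : ℕ} [Fact p.Prime] {a : MulAut G}
    (ha : a ^ p = 1) {i : ℕ} (h0 : 0 < i) (hi : i < p) {x : G} (h : (a ^ i) x = x) : a x = x :=
  mem_of_pow_mem ha (MulAction.stabilizer (MulAut G) x) h0 hi h

/-- If the subgroup `H` contains two of the elements `c * a ^ j`, it contains `a`. -/
theorem mem_of_two_lines {G : Type*} [Group G] {p : ℕ} [Fact p.Prime] {a c : G} (ha : a ^ p = 1)
    (H : Subgroup G) {j k : ℕ} (hj : j < p) (hk : k < p) (hjk : j ≠ k) (h1 : c * a ^ j ∈ H)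
    (h2 : c * a ^ k ∈ H) : a ∈ H := by
  wlog hlt : j < k generalizing j k
  · exact this hk hj (Ne.symm hjk) h2 h1 (by omega)
  refine mem_of_pow_mem ha H (i := k - j) (by omega) (by omega) ?_
  have := mul_mem (inv_mem h1) h2
  have e : k = j + (k - j) := by omega
  rw [e, pow_add] at this
  simpa [mul_assoc] using this

theorem prod_pow_fixed {U : Type*} [CommGroup U] {p : ℕ} (hp : 0 < p) (b : MulAut U)
    (hb : b ^ p = 1) (w : U) :
    b (∏ i ∈ Finset.range p, (b ^ i) w) = ∏ i ∈ Finset.range p, (b ^ i) w := by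
  obtain ⟨m, rfl⟩ : ∃ m, p = m + 1 := ⟨p - 1, by omega⟩
  rw [map_prod]
  have e : ∀ i, b ((b ^ i) w) = (b ^ (i + 1)) w := fun i => by
    rw [pow_succ', MulAut.mul_apply]
  simp only [e]
  rw [Finset.prod_range_succ (fun i => (b ^ (i + 1)) w), Finset.prod_range_succ' (fun i => (b ^ i) w),
    hb, pow_zero]

/-- `u ^ p` is a product of fixed points of the `p + 1` elements `a`, `c * a ^ j`. -/
theorem pow_mem_of_lines {U : Type*} [CommGroup U] {p : ℕ} [hp : Fact p.Prime] (a c : MulAut U)
    (hac : Commute a c) (ha : a ^ p = 1) (hc : c ^ p = 1) (H : Subgroup U)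
    (hA : ∀ u, a u = u → u ∈ H) (hD : ∀ j < p, ∀ u, (c * a ^ j) u = u → u ∈ H) (u : U) :
    u ^ p ∈ H := by
  have hline : ∀ j, (c * a ^ j) ^ p = 1 := fun j => by
    rw [(hac.symm.pow_right j).mul_pow, hc, ← pow_mul, mul_comm j, pow_mul, ha, one_pow, one_mul]
  have hF : ∏ j ∈ Finset.range p, ∏ i ∈ Finset.range p, ((c * a ^ j) ^ i) u ∈ H :=
    prod_mem fun j hj => hD j (Finset.mem_range.1 hj) _ (prod_pow_fixed hp.out.pos _ (hline j) u)
  rw [Finset.prod_comm] at hF
  obtain ⟨m, hm⟩ : ∃ m, p = m + 1 := ⟨p - 1, by have := hp.out.pos; omega⟩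
  have hsplit : ∏ i ∈ Finset.range p, ∏ j ∈ Finset.range p, ((c * a ^ j) ^ i) u =
      (∏ i ∈ Finset.range m, ∏ j ∈ Finset.range p, ((a ^ (i + 1)) ^ j) ((c ^ (i + 1)) u)) * u ^ p := by
    conv_lhs => arg 1; rw [hm]
    rw [Finset.prod_range_succ']
    congr 1
    · refine Finset.prod_congr rfl fun i _ => Finset.prod_congr rfl fun j _ => ?_
      rw [(hac.symm.pow_right j).mul_pow, ← pow_mul, ← pow_mul, mul_comm j,
        ((hac.symm.pow_pow (i + 1) ((i + 1) * j))).eq, MulAut.mul_apply]
    · simp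
  rw [hsplit] at hF
  refine (Subgroup.mul_mem_cancel_left H ?_).1 hF
  refine prod_mem fun i hi => hA _ ?_
  have hi' := Finset.mem_range.1 hi
  refine fixed_of_pow_fixed ha (i := i + 1) (by omega) (by omega) ?_
  exact prod_pow_fixed hp.out.pos _ (by rw [← pow_mul, mul_comm, pow_mul, ha, one_pow]) _

/-- The induced automorphism of the abelianization. -/
def abAut (Q : Type*) [Group Q] : MulAut Q →* MulAut (Abelianization Q) where
  toFun σ := MulEquiv.abelianizationCongr σ
  map_one' := by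
    ext x
    obtain ⟨y, rfl⟩ := QuotientGroup.mk_surjective x
    rfl
  map_mul' σ τ := by
    ext x
    obtain ⟨y, rfl⟩ := QuotientGroup.mk_surjective x
    rfl

theorem abAut_of {Q : Type*} [Group Q] (σ : MulAut Q) (x : Q) :
    abAut Q σ (Abelianization.of x) = Abelianization.of (σ x) := rfl

/-- A fixed point of the abelianization of a group of order prime to `p` lifts to a fixed point. -/
theorem exists_fixed_lift {Q : Type*} [Group Q] [Finite Q] {p : ℕ} [Fact p.Prime]
    (σ : MulAut Q) (hσ : σ ^ p = 1) (hp : ¬ p ∣ Nat.card Q) (u : Abelianization Q)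
    (hu : abAut Q σ u = u) : ∃ x : Q, σ x = x ∧ Abelianization.of x = u := by
  obtain ⟨y, rfl⟩ := QuotientGroup.mk_surjective u
  have hy : y⁻¹ * σ y ∈ commutator Q := by
    rw [← Abelianization.ker_of, MonoidHom.mem_ker, map_mul, map_inv, ← abAut_of σ y]
    exact inv_mul_eq_one.2 hu.symm
  obtain ⟨n, hn, hfix⟩ := exists_fixed_mem_coset σ hσ (commutator Q)
    (fun x hx => Subgroup.characteristic_iff_map_le.1 inferInstance σ ⟨x, hx, rfl⟩)
    (fun h => hp (h.trans (card_subgroup_dvd_card _))) y hy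
  refine ⟨y * n, hfix, ?_⟩
  have hn' : Abelianization.of n = 1 := by
    rwa [← MonoidHom.mem_ker, Abelianization.ker_of]
  rw [map_mul, hn', mul_one]
  rfl

/-- A `q`-group is generated by the fixed points of `a` and of the `c * a ^ j`. -/
theorem eq_top_of_lines {Q : Type*} [Group Q] [Finite Q] {p q : ℕ} [Fact p.Prime] [Fact q.Prime]
    (hQ : IsPGroup q Q) (hpQ : ¬ p ∣ Nat.card Q) (a c : MulAut Q) (hac : Commute a c)
    (ha : a ^ p = 1) (hc : c ^ p = 1) (S : Subgroup Q) (hA : ∀ x, a x = x → x ∈ S)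
    (hD : ∀ j < p, ∀ x, (c * a ^ j) x = x → x ∈ S) : S = ⊤ := by
  have hline : ∀ j, (c * a ^ j) ^ p = 1 := fun j => by
    rw [(hac.symm.pow_right j).mul_pow, hc, ← pow_mul, mul_comm j, pow_mul, ha, one_pow, one_mul]
  have hmap : ∀ u : Abelianization Q, u ∈ S.map Abelianization.of := by
    intro u
    have h := pow_mem_of_lines (p := p) (abAut Q a) (abAut Q c) (hac.map _)
      (by rw [← map_pow, ha, map_one]) (by rw [← map_pow, hc, map_one]) (S.map Abelianization.of)
      (fun v hv => by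
        obtain ⟨x, hx, rfl⟩ := exists_fixed_lift a ha hpQ v hv
        exact ⟨x, hA x hx, rfl⟩)
      (fun j hj v hv => by
        rw [← map_pow, ← map_mul] at hv
        obtain ⟨x, hx, rfl⟩ := exists_fixed_lift _ (hline j) hpQ v hv
        exact ⟨x, hD j hj x hx, rfl⟩) u
    have hdvd : Nat.card (Abelianization Q) ∣ Nat.card Q :=
      Subgroup.card_dvd_of_surjective Abelianization.of QuotientGroup.mk_surjective
    have hcop : Nat.Coprime p (orderOf u) :=
      (Fact.out : p.Prime).coprime_iff_not_dvd.2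
        fun h' => hpQ ((h'.trans (orderOf_dvd_natCard u)).trans hdvd)
    obtain ⟨m, hm⟩ := exists_pow_eq_self_of_coprime hcop
    rw [← hm]
    exact pow_mem h m
  refine frattini_nongenerating (top_le_iff.1 ?_)
  intro x _
  obtain ⟨s, hs, he⟩ := hmap (Abelianization.of x)
  have hk : s⁻¹ * x ∈ commutator Q := by
    rw [← Abelianization.ker_of, MonoidHom.mem_ker, map_mul, map_inv, he, inv_mul_cancel]
  have := mul_mem (mem_sup_left (T := frattini Q) hs)
    (mem_sup_right (S := S) (Cfsg.Agent.PGroups.commutator_le_frattini hQ hk))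
  rwa [mul_inv_cancel_left] at this

/-- The norm identity for a group `R` of automorphisms and an automorphism `b` of exponent `p`
normalizing it without fixed points. -/
theorem norm_formula {U : Type*} [CommGroup U] {R : Type*} [Group R] [Fintype R] {p : ℕ}
    [hp : Fact p.Prime] (ρ : R →* MulAut U) (b : MulAut U) (γ : MulAut R)
    (hcomm : ∀ y, b * ρ y = ρ (γ y) * b) (hγp : γ ^ p = 1) (hγ : ∀ y, γ y = y → y = 1) (v : U) :
    ∏ y : R, ρ y (∏ i ∈ Finset.range p, (b ^ i) (ρ y⁻¹ v)) =
      (∏ i ∈ Finset.range (p - 1), ∏ y : R, ρ y ((b ^ (i + 1)) v)) * v ^ Fintype.card R := by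
  have hcommp : ∀ (i : ℕ) y, b ^ i * ρ y = ρ ((γ ^ i) y) * b ^ i := by
    intro i
    induction i with
    | zero => intro y; simp
    | succ i ih =>
      intro y
      rw [pow_succ' b, mul_assoc, ih, ← mul_assoc, hcomm, mul_assoc]
      rw [show (γ ^ (i + 1)) y = γ ((γ ^ i) y) by rw [pow_succ', MulAut.mul_apply]]
  simp only [map_prod]
  rw [Finset.prod_comm]
  obtain ⟨m, rfl⟩ : ∃ m, p = m + 1 := ⟨p - 1, by have := hp.out.pos; omega⟩
  rw [Finset.prod_range_succ', Nat.add_sub_cancel]
  congr 1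
  · refine Finset.prod_congr rfl fun i hi => ?_
    have hi' := Finset.mem_range.1 hi
    have hinj : Function.Injective fun y : R => y * (γ ^ (i + 1)) y⁻¹ := by
      intro y z h
      simp only at h
      have h2 : (γ ^ (i + 1)) (z⁻¹ * y) = z⁻¹ * y := by
        have h3 := congrArg (fun w => z⁻¹ * w) h
        simp only [map_inv, ← mul_assoc, inv_mul_cancel, one_mul] at h3
        rw [map_mul, map_inv, ← h3]
        group
      exact (inv_mul_eq_one.1 (hγ _
        (fixed_of_pow_fixed hγp (i := i + 1) (by omega) (by omega) h2))).symm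
    refine Fintype.prod_bijective _ (Finite.injective_iff_bijective.1 hinj) _ _ fun y => ?_
    rw [map_mul, MulAut.mul_apply]
    exact congrArg (ρ y) (congrArg (fun (e : MulAut U) => e v) (hcommp (i + 1) y⁻¹))
  · have e : ∀ y : R, ρ y ((b ^ 0) (ρ y⁻¹ v)) = v := fun y => by
      rw [pow_zero, MulAut.one_apply, ← MulAut.mul_apply, ← map_mul, mul_inv_cancel, map_one,
        MulAut.one_apply]
    simp only [e]
    rw [Finset.prod_const, Finset.card_univ]

theorem norm_fixed {U : Type*} [CommGroup U] {R : Type*} [Group R] [Fintype R]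
    (ρ : R →* MulAut U) (x : R) (w : U) : ρ x (∏ y : R, ρ y w) = ∏ y : R, ρ y w := by
  rw [map_prod]
  exact Fintype.prod_bijective (fun y => x * y) (Group.mulLeft_bijective _) _ _ fun y => by
    rw [map_mul, MulAut.mul_apply]

theorem eq_of_pow_eq_pow_of_coprime {U : Type*} [CommGroup U] [Finite U] {n : ℕ}
    (h : n.Coprime (Nat.card U)) {u w : U} (he : u ^ n = w ^ n) : u = w := by
  rw [← mul_inv_eq_one, ← orderOf_eq_one_iff]
  refine Nat.eq_one_of_dvd_coprimes h (orderOf_dvd_of_pow_eq_one ?_) (orderOf_dvd_natCard _)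
  rw [mul_pow, inv_pow, he, mul_inv_cancel]

/-- If all `b`-norms of an invariant set vanish, `R` fixes that set. -/
theorem fixes_of_norm_eq_one {U : Type*} [CommGroup U] [Finite U] {R : Type*} [Group R]
    [Fintype R] {p : ℕ} [Fact p.Prime] (ρ : R →* MulAut U) (b : MulAut U) (γ : MulAut R)
    (hcomm : ∀ y, b * ρ y = ρ (γ y) * b) (hγp : γ ^ p = 1) (hγ : ∀ y, γ y = y → y = 1)
    (hcop : (Nat.card R).Coprime (Nat.card U)) (v : U)
    (hv : ∀ y : R, ∏ i ∈ Finset.range p, (b ^ i) (ρ y v) = 1) (x : R) : ρ x v = v := by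
  have h := norm_formula ρ b γ hcomm hγp hγ v
  simp only [hv, map_one, Finset.prod_const_one] at h
  refine eq_of_pow_eq_pow_of_coprime hcop ?_
  rw [← map_pow, Nat.card_eq_fintype_card, eq_inv_of_mul_eq_one_right h.symm, map_inv, map_prod]
  simp only [norm_fixed]

end Cfsg.Agent.H72
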