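import Cfsg.Agent.H72.WardAbelian

/-!
Ward's theorem: a fixed-point-free pair of automorphisms forces coprime actions to be trivial.
-/

set_option autoImplicit false

namespace Cfsg.Agent.H72

open Subgroup
open scoped commutatorElement

theorem mem_normalizer_commutator {X : Type*} [Group X] [Finite X] {Q : Subgroup X} {g : X}
    (hg : g ∈ normalizer (Q : Set X)) : g ∈ normalizer ((⁅Q, Q⁆ : Subgroup X) : Set X) := by
  refine mem_normalizer_of_conj_mem fun x hx => ?_
  have : (⁅Q, Q⁆).map (MulAut.conj g).toMonoidHom ≤ ⁅Q, Q⁆ := by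
    rw [map_commutator]
    refine commutator_mono ?_ ?_ <;>
    · rintro _ ⟨y, hy, rfl⟩
      exact conj_mem_of_mem_normalizer hg hy
  exact this ⟨x, hx, rfl⟩

/-- The action of a normalizing subgroup. -/
def conjHom {X : Type*} [Group X] (Q R : Subgroup X) (h : ∀ y ∈ R, y ∈ normalizer (Q : Set X)) :
    R →* MulAut Q where
  toFun y := conjRestrict Q y (h y y.2)
  map_one' := by ext x; simp [conjRestrict_coe]
  map_mul' y z := by ext x; simp [conjRestrict_coe, MulAut.mul_apply, mul_assoc]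

theorem prod_of_conj_eq_one {Q : Type*} [Group Q] {R : Type*} [Group R] [Fintype R]
    (σ : R →* MulAut Q) (x : Q) (z : R) :
    ∏ y : R, Abelianization.of (σ y (σ z x * x⁻¹)) = 1 := by
  simp only [map_mul, map_inv, Finset.prod_mul_distrib, Finset.prod_inv_distrib]
  rw [mul_inv_eq_one]
  exact Fintype.prod_bijective (fun y => y * z) (Group.mulRight_bijective _) _ _
    fun y => by rw [map_mul, MulAut.mul_apply]

variable {V : Type*} [CommGroup V] [Finite V] {p q : ℕ} [Fact p.Prime] [Fact q.Prime]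

/-- The fixed points of `a` on `Q` lie in `⁅Q, Q⁆`, when `Q` is generated by commutators with `R`. -/
theorem cIn_le_commutator (Q R : Subgroup (MulAut V)) (hpQ : ¬ p ∣ Nat.card Q)
    (hQR : (Nat.card R).Coprime (Nat.card Q)) (a c : MulAut V) (hac : Commute a c)
    (ha : a ^ p = 1) (hc : c ^ p = 1) (haQ : a ∈ normalizer (Q : Set (MulAut V)))
    (hcQ : c ∈ normalizer (Q : Set (MulAut V))) (hQA : ∀ x ∈ Q, Commute x a → Commute x c → x = 1)
    (hRa : ∀ y ∈ R, Commute y a) (hRQ : ∀ y ∈ R, y ∈ normalizer (Q : Set (MulAut V)))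
    (hcR : c ∈ normalizer (R : Set (MulAut V))) (hRc : ∀ y ∈ R, Commute y c → y = 1)
    (hgen : Q ≤ closure {u | ∃ y ∈ R, ∃ x ∈ Q, u = y * x * y⁻¹ * x⁻¹}) :
    cIn Q a ≤ ⁅Q, Q⁆ := by
  classical
  have := finite_mulAut (V := V)
  have := Fintype.ofFinite R
  have : Finite (Abelianization Q) := Finite.of_surjective Abelianization.of QuotientGroup.mk_surjective
  have := Fintype.ofFinite (Abelianization Q)
  let ca := conjRestrict Q a haQ
  let cc := conjRestrict Q c hcQ
  let σ := conjHom Q R hRQ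
  let ρ : R →* MulAut (Abelianization Q) := (abAut Q).comp σ
  let γ := conjRestrict R c hcR
  have hcomm : ∀ y, abAut Q cc * ρ y = ρ (γ y) * abAut Q cc := by
    intro y
    show abAut Q cc * abAut Q (σ y) = abAut Q (σ (γ y)) * abAut Q cc
    rw [← map_mul, ← map_mul]
    congr 1
    ext x
    simp [σ, γ, cc, conjHom, conjRestrict_coe, MulAut.mul_apply, mul_assoc]
  have hcard : Nat.card (Abelianization Q) ∣ Nat.card Q :=
    Subgroup.card_dvd_of_surjective Abelianization.of QuotientGroup.mk_surjective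
  have hcopU : (Nat.card R).Coprime (Nat.card (Abelianization Q)) :=
    Nat.Coprime.coprime_dvd_right hcard hQR
  have hfU : ∀ u, abAut Q ca u = u → abAut Q cc u = u → u = 1 :=
    fpf_pair_of_surjective (p := p) Abelianization.of QuotientGroup.mk_surjective ca cc
      (conjRestrict_commute haQ hcQ hac) (conjRestrict_pow_eq_one haQ ha)
      (conjRestrict_pow_eq_one hcQ hc) hpQ _ _ (fun g => rfl) (fun g => rfl)
      (fun g h1 h2 => Subtype.ext (hQA g g.2 ((conjRestrict_fixed haQ g).1 h1)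
        ((conjRestrict_fixed hcQ g).1 h2)))
  have hkill : ∀ x : Q, ∏ y : R, ρ y (Abelianization.of x) = 1 := by
    let φ : Q →* Abelianization Q := ∏ y : R, Abelianization.of.comp (σ y).toMonoidHom
    have hφ : ∀ x, φ x = ∏ y : R, ρ y (Abelianization.of x) := fun x => by
      simp only [φ, MonoidHom.finsetProd_apply]
      rfl
    intro x
    rw [← hφ, ← MonoidHom.mem_ker]
    have hle : closure {u | ∃ y ∈ R, ∃ x ∈ Q, u = y * x * y⁻¹ * x⁻¹} ≤ φ.ker.map Q.subtype := by
      rw [closure_le]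
      rintro _ ⟨z, hz, r, hr, rfl⟩
      refine ⟨σ ⟨z, hz⟩ ⟨r, hr⟩ * (⟨r, hr⟩ : Q)⁻¹, ?_, rfl⟩
      show φ _ = 1
      simp only [φ, MonoidHom.finsetProd_apply]
      exact prod_of_conj_eq_one σ _ _
    obtain ⟨x', hx', he⟩ := hle (hgen x.2)
    rwa [← Subtype.ext (show (x' : MulAut V) = x from he)]
  intro x hx
  rw [mem_cIn] at hx
  set X' : Q := ⟨x, hx.1⟩
  have hfix : ∀ y : R, ρ y (Abelianization.of X') = Abelianization.of X' := by
    refine fixes_of_norm_eq_one (p := p) ρ (abAut Q cc) γ hcomm (conjRestrict_pow_eq_one hcR hc)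
      (fun z hz => Subtype.ext (hRc z z.2 ((conjRestrict_fixed hcR z).1 hz))) hcopU _ (fun y => ?_)
    refine hfU _ ?_ (prod_pow_fixed (Fact.out : p.Prime).pos _
      (by rw [← map_pow, conjRestrict_pow_eq_one hcQ hc, map_one]) _)
    rw [map_prod]
    refine Finset.prod_congr rfl fun i _ => ?_
    have h1 : abAut Q ca (ρ y (Abelianization.of X')) = ρ y (Abelianization.of X') := by
      show Abelianization.of (ca (σ y X')) = Abelianization.of (σ y X')
      congr 1
      exact (conjRestrict_fixed haQ _).2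
        (((hRa y y.2).mul_left hx.2).mul_left (hRa y y.2).inv_left)
    calc abAut Q ca ((abAut Q cc ^ i) (ρ y (Abelianization.of X')))
        = (abAut Q cc ^ i) (abAut Q ca (ρ y (Abelianization.of X'))) :=
          congrArg (fun e : MulAut (Abelianization Q) => e (ρ y (Abelianization.of X')))
            (((conjRestrict_commute haQ hcQ hac).map (abAut Q)).pow_right i).eq
      _ = _ := by rw [h1]
  have h := hkill X'
  simp only [hfix, Finset.prod_const, Finset.card_univ] at h
  have h1 : Abelianization.of X' = 1 :=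
    eq_of_pow_eq_pow_of_coprime (n := Fintype.card R)
      (by rwa [← Nat.card_eq_fintype_card]) (h.trans (one_pow _).symm)
  rw [← MonoidHom.mem_ker, Abelianization.ker_of] at h1
  have h2 : x ∈ (commutator Q).map Q.subtype := ⟨X', h1, rfl⟩
  rwa [_root_.commutator_def, map_commutator, ← MonoidHom.range_eq_map, range_subtype] at h2

/-- The key lemma. -/
theorem ward_key (a c : MulAut V) (hac : Commute a c) (ha : a ^ p = 1) (hc : c ^ p = 1)
    (hV : ∀ v, a v = v → c v = v → v = 1) (R : Subgroup (MulAut V)) (hpR : ¬ p ∣ Nat.card R)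
    (hRa : ∀ y ∈ R, Commute y a) (hcR : c ∈ normalizer (R : Set (MulAut V)))
    (hRc : ∀ y ∈ R, Commute y c → y = 1) :
    ∀ (n : ℕ) (Q : Subgroup (MulAut V)), Nat.card Q = n → IsPGroup q Q → ¬ p ∣ Nat.card Q →
      (Nat.card Q).Coprime (Nat.card V) → (Nat.card R).Coprime (Nat.card Q) →
      a ∈ normalizer (Q : Set (MulAut V)) → c ∈ normalizer (Q : Set (MulAut V)) →
      (∀ y ∈ R, y ∈ normalizer (Q : Set (MulAut V))) →
      (∀ x ∈ Q, Commute x a → Commute x c → x = 1) → ∀ y ∈ R, ∀ x ∈ Q, Commute y x := by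
  classical
  have := finite_mulAut (V := V)
  intro n
  induction n using Nat.strong_induction_on with
  | _ n ih =>
  intro Q hn hQ hpQ hcop hQR haQ hcQ hRQ hQA
  rcases eq_or_ne Q ⊥ with rfl | hQne
  · intro y _ x hx
    rw [mem_bot.1 hx]
    exact Commute.one_right y
  have small : ∀ S : Subgroup (MulAut V), S < Q → a ∈ normalizer (S : Set (MulAut V)) →
      c ∈ normalizer (S : Set (MulAut V)) → (∀ y ∈ R, y ∈ normalizer (S : Set (MulAut V))) →
      ∀ y ∈ R, ∀ x ∈ S, Commute y x := fun S hS h1 h2 h3 =>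
    have hd := card_dvd_of_le hS.le
    ih _ (hn ▸ lt_of_not_ge fun hle => hS.ne (eq_of_le_of_card_ge hS.le hle)) S rfl
      (hQ.to_le hS.le) (fun h => hpQ (h.trans hd)) (Nat.Coprime.coprime_dvd_left hd hcop)
      (Nat.Coprime.coprime_dvd_right hd hQR) h1 h2 h3 (fun x hx => hQA x (hS.le hx))
  have hDlt : ⁅Q, Q⁆ < Q := by
    have : Group.IsNilpotent Q := hQ.isNilpotent
    have : Nontrivial Q := (nontrivial_iff_ne_bot Q).2 hQne
    rw [← Q.range_subtype, MonoidHom.range_eq_map, ← map_commutator, map_subtype_lt_map_subtype]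
    exact Group.IsSolvable.commutator_lt_top_of_nontrivial Q
  set D := ⁅Q, Q⁆ with hD
  have hDQ : D ≤ Q := hDlt.le
  have hRD : ∀ y ∈ R, ∀ d ∈ D, Commute y d := small D hDlt (mem_normalizer_commutator haQ)
    (mem_normalizer_commutator hcQ) (fun y hy => mem_normalizer_commutator (hRQ y hy))
  -- commutators with `R`
  set C := closure {u | ∃ y ∈ R, ∃ x ∈ Q, u = y * x * y⁻¹ * x⁻¹} with hC
  have hCQ : C ≤ Q := by
    refine (closure_le _).2 ?_
    rintro _ ⟨y, hy, x, hx, rfl⟩
    exact mul_mem (conj_mem_of_mem_normalizer (hRQ y hy) hx) (inv_mem hx)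
  rcases hCQ.lt_or_eq with hlt | hgen'
  · have hCn : ∀ g, g ∈ normalizer (Q : Set (MulAut V)) → g ∈ normalizer (R : Set (MulAut V)) →
        g ∈ normalizer (C : Set (MulAut V)) := fun g hgQ hgR => by
      refine mem_normalizer_of_conj_mem fun u hu => ?_
      have : C.map (MulAut.conj g).toMonoidHom ≤ C := by
        rw [hC, MonoidHom.map_closure, closure_le]
        rintro _ ⟨_, ⟨y, hy, x, hx, rfl⟩, rfl⟩
        exact subset_closure ⟨g * y * g⁻¹, conj_mem_of_mem_normalizer hgR hy, g * x * g⁻¹,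
          conj_mem_of_mem_normalizer hgQ hx, by simp [mul_assoc]⟩
      exact this ⟨u, hu, rfl⟩
    have haR : a ∈ normalizer (R : Set (MulAut V)) := mem_normalizer_of_conj_mem fun y hy => by
      rw [(hRa y hy).symm.eq, mul_inv_cancel_right]; exact hy
    have hsm := small C hlt (hCn a haQ haR) (hCn c hcQ hcR)
      (fun y hy => hCn y (hRQ y hy) (le_normalizer hy))
    intro y hy x hx
    set u := y * x * y⁻¹ * x⁻¹ with hu
    have hyu : Commute y u := hsm y hy u (subset_closure ⟨y, hy, x, hx, rfl⟩)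
    have hpow : ∀ m : ℕ, y ^ m * x * (y ^ m)⁻¹ = u ^ m * x := by
      intro m
      induction m with
      | zero => simp
      | succ m ihm =>
        calc y ^ (m + 1) * x * (y ^ (m + 1))⁻¹ = y * (y ^ m * x * (y ^ m)⁻¹) * y⁻¹ := by
              rw [pow_succ']; simp [mul_assoc]
          _ = u ^ m * (y * x * y⁻¹) := by
              rw [ihm, ← mul_assoc, (hyu.pow_right m).eq]; simp [mul_assoc]
          _ = u ^ (m + 1) * x := by rw [pow_succ, hu]; simp [mul_assoc]
    have h := hpow (Nat.card R)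
    rw [show y ^ Nat.card R = 1 from
      congrArg Subtype.val (pow_card_eq_one' (x := (⟨y, hy⟩ : R)))] at h
    simp only [one_mul, inv_one, mul_one] at h
    have hu1 : u ^ Nat.card R = 1 := by simpa using h.symm
    have huQ : u ∈ Q := hCQ (subset_closure ⟨y, hy, x, hx, rfl⟩)
    have hu2 : u ^ Nat.card Q = 1 :=
      congrArg Subtype.val (pow_card_eq_one' (x := (⟨u, huQ⟩ : Q)))
    have hg := pow_gcd_eq_one.2 ⟨hu1, hu2⟩
    rw [hQR, pow_one, hu, mul_inv_eq_one, mul_inv_eq_iff_eq_mul] at hg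
    exact hg
  -- now `Q` is generated by commutators with `R`; we show it is trivial
  exfalso
  refine hQne ?_
  have hgen : Q ≤ C := hgen'.ge
  have hcent : ∀ d ∈ D, ∀ x ∈ Q, d * x = x * d := by
    intro d hd x hx
    have hx' := hgen hx
    induction hx' using Subgroup.closure_induction with
    | mem g hg =>
      obtain ⟨y, hy, r, hr, rfl⟩ := hg
      have hd' : r⁻¹ * d * r ∈ D := by
        simpa using conj_mem_of_mem_normalizer
          (inv_mem (mem_normalizer_commutator (le_normalizer hr))) hd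
      have e1 := hRD y hy _ hd'
      have e2 := hRD y hy _ hd
      have e3 : y * (r⁻¹ * d * r) * y⁻¹ = (y * r * y⁻¹)⁻¹ * (y * d * y⁻¹) * (y * r * y⁻¹) := by
        group
      rw [e1.eq, e2.eq, mul_inv_cancel_right, mul_inv_cancel_right] at e3
      calc d * (y * r * y⁻¹ * r⁻¹) = (y * r * y⁻¹) * ((y * r * y⁻¹)⁻¹ * d * (y * r * y⁻¹)) * r⁻¹ := by
            group
        _ = y * r * y⁻¹ * r⁻¹ * d := by rw [← e3]; group
    | one => simp
    | mul g h hg' hh' ihg ihh =>
      rw [← mul_assoc, ihg (hCQ hg'), mul_assoc, ihh (hCQ hh'), ← mul_assoc]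
    | inv g hg' ihg => exact Commute.inv_right (show Commute d g from ihg (hCQ hg'))
  have haD := cIn_le_commutator (p := p) Q R hpQ hQR a c hac ha hc haQ hcQ hQA hRa hRQ hcR hRc hgen
  rw [← hD] at haD
  have hline : ∀ j, (c * a ^ j) ^ p = 1 := fun j => by
    rw [(hac.symm.pow_right j).mul_pow, hc, ← pow_mul, mul_comm j, pow_mul, ha, one_pow, one_mul]
  have hdQ : ∀ j : ℕ, c * a ^ j ∈ normalizer (Q : Set (MulAut V)) := fun j =>
    mul_mem hcQ (pow_mem haQ j)
  have hda : ∀ j : ℕ, Commute a (c * a ^ j) := fun j => hac.mul_right (Commute.self_pow a j)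
  have hdd : ∀ j k : ℕ, Commute (c * a ^ j) (c * a ^ k) := fun j k =>
    ((Commute.refl c).mul_right (hac.symm.pow_right k)).mul_left
      ((hac.pow_left j).mul_right ((Commute.refl a).pow_pow j k))
  have hcommc : ∀ j x, Commute x (c * a ^ j) → Commute x a → Commute x c := fun j x h1 h2 => by
    have := h1.mul_right ((h2.pow_right j).inv_right)
    rwa [mul_inv_cancel_right] at this
  have hfixd : ∀ j, ∀ x ∈ cIn Q (c * a ^ j), ∀ v, (c * a ^ j) v = v → x v = v := fun j x hx v hv =>
    cIn_fixes (p := p) a (c * a ^ j) haQ ha (hda j)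
      (fun y hy h1 h2 => hQA y hy h2 (hcommc j y h1 h2))
      (fun w h1 h2 => hV w h2 (by
        have e : (a ^ j) w = w := MulAction.mem_stabilizer_iff.1
          (pow_mem (show a ∈ MulAction.stabilizer (MulAut V) w from h2) j)
        rw [MulAut.mul_apply, e] at h1
        exact h1)) hcop hx hv
  have hfixa : ∀ x ∈ cIn Q a, ∀ v, a v = v → x v = v := fun x hx v hv =>
    cIn_fixes (p := p) c a hcQ hc hac.symm hQA hV hcop hx hv
  have hcopZ : ∀ Z : Subgroup (MulAut V), Z ≤ Q → (Nat.card Z).Coprime (Nat.card V) := fun Z hZ =>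
    Nat.Coprime.coprime_dvd_left (card_dvd_of_le hZ) hcop
  have hDc : ∀ d ∈ D, ∀ x ∈ Q, Commute x d := fun d hd x hx => (hcent d hd x hx).symm
  have haD' : a ∈ normalizer (D : Set (MulAut V)) := mem_normalizer_commutator haQ
  -- the fixed points of each `c * a ^ k` on `D` are trivial
  have hDk : ∀ k < p, cIn D (c * a ^ k) = ⊥ := by
    intro k hk
    have := Fintype.ofFinite (cIn D (c * a ^ k))
    set Z := cIn D (c * a ^ k) with hZdef
    have hZQ : Z ≤ Q := (cIn_le _ _).trans hDQ
    set K := kerFix Q Z with hKdef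
    have hZc : ∀ x ∈ Q, ∀ z ∈ Z, Commute x z := fun x hx z hz => hDc z (cIn_le _ _ hz) x hx
    have hQnK : ∀ x ∈ Q, ∀ h ∈ K, x * h * x⁻¹ ∈ K := fun x hx h hh => by
      refine conj_mem_kerFix (le_normalizer hx) (mem_normalizer_of_conj_mem fun z hz => ?_) hh
      rw [(hZc x hx z hz).eq, mul_inv_cancel_right]
      exact hz
    have hKnorm : ∀ g ∈ normalizer (Q : Set (MulAut V)), g ∈ normalizer (Z : Set (MulAut V)) →
        g ∈ normalizer (K : Set (MulAut V)) := fun g h1 h2 =>
      mem_normalizer_of_conj_mem fun x hx => conj_mem_kerFix h1 h2 hx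
    have hdZ : ∀ g, g ∈ normalizer (Q : Set (MulAut V)) → Commute g (c * a ^ k) →
        g ∈ normalizer (Z : Set (MulAut V)) := fun g hgQ hg =>
      mem_normalizer_cIn (mem_normalizer_commutator hgQ) hg
    have hmodK : c * a ^ k ∈ modSub Q K (kerFix_le Q Z) := by
      have hS : Q ≤ closure {x | x ∈ Q ∧ (Commute x a ∨ ∃ j < p, Commute x (c * a ^ j))} :=
        le_of_lines hQ hpQ hac ha hc haQ hcQ _
          (fun x hx => subset_closure ⟨(mem_cIn.1 hx).1, Or.inl (mem_cIn.1 hx).2⟩)
          (fun j hj x hx => subset_closure ⟨(mem_cIn.1 hx).1, Or.inr ⟨j, hj, (mem_cIn.1 hx).2⟩⟩)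
      refine mem_modSub_of_le (kerFix_le Q Z) hQnK (hdQ k) hS rfl (fun x hx => hx.1) ?_
      have hconj : ∀ x ∈ K, (c * a ^ k) * x * (c * a ^ k)⁻¹ * x⁻¹ ∈ K := fun x hx =>
        mul_mem (conj_mem_of_mem_normalizer
          (hKnorm _ (hdQ k) (hdZ _ (hdQ k) (Commute.refl _))) hx) (inv_mem hx)
      rintro x ⟨hx, hxa | ⟨j, hj, hxj⟩⟩
      · refine hconj x ⟨hx, fun v hv => ?_⟩
        exact kernel_fixed (p := p) Z a (hdZ a haQ (hda k)) ha
          (fun z hz h => hQA z (hZQ hz) h (hcommc k z (mem_cIn.1 hz).2 h)) (hcopZ Z hZQ)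
          (hZc x hx) (hfixa x (mem_cIn.2 ⟨hx, hxa⟩)) hv
      · by_cases hjk : j = k
        · subst hjk
          rw [hxj.symm.eq, mul_inv_cancel_right, mul_inv_cancel]
          exact one_mem _
        · refine hconj x ⟨hx, fun v hv => ?_⟩
          refine kernel_fixed (p := p) Z (c * a ^ j) (hdZ _ (hdQ j) (hdd j k)) (hline j) ?_
            (hcopZ Z hZQ) (hZc x hx) (hfixd j x (mem_cIn.2 ⟨hx, hxj⟩)) hv
          intro z hz h
          have hza := mem_of_two_lines ha (centralizer ({z} : Set (MulAut V))) hj hk hjk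
            (mem_centralizer_singleton_iff.2 h.symm.eq)
            (mem_centralizer_singleton_iff.2 (mem_cIn.1 hz).2.symm.eq)
          have hza' : Commute z a := (mem_centralizer_singleton_iff.1 hza).symm
          exact hQA z (hZQ hz) hza' (hcommc j z h hza')
    have hRZ : ∀ y ∈ R, y ∈ normalizer (Z : Set (MulAut V)) := fun y hy =>
      mem_normalizer_of_conj_mem fun z hz => by
        rw [(hRD y hy z (cIn_le _ _ hz)).eq, mul_inv_cancel_right]
        exact hz
    exact eq_bot_of_le_kerFix hZQ hcop (le_of_modSub (kerFix_le Q Z) k hmodK hRa hRQ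
      (fun y hy => hKnorm y (hRQ y hy) (hRZ y hy)) hcR hRc hgen)
  have hDa : D ≤ cIn D a :=
    le_of_lines (hQ.to_le hDQ) (fun h => hpQ (h.trans (card_dvd_of_le hDQ))) hac ha hc haD'
      (mem_normalizer_commutator hcQ) _ le_rfl (fun j hj => by rw [hDk j hj]; exact bot_le)
  have hDbot : D = ⊥ := by
    have := Fintype.ofFinite D
    refine eq_bot_of_le_kerFix hDQ hcop ?_
    set K := kerFix Q D
    have hQKD : Q ≤ K ⊔ D := le_of_lines hQ hpQ hac ha hc haQ hcQ _ (haD.trans le_sup_right)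
      (fun j hj x hx => mem_sup_left ⟨(mem_cIn.1 hx).1, fun v hv =>
        kernel_fixed (p := p) D (c * a ^ j) (mem_normalizer_commutator (hdQ j)) (hline j)
          (fun z hz h => by
            have := hDk j hj
            exact mem_bot.1 (this ▸ mem_cIn.2 ⟨hz, h⟩))
          (hcopZ D hDQ) (fun z hz => hDc z hz x (mem_cIn.1 hx).1) (hfixd j x hx) hv⟩)
    have hdec : ∀ g ∈ K ⊔ D, ∃ x ∈ K, ∃ d ∈ D, g = x * d := by
      intro g hg
      have : K ⊔ D = closure ((K : Set (MulAut V)) ∪ D) := by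
        rw [Subgroup.closure_union, Subgroup.closure_eq, Subgroup.closure_eq]
      rw [this] at hg
      induction hg using Subgroup.closure_induction with
      | mem w hw =>
        rcases hw with hw | hw
        · exact ⟨w, hw, 1, one_mem _, (mul_one w).symm⟩
        · exact ⟨1, one_mem _, w, hw, (one_mul w).symm⟩
      | one => exact ⟨1, one_mem _, 1, one_mem _, (mul_one 1).symm⟩
      | mul g h _ _ ihg ihh =>
        obtain ⟨x, hx, d, hd, rfl⟩ := ihg
        obtain ⟨x', hx', d', hd', rfl⟩ := ihh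
        refine ⟨x * x', mul_mem hx hx', d * d', mul_mem hd hd', ?_⟩
        rw [mul_assoc x, ← mul_assoc d, hcent d hd x' hx'.1]
        simp [mul_assoc]
      | inv g _ ihg =>
        obtain ⟨x, hx, d, hd, rfl⟩ := ihg
        exact ⟨x⁻¹, inv_mem hx, d⁻¹, inv_mem hd, by
          rw [mul_inv_rev, hcent _ (inv_mem hd) _ (inv_mem hx.1)]⟩
    have hDK : D ≤ K := by
      rw [hD, commutator_le]
      intro g hg h hh
      obtain ⟨x, hx, d, hd, rfl⟩ := hdec g (hQKD hg)
      obtain ⟨x', hx', d', hd', rfl⟩ := hdec h (hQKD hh)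
      have e : ⁅x * d, x' * d'⁆ = ⁅x, x'⁆ := by
        have e0 : d * (x' * d') = x' * d' * d := by
          rw [hcent d hd _ (mul_mem hx'.1 (hDQ hd'))]
        have e1 : d' * x⁻¹ = x⁻¹ * d' := hcent d' hd' _ (inv_mem hx.1)
        rw [commutatorElement_def, commutatorElement_def, mul_assoc x d, e0]
        calc x * (x' * d' * d) * (x * d)⁻¹ * (x' * d')⁻¹
            = x * x' * (d' * x⁻¹) * (d')⁻¹ * x'⁻¹ := by group
          _ = _ := by rw [e1]; group
      rw [e, commutatorElement_def]
      exact mul_mem (mul_mem (mul_mem hx hx') (inv_mem hx)) (inv_mem hx')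
    exact hQKD.trans (sup_le le_rfl hDK)
  have habel : ∀ x ∈ Q, ∀ y ∈ Q, Commute x y := fun x hx y hy => by
    have h := commutator_mem_commutator hx hy
    rw [← hD, hDbot, mem_bot, commutatorElement_eq_one_iff_mul_comm] at h
    exact h
  exact ward_abelian (p := p) Q R hQ habel hpQ hpR hcop a c hac ha hc haQ hcQ
    (fun x hx h => mem_bot.1 (hDbot ▸ haD (mem_cIn.2 ⟨hx, h⟩)))
    (fun j _ => hfixd j) hRa hRQ hcR hRc hgen

end Cfsg.Agent.H72
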