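import Cfsg.Agent.H72.WardAction

/-!
The key lemma for Ward's theorem.
-/

set_option autoImplicit false

namespace Cfsg.Agent.H72

open Subgroup
open scoped commutatorElement

section

variable {X : Type*} [Group X]

theorem mem_normalizer_of_conj_mem [Finite X] {H : Subgroup X} {g : X}
    (h : ∀ x ∈ H, g * x * g⁻¹ ∈ H) : g ∈ normalizer (H : Set X) :=
  mem_normalizer_iff.2 fun x => (mem_iff_of_mapsTo H (MulAut.conj g) h x).symm

theorem conj_mem_of_mem_normalizer {H : Subgroup X} {g : X} (hg : g ∈ normalizer (H : Set X))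
    {x : X} (hx : x ∈ H) : g * x * g⁻¹ ∈ H :=
  (mem_normalizer_iff.1 hg x).1 hx

theorem mem_normalizer_cIn [Finite X] {Q : Subgroup X} {d g : X}
    (hg : g ∈ normalizer (Q : Set X)) (hgd : Commute g d) :
    g ∈ normalizer (cIn Q d : Set X) :=
  mem_normalizer_of_conj_mem fun _ hx => conj_mem_cIn hg hgd hx

theorem conj_mem_modSub {Q K : Subgroup X} {hKQ : K ≤ Q} {g m : X}
    (hgQ : g ∈ normalizer (Q : Set X)) (hgK : g ∈ normalizer (K : Set X))
    (hm : m ∈ modSub Q K hKQ) : g * m * g⁻¹ ∈ modSub Q K hKQ := by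
  refine ⟨mul_mem (mul_mem hgQ hm.1) (inv_mem hgQ), fun q hq => ?_⟩
  have hq' : g⁻¹ * q * g ∈ Q := by
    simpa using conj_mem_of_mem_normalizer (inv_mem hgQ) hq
  have h := conj_mem_of_mem_normalizer hgK (hm.2 _ hq')
  simpa [mul_assoc] using h

/-- The automorphisms `c a ^ j` acting trivially on `Q` modulo `K` force `R` to do so. -/
theorem le_of_modSub [Finite X] {Q R K : Subgroup X} (hKQ : K ≤ Q) {a c : X} (j : ℕ)
    (hd : c * a ^ j ∈ modSub Q K hKQ) (hRa : ∀ y ∈ R, Commute y a)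
    (hRQ : ∀ y ∈ R, y ∈ normalizer (Q : Set X)) (hRK : ∀ y ∈ R, y ∈ normalizer (K : Set X))
    (hcR : c ∈ normalizer (R : Set X)) (hfpf : ∀ y ∈ R, Commute y c → y = 1)
    (hgen : Q ≤ closure {u | ∃ y ∈ R, ∃ q ∈ Q, u = y * q * y⁻¹ * q⁻¹}) : Q ≤ K := by
  have hmem : ∀ y ∈ R, c⁻¹ * y * c * y⁻¹ ∈ R := fun y hy => by
    have := conj_mem_of_mem_normalizer (inv_mem hcR) hy
    exact mul_mem (by simpa using this) (inv_mem hy)
  let f : R → R := fun y => ⟨c⁻¹ * y * c * (y : X)⁻¹, hmem y y.2⟩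
  have hinj : Function.Injective f := by
    intro y z h
    have h' : c⁻¹ * (y : X) * c * (y : X)⁻¹ = c⁻¹ * z * c * (z : X)⁻¹ := congrArg Subtype.val h
    have : ((z⁻¹ * y : R) : X) = 1 := by
      refine hfpf _ (z⁻¹ * y).2 ?_
      show ((z : X)⁻¹ * y) * c = c * ((z : X)⁻¹ * y)
      calc ((z : X)⁻¹ * y) * c = (z : X)⁻¹ * c * (c⁻¹ * y * c * (y : X)⁻¹) * y := by group
        _ = c * ((z : X)⁻¹ * y) := by rw [h']; group
    exact (inv_mul_eq_one.1 (Subtype.ext this : z⁻¹ * y = (1 : R))).symm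
  have hR : R ≤ modSub Q K hKQ := by
    intro w hw
    obtain ⟨y, hy⟩ := Finite.injective_iff_surjective.1 hinj ⟨w, hw⟩
    have hy' : c⁻¹ * (y : X) * c * (y : X)⁻¹ = w := congrArg Subtype.val hy
    have h1 := mul_mem (inv_mem hd) (conj_mem_modSub (hRQ _ y.2) (hRK _ y.2) hd)
    have hya : (a ^ j) * (y : X)⁻¹ = (y : X)⁻¹ * a ^ j :=
      ((hRa _ y.2).pow_right j).inv_left.symm.eq
    have hw' : a ^ j * w = w * a ^ j := ((hRa _ hw).pow_right j).symm.eq
    rw [show (c * a ^ j)⁻¹ * ((y : X) * (c * a ^ j) * (y : X)⁻¹) = w by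
      rw [mul_assoc (y : X), mul_assoc c, hya]
      calc (c * a ^ j)⁻¹ * ((y : X) * (c * ((y : X)⁻¹ * a ^ j))) =
            (a ^ j)⁻¹ * ((c⁻¹ * y * c * (y : X)⁻¹) * a ^ j) := by group
        _ = w := by rw [hy', ← hw', inv_mul_cancel_left]] at h1
    exact h1
  refine hgen.trans ((closure_le _).2 ?_)
  rintro _ ⟨y, hy, q, hq, rfl⟩
  exact (hR hy).2 q hq

end

section

variable {V : Type*} [CommGroup V]

/-- Elements of `Q` fixing the kernel of the norm of `Z`. -/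
def kerFix (Q Z : Subgroup (MulAut V)) [Fintype Z] : Subgroup (MulAut V) where
  carrier := {x | x ∈ Q ∧ ∀ v, ∏ z : Z, (z : MulAut V) v = 1 → x v = v}
  one_mem' := ⟨one_mem _, fun v _ => rfl⟩
  mul_mem' := fun {x y} hx hy => ⟨mul_mem hx.1 hy.1, fun v hv => by
    rw [MulAut.mul_apply, hy.2 v hv, hx.2 v hv]⟩
  inv_mem' := fun {x} hx => ⟨inv_mem hx.1, fun v hv => by
    conv_lhs => rw [← hx.2 v hv]
    exact x.symm_apply_apply v⟩

theorem kerFix_le (Q Z : Subgroup (MulAut V)) [Fintype Z] : kerFix Q Z ≤ Q := fun _ hx => hx.1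

theorem conj_mem_kerFix [Finite V] {Q Z : Subgroup (MulAut V)} [Fintype Z] {g : MulAut V}
    (hgQ : g ∈ normalizer (Q : Set (MulAut V))) (hgZ : g ∈ normalizer (Z : Set (MulAut V)))
    {x : MulAut V} (hx : x ∈ kerFix Q Z) : g * x * g⁻¹ ∈ kerFix Q Z := by
  refine ⟨conj_mem_of_mem_normalizer hgQ hx.1, fun v hv => ?_⟩
  have hv' : ∏ z : Z, (z : MulAut V) (g⁻¹ v) = 1 := by
    have e : ∏ z : Z, (z : MulAut V) (g⁻¹ v) = g⁻¹ (∏ z : Z, (z : MulAut V) v) := by
      rw [map_prod]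
      refine Fintype.prod_bijective (conjRestrict Z g hgZ) (MulEquiv.bijective _) _ _ fun z => ?_
      rw [conjRestrict_coe]
      simp only [MulAut.mul_apply, MulAut.inv_def, MulEquiv.symm_apply_apply]
    rw [e, hv, map_one]
  rw [MulAut.mul_apply, MulAut.mul_apply, hx.2 _ hv', MulAut.inv_def, MulEquiv.apply_symm_apply]

theorem finite_mulAut [Finite V] : Finite (MulAut V) :=
  Finite.of_injective (fun e : MulAut V => (⇑e : V → V)) DFunLike.coe_injective

theorem pow_apply_of_fixed_quot {x : MulAut V} {v u : V} (hu : x v = v * u) (hxu : x u = u) :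
    ∀ n : ℕ, (x ^ n) v = v * u ^ n := by
  intro n
  induction n with
  | zero => simp
  | succ n ih => rw [pow_succ', MulAut.mul_apply, ih, map_mul, map_pow, hu, hxu, pow_succ', mul_assoc]

theorem eq_one_of_shift [Finite V] {Q : Subgroup (MulAut V)} [Finite Q]
    (hcop : (Nat.card Q).Coprime (Nat.card V)) {x : MulAut V} (hx : x ∈ Q) {v u : V}
    (hu : x v = v * u) (hxu : x u = u) : x v = v := by
  have h := pow_apply_of_fixed_quot hu hxu (Nat.card Q)
  rw [show x ^ Nat.card Q = 1 from congrArg Subtype.val (pow_card_eq_one' (x := (⟨x, hx⟩ : Q))),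
    MulAut.one_apply] at h
  have h1 : u ^ Nat.card Q = 1 := by simpa using h.symm
  rw [hu, eq_of_pow_eq_pow_of_coprime hcop (h1.trans (one_pow _).symm), mul_one]

theorem eq_bot_of_le_kerFix [Finite V] {Q Z : Subgroup (MulAut V)} [Fintype Z] [Finite Q]
    (hZQ : Z ≤ Q) (hcop : (Nat.card Q).Coprime (Nat.card V)) (hQ : Q ≤ kerFix Q Z) : Z = ⊥ := by
  rw [eq_bot_iff_forall]
  intro z hz
  refine MulEquiv.ext fun v => ?_
  refine eq_one_of_shift hcop (hZQ hz) (u := v⁻¹ * z v) (by rw [mul_inv_cancel_left]) ?_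
  refine ((hQ (hZQ hz)).2 _ ?_)
  have e : ∏ y : Z, (y : MulAut V) (z v) = ∏ y : Z, (y : MulAut V) v :=
    Fintype.prod_bijective (fun y : Z => y * ⟨z, hz⟩) (Group.mulRight_bijective _) _ _
      fun y => rfl
  simp only [map_mul, map_inv, Finset.prod_mul_distrib, Finset.prod_inv_distrib, e, inv_mul_cancel]

end

section

variable {V : Type*} [CommGroup V] [Finite V] {p : ℕ} [Fact p.Prime]

theorem cIn_fixes {Q : Subgroup (MulAut V)} (b d : MulAut V)
    (hbQ : b ∈ normalizer (Q : Set (MulAut V))) (hb : b ^ p = 1) (hbd : Commute b d)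
    (hfpf : ∀ x ∈ Q, Commute x d → Commute x b → x = 1)
    (hV : ∀ v, d v = v → b v = v → v = 1) (hcop : (Nat.card Q).Coprime (Nat.card V))
    {x : MulAut V} (hx : x ∈ cIn Q d) {v : V} (hv : d v = v) : x v = v := by
  have := finite_mulAut (V := V)
  exact fixed_centralized (cIn Q d) b d (mem_normalizer_cIn hbQ hbd) hb hbd
    (fun y hy => (mem_cIn.1 hy).2) (fun y hy h => hfpf y (mem_cIn.1 hy).1 (mem_cIn.1 hy).2 h) hV
    (Nat.Coprime.coprime_dvd_left (card_dvd_of_le (cIn_le Q d)) hcop) hx hv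

theorem prod_pow_mem_range_fixed {Z : Subgroup (MulAut V)} [Fintype Z] {x : MulAut V}
    (hxZ : ∀ z ∈ Z, Commute x z) (hcop : (Nat.card Z).Coprime (Nat.card V))
    (hx : ∀ v, ∏ z : Z, (z : MulAut V) v = 1 → x v = v) (v : V) {z : MulAut V} (hz : z ∈ Z) :
    z (x v * v⁻¹) = x v * v⁻¹ := by
  set N := ∏ z : Z, (z : MulAut V) v with hN
  have hzN : ∀ y : Z, (y : MulAut V) N = N := fun y => by
    rw [hN]; exact norm_fixed Z.subtype y v
  have h0 : ∏ y : Z, (y : MulAut V) (v ^ Nat.card Z * N⁻¹) = 1 := by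
    simp only [map_mul, map_pow, map_inv, Finset.prod_mul_distrib, Finset.prod_pow,
      Finset.prod_inv_distrib, hzN, Finset.prod_const, Finset.card_univ]
    rw [Nat.card_eq_fintype_card, ← hN, mul_inv_cancel]
  have h1 := hx _ h0
  rw [map_mul, map_pow, map_inv] at h1
  have h2 : (x v * v⁻¹) ^ Nat.card Z = x N * N⁻¹ := by
    rw [mul_inv_eq_mul_inv_iff_mul_eq_mul] at h1
    rw [mul_pow, inv_pow, mul_inv_eq_mul_inv_iff_mul_eq_mul, h1, mul_comm]
  refine eq_of_pow_eq_pow_of_coprime hcop ?_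
  rw [← map_pow, h2, map_mul, map_inv, hzN ⟨z, hz⟩]
  have : z (x N) = x (z N) := (congrArg (fun e : MulAut V => e N) (hxZ z hz).eq).symm
  rw [this, hzN ⟨z, hz⟩]

end

end Cfsg.Agent.H72
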