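import Cfsg.Agent.H72.WardCore
import Cfsg.Agent.H72.NilpotentByAction
import Cfsg.Agent.H41.Nilpotent

/-!
Ward's theorem.
-/

set_option autoImplicit false

namespace Cfsg.Agent.H72

open Subgroup
open scoped commutatorElement IsMulCommutative

universe u

theorem card_fixed_modEq {α : Type*} [Finite α] {p : ℕ} [Fact p.Prime] (f : Equiv.Perm α)
    (hf : f ^ p = 1) : Nat.card α ≡ Nat.card {x // f x = x} [MOD p] := by
  have hP : IsPGroup p (zpowers f) := by
    intro x
    refine ⟨1, Subtype.ext ?_⟩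
    obtain ⟨k, hk⟩ := mem_zpowers_iff.1 x.2
    rw [SubmonoidClass.coe_pow, ← hk, pow_one, ← zpow_natCast, ← zpow_mul, mul_comm, zpow_mul,
      zpow_natCast, hf, one_zpow, OneMemClass.coe_one]
  have e : Nat.card (MulAction.fixedPoints (zpowers f) α) = Nat.card {x // f x = x} := by
    refine Nat.card_congr (Equiv.subtypeEquivRight fun x => ?_)
    constructor
    · intro h
      exact MulAction.mem_fixedPoints.1 h ⟨f, mem_zpowers f⟩
    · intro h g
      exact (zpowers_le.2 (show f ∈ MulAction.stabilizer (Equiv.Perm α) x from h)) g.2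
  exact e ▸ hP.card_modEq_card_fixedPoints α

theorem exists_common_fixed {α : Type*} [Finite α] {p : ℕ} [Fact p.Prime] (f g : Equiv.Perm α)
    (hfg : Commute f g) (hf : f ^ p = 1) (hg : g ^ p = 1) (hp : ¬ p ∣ Nat.card α) :
    ∃ x, f x = x ∧ g x = x := by
  have hcomm : ∀ x, f (g x) = g (f x) := fun x => congrArg (fun e : Equiv.Perm α => e x) hfg.eq
  let g' : {x // f x = x} → {x // f x = x} := fun x => ⟨g x, by rw [hcomm, x.2]⟩
  let g'' : Equiv.Perm {x // f x = x} := Equiv.ofBijective g'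
    (Finite.injective_iff_bijective.1 fun x y h => Subtype.ext (g.injective (congrArg Subtype.val h)))
  have hpow : ∀ (k : ℕ) x, ((g'' ^ k) x).1 = (g ^ k) x.1 := by
    intro k
    induction k with
    | zero => intro x; rfl
    | succ k ih =>
      intro x
      rw [pow_succ', pow_succ', Equiv.Perm.mul_apply, Equiv.Perm.mul_apply, ← ih]
      rfl
  have := Fintype.ofFinite {x // f x = x}
  obtain ⟨x, hx⟩ := Equiv.Perm.exists_fixed_point_of_prime (p := p) (n := 1) (σ := g'')
    (by
      rw [← Nat.card_eq_fintype_card]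
      exact fun h => hp (Nat.modEq_zero_iff_dvd.1
        ((card_fixed_modEq f hf).trans (Nat.modEq_zero_iff_dvd.2 h))))
    (by rw [pow_one]; ext x; rw [hpow, hg]; rfl)
  exact ⟨x.1, x.2, congrArg Subtype.val hx⟩

theorem not_dvd_card_of_fpf_pair {G : Type*} [Group G] [Finite G] {p : ℕ} [Fact p.Prime]
    (a c : MulAut G) (hac : Commute a c) (ha : a ^ p = 1) (hc : c ^ p = 1)
    (hfpf : ∀ g, a g = g → c g = g → g = 1) : ¬ p ∣ Nat.card G := by
  intro hdvd
  classical
  let fa : Equiv.Perm G := MulAut.toPerm G a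
  have hfa : fa ^ p = 1 := by rw [← map_pow, ha, map_one]
  have hF : p ∣ Nat.card {x // fa x = x} :=
    Nat.modEq_zero_iff_dvd.1 ((card_fixed_modEq fa hfa).symm.trans (Nat.modEq_zero_iff_dvd.2 hdvd))
  have hcomm : ∀ x, a (c x) = c (a x) := fun x => congrArg (fun e : MulAut G => e x) hac.eq
  let g' : {x // fa x = x} → {x // fa x = x} := fun x => ⟨c x, (hcomm x.1).trans (congrArg c x.2)⟩
  let g'' : Equiv.Perm {x // fa x = x} := Equiv.ofBijective g'
    (Finite.injective_iff_bijective.1 fun x y h => Subtype.ext (c.injective (congrArg Subtype.val h)))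
  have hpow : ∀ (k : ℕ) x, ((g'' ^ k) x).1 = (c ^ k) x.1 := by
    intro k
    induction k with
    | zero => intro x; rfl
    | succ k ih =>
      intro x
      rw [pow_succ', pow_succ', Equiv.Perm.mul_apply, MulAut.mul_apply, ← ih]
      rfl
  have := Fintype.ofFinite {x // fa x = x}
  obtain ⟨b, hb, hb1⟩ := Equiv.Perm.exists_fixed_point_of_prime' (p := p) (n := 1) (σ := g'')
    (by rwa [← Nat.card_eq_fintype_card]) (by rw [pow_one]; ext x; rw [hpow, hc]; rfl)
    (a := ⟨1, map_one a⟩) (Subtype.ext (map_one c))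
  exact hb1 (Subtype.ext (hfpf _ b.2 (congrArg Subtype.val hb)))

theorem mem_sylow_normal {G : Type*} [Group G] [Finite G] {q : ℕ} [Fact q.Prime] (P : Sylow q G)
    [(P : Subgroup G).Normal] {g : G} (hg : ∃ j : ℕ, g ^ q ^ j = 1) : g ∈ (P : Subgroup G) := by
  obtain ⟨j, hj⟩ := hg
  have hc : IsPGroup q (zpowers g) := by
    intro z
    refine ⟨j, Subtype.ext ?_⟩
    obtain ⟨e, he⟩ := mem_zpowers_iff.1 z.2
    rw [SubmonoidClass.coe_pow, ← he, ← zpow_natCast, ← zpow_mul, mul_comm, zpow_mul,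
      zpow_natCast, hj, one_zpow, OneMemClass.coe_one]
  exact (P.is_maximal' (hc.to_sup_of_normal_right P.isPGroup') le_sup_right) ▸
    mem_sup_left (mem_zpowers g)

/-- A normal `q`-subgroup equal to its commutator with a group that centralizes it up to a
`q`-group is trivial. -/
theorem eq_bot_of_commutator_eq {X : Type*} [Group X] [Finite X] {q : ℕ} [Fact q.Prime]
    (Q H : Subgroup X) (hQ : IsPGroup q Q) (hQH : Q ≤ H)
    (hn : ∀ h ∈ H, h ∈ normalizer (Q : Set X))
    (hcent : ∀ r : ℕ, r.Prime → r ≠ q → ∀ S : Sylow r H, ∀ y ∈ (S : Subgroup H),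
      ∀ x ∈ Q, Commute (y : X) x)
    (hQe : Q ≤ ⁅Q, H⁆) : Q = ⊥ := by
  have hQ' : IsPGroup q (Q.subgroupOf H) := hQ.comap_subtype
  obtain ⟨S, hS⟩ := hQ'.exists_le_sylow
  set Z := (centralizer (Q : Set X)).subgroupOf H with hZ
  have hidx : Z.relIndex ⊤ = Z.index := relIndex_top_right Z
  have htop : Z ⊔ (S : Subgroup H) = ⊤ := by
    rw [← index_eq_one]
    by_contra hne
    obtain ⟨r, hr, hrd⟩ := Nat.exists_prime_and_dvd hne
    have := Fact.mk hr
    by_cases hrq : r = q
    · subst hrq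
      exact S.not_dvd_index (hrd.trans (index_dvd_of_le le_sup_right))
    · obtain ⟨T⟩ : Nonempty (Sylow r H) := inferInstance
      have hTZ : (T : Subgroup H) ≤ Z := fun y hy => mem_subgroupOf.2
        (mem_centralizer_iff.2 fun x hx => (hcent r hr hrq T y hy x hx).symm)
      exact T.not_dvd_index (hrd.trans (index_dvd_of_le (hTZ.trans le_sup_left)))
  have hZn : Z.Normal := by
    refine ⟨fun z hz h => ?_⟩
    rw [hZ, mem_subgroupOf, mem_centralizer_iff] at hz ⊢
    intro x hx
    have hx' : (h : X)⁻¹ * x * h ∈ Q := by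
      simpa using conj_mem_of_mem_normalizer (inv_mem (hn h h.2)) hx
    have := hz _ hx'
    calc x * ((h * z * h⁻¹ : H) : X) = (h : X) * (((h : X)⁻¹ * x * h) * z) * (h : X)⁻¹ := by
          simp [mul_assoc]
      _ = _ := by rw [this]; simp [mul_assoc]
  set S' := (S : Subgroup H).map H.subtype with hS'
  have hQS : Q ≤ S' := fun x hx => ⟨⟨x, hQH hx⟩, hS hx, rfl⟩
  have hle : ⁅Q, H⁆ ≤ ⁅Q, S'⁆ := by
    rw [commutator_le]
    intro x hx h hh
    have : (⟨h, hh⟩ : H) ∈ Z ⊔ (S : Subgroup H) := htop ▸ mem_top _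
    rw [mem_sup_of_normal_left] at this
    obtain ⟨z, hz, s, hs, he⟩ := this
    have he' : h = (z : X) * (s : X) := by rw [← Subgroup.coe_mul, he]
    have hsS : (s : X) ∈ S' := ⟨s, hs, rfl⟩
    have hm : x * ((s : X) * x⁻¹ * (s : X)⁻¹) ∈ Q :=
      mul_mem hx (conj_mem_of_mem_normalizer (hn s s.2) (inv_mem hx))
    rw [hZ, mem_subgroupOf, mem_centralizer_iff] at hz
    have : ⁅x, h⁆ = ⁅x, (s : X)⁆ := by
      rw [commutatorElement_def, commutatorElement_def, he']
      calc x * ((z : X) * s) * x⁻¹ * ((z : X) * s)⁻¹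
          = (x * z) * ((s : X) * x⁻¹ * (s : X)⁻¹) * (z : X)⁻¹ := by group
        _ = (z : X) * (x * ((s : X) * x⁻¹ * (s : X)⁻¹)) * (z : X)⁻¹ := by
            rw [hz x hx]; group
        _ = _ := by rw [← hz _ hm]; group
    rw [this]
    exact commutator_mem_commutator hx hsS
  have hnil : Group.IsNilpotent S' := (S.isPGroup'.map H.subtype).isNilpotent
  obtain ⟨n, hnn⟩ := (isNilpotent_iff_lowerCentralSeries S').1 hnil
  have key : ∀ m, Q ≤ S'.lowerCentralSeries m := by
    intro m
    induction m with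
    | zero => exact hQS
    | succ m ih =>
      rw [Subgroup.lowerCentralSeries_succ]
      exact (hQe.trans hle).trans (commutator_mono ih le_rfl)
  exact le_bot_iff.1 (hnn ▸ key n)

/-- A nilpotent `M = ⁅M, H⁆` has all Sylow subgroups equal to their commutators with `H`. -/
theorem sylow_le_commutator {X : Type*} [Group X] [Finite X] {q : ℕ} [Fact q.Prime]
    (M H : Subgroup X) (hM : Group.IsNilpotent M) (hn : ∀ h ∈ H, h ∈ normalizer (M : Set X))
    (hMH : M ≤ ⁅M, H⁆) (P : Sylow q M) :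
    (P : Subgroup M).map M.subtype ≤ ⁅(P : Subgroup M).map M.subtype, H⁆ := by
  have hPn : (P : Subgroup M).Normal := inferInstance
  have hcop : Nat.Coprime (Nat.card (P : Subgroup M)) (P : Subgroup M).index := P.card_coprime_index
  obtain ⟨K, hK⟩ := Subgroup.exists_right_complement'_of_coprime hcop
  set Q := (P : Subgroup M).map M.subtype with hQ
  set K' := K.map M.subtype with hK'
  set E := ⁅Q, H⁆ with hE
  have hKcard : Nat.card K = (P : Subgroup M).index := hK.symm.index_eq_card.symm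
  have hcommute : ∀ x ∈ (P : Subgroup M), ∀ k ∈ K, Commute x k := fun x hx k hk => by
    refine Cfsg.Agent.H41.commute_of_coprime_orderOf hM (x := x) (y := k) ?_
    exact Nat.Coprime.coprime_dvd_left (Subgroup.orderOf_dvd_natCard _ hx)
      (Nat.Coprime.coprime_dvd_right (Subgroup.orderOf_dvd_natCard _ hk) (hKcard ▸ hcop))
  have hQn : ∀ h ∈ H, ∀ x ∈ Q, h * x * h⁻¹ ∈ Q := by
    rintro h hh _ ⟨x, hx, rfl⟩
    refine ⟨⟨h * x * h⁻¹, conj_mem_of_mem_normalizer (hn h hh) x.2⟩, ?_, rfl⟩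
    refine mem_sylow_normal P ?_
    obtain ⟨j, hj⟩ := P.isPGroup' ⟨x, hx⟩
    refine ⟨j, Subtype.ext ?_⟩
    rw [SubmonoidClass.coe_pow, conj_pow,
      show (x : X) ^ q ^ j = 1 from congrArg (fun z : (P : Subgroup M) => ((z : M) : X)) hj]
    simp
  have hKn : ∀ h ∈ H, ∀ k ∈ K', h * k * h⁻¹ ∈ K' := by
    rintro h hh _ ⟨k, hk, rfl⟩
    let k' : M := ⟨h * k * h⁻¹, conj_mem_of_mem_normalizer (hn h hh) k.2⟩
    obtain ⟨⟨u, v⟩, huv⟩ := hK.2 k'
    have huv' : (u : M) * (v : M) = k' := huv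
    have hkpow : k' ^ Nat.card K = 1 := by
      refine Subtype.ext ?_
      rw [SubmonoidClass.coe_pow]
      show (h * (k : X) * h⁻¹) ^ Nat.card K = 1
      rw [conj_pow, show (k : X) ^ Nat.card K = 1 from
        congrArg (fun z : K => ((z : M) : X)) (pow_card_eq_one' (x := (⟨k, hk⟩ : K)))]
      simp
    have hvpow : (v : M) ^ Nat.card K = 1 := by
      exact_mod_cast congrArg Subtype.val (pow_card_eq_one' (x := v))
    rw [← huv', (hcommute _ u.2 _ v.2).mul_pow, hvpow, mul_one] at hkpow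
    have hu2 : (u : M) ^ Nat.card (P : Subgroup M) = 1 := by
      exact_mod_cast congrArg Subtype.val (pow_card_eq_one' (x := u))
    have hu1 := pow_gcd_eq_one.2 ⟨hu2, hkpow⟩
    rw [hKcard, hcop, pow_one] at hu1
    exact ⟨k', by rw [← huv', hu1, one_mul]; exact v.2, rfl⟩
  have hEQ : E ≤ Q := by
    rw [hE, commutator_le]
    intro x hx h hh
    rw [commutatorElement_def, mul_assoc, mul_assoc, ← mul_assoc h]
    exact mul_mem hx (hQn h hh _ (inv_mem hx))
  have hcQK : ∀ x ∈ Q, ∀ k ∈ K', Commute x k := by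
    rintro _ ⟨x, hx, rfl⟩ _ ⟨k, hk, rfl⟩
    exact (hcommute x hx k hk).map M.subtype
  let U : Subgroup X :=
    { carrier := {g | ∃ e ∈ E, ∃ k ∈ K', g = e * k}
      one_mem' := ⟨1, one_mem _, 1, one_mem _, (mul_one 1).symm⟩
      mul_mem' := by
        rintro _ _ ⟨e, he, k, hk, rfl⟩ ⟨e', he', k', hk', rfl⟩
        refine ⟨e * e', mul_mem he he', k * k', mul_mem hk hk', ?_⟩
        rw [mul_assoc e, ← mul_assoc k, ← (hcQK _ (hEQ he') k hk).eq]
        simp [mul_assoc]
      inv_mem' := by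
        rintro _ ⟨e, he, k, hk, rfl⟩
        exact ⟨e⁻¹, inv_mem he, k⁻¹, inv_mem hk, by
          rw [mul_inv_rev, ((hcQK _ (hEQ he) k hk).inv_inv).eq]⟩ }
  have hMU : ⁅M, H⁆ ≤ U := by
    rw [commutator_le]
    intro m hm h hh
    obtain ⟨⟨u, v⟩, huv⟩ := hK.2 ⟨m, hm⟩
    have hm' : m = (u : M) * (v : M) := by
      have := congrArg Subtype.val huv
      exact this.symm
    have huQ : ((u : M) : X) ∈ Q := ⟨u, u.2, rfl⟩
    have hvK : ((v : M) : X) ∈ K' := ⟨v, v.2, rfl⟩
    refine ⟨⁅((u : M) : X), h⁆, commutator_mem_commutator huQ hh,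
      ((v : M) : X) * (h * ((v : M) : X)⁻¹ * h⁻¹),
      mul_mem hvK (hKn h hh _ (inv_mem hvK)), ?_⟩
    set w := ((v : M) : X) * (h * ((v : M) : X)⁻¹ * h⁻¹) with hw
    have hcw : Commute ((u : M) : X) w := hcQK _ huQ _ (mul_mem hvK (hKn h hh _ (inv_mem hvK)))
    have he : ⁅((u : M) : X), h⁆ ∈ Q := hEQ (commutator_mem_commutator huQ hh)
    rw [(hcQK _ he w (mul_mem hvK (hKn h hh _ (inv_mem hvK)))).eq, commutatorElement_def, hm',
      commutatorElement_def]
    calc ((u : M) : X) * (v : M) * h * (((u : M) : X) * (v : M))⁻¹ * h⁻¹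
        = (((u : M) : X) * w) * (h * ((u : M) : X)⁻¹ * h⁻¹) := by rw [hw]; group
      _ = _ := by rw [hcw.eq]; group
  intro x hx
  obtain ⟨e, he, k, hk, hxe⟩ := hMU (hMH (map_subtype_le _ hx))
  have hkQ : k ∈ Q := by
    have : k = e⁻¹ * x := by rw [hxe, inv_mul_cancel_left]
    rw [this]
    exact mul_mem (inv_mem (hEQ he)) hx
  have hk1 : k = 1 := by
    obtain ⟨k₁, hk₁, rfl⟩ := hk
    obtain ⟨k₂, hk₂, h₂⟩ := hkQ
    rw [M.subtype_injective h₂] at hk₂
    have : k₁ ∈ (P : Subgroup M) ⊓ K := ⟨hk₂, hk₁⟩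
    rw [hK.disjoint.eq_bot, mem_bot] at this
    rw [this, map_one]
  rwa [hxe, hk1, mul_one]

/-- Invariant Sylow subgroups, and centralizing by them. -/
theorem commute_of_fpf_pair {V : Type*} [CommGroup V] [Finite V] {p q r : ℕ} [Fact p.Prime]
    [Fact q.Prime] [Fact r.Prime] (s t : MulAut V) (hst : Commute s t) (hs : s ^ p = 1)
    (ht : t ^ p = 1) (hV : ∀ v, s v = v → t v = v → v = 1) (H Q : Subgroup (MulAut V))
    (hsH : s ∈ normalizer (H : Set (MulAut V))) (htH : t ∈ normalizer (H : Set (MulAut V)))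
    (hH : ∀ x ∈ H, Commute x s → Commute x t → x = 1) (hpH : ¬ p ∣ Nat.card H) (hQH : Q ≤ H)
    (hQ : IsPGroup q Q) (hsQ : s ∈ normalizer (Q : Set (MulAut V)))
    (htQ : t ∈ normalizer (Q : Set (MulAut V))) (hHQ : ∀ h ∈ H, h ∈ normalizer (Q : Set (MulAut V)))
    (hrq : r ≠ q) (hcop : (Nat.card Q).Coprime (Nat.card V)) (S : Sylow r H) :
    ∀ y ∈ (S : Subgroup H), ∀ x ∈ Q, Commute (y : MulAut V) x := by
  classical
  have := finite_mulAut (V := V)
  let fs : Equiv.Perm (Sylow r H) :=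
    MulAction.toPermHom (MulAut H) (Sylow r H) (conjRestrict H s hsH)
  let ft : Equiv.Perm (Sylow r H) :=
    MulAction.toPermHom (MulAut H) (Sylow r H) (conjRestrict H t htH)
  obtain ⟨S₀, h1, h2⟩ := exists_common_fixed (p := p) fs ft
    ((conjRestrict_commute hsH htH hst).map _)
    (by rw [← map_pow, conjRestrict_pow_eq_one hsH hs, map_one])
    (by rw [← map_pow, conjRestrict_pow_eq_one htH ht, map_one])
    (fun h => hpH (h.trans ((Sylow.card_dvd_index S).trans (index_dvd_card _))))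
  set R := (S₀ : Subgroup H).map H.subtype with hR
  have hinv : ∀ (g : MulAut V) (hg : g ∈ normalizer (H : Set (MulAut V))),
      conjRestrict H g hg • S₀ = S₀ → g ∈ normalizer (R : Set (MulAut V)) := by
    intro g hg hfix
    refine mem_normalizer_of_conj_mem ?_
    rintro _ ⟨x, hx, rfl⟩
    refine ⟨conjRestrict H g hg x, ?_, rfl⟩
    have := Subgroup.smul_mem_pointwise_smul x (conjRestrict H g hg) (S₀ : Subgroup H) hx
    rwa [← Sylow.pointwise_smul_def, hfix, MulAut.smul_def] at this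
  have hsR := hinv s hsH h1
  have htR := hinv t htH h2
  have hRH : R ≤ H := map_subtype_le _
  have hRp : IsPGroup r R := S₀.isPGroup'.map _
  have hpR : ¬ p ∣ Nat.card R := fun h => hpH (h.trans (card_dvd_of_le hRH))
  have hpQ : ¬ p ∣ Nat.card Q := fun h => hpH (h.trans (card_dvd_of_le hQH))
  have hcopRQ : ∀ R' : Subgroup (MulAut V), R' ≤ R → (Nat.card R').Coprime (Nat.card Q) := by
    intro R' hR'
    obtain ⟨i, hi⟩ := IsPGroup.iff_card.1 (hRp.to_le hR')
    obtain ⟨j, hj⟩ := IsPGroup.iff_card.1 hQ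
    rw [hi, hj]
    exact ((Nat.coprime_primes (Fact.out) (Fact.out)).2 hrq).pow i j
  have hRQ : ∀ y ∈ R, y ∈ normalizer (Q : Set (MulAut V)) := fun y hy => hHQ y (hRH hy)
  have hline : ∀ j, (t * s ^ j) ^ p = 1 := fun j => by
    rw [(hst.symm.pow_right j).mul_pow, ht, ← pow_mul, mul_comm j, pow_mul, hs, one_pow, one_mul]
  have hpiece : ∀ a c : MulAut V, Commute a c → a ^ p = 1 → c ^ p = 1 →
      a ∈ normalizer (R : Set (MulAut V)) → c ∈ normalizer (R : Set (MulAut V)) →
      a ∈ normalizer (Q : Set (MulAut V)) → c ∈ normalizer (Q : Set (MulAut V)) →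
      (∀ x, Commute x a → Commute x c → Commute x s ∧ Commute x t) →
      (∀ v, a v = v → c v = v → s v = v ∧ t v = v) →
      cIn R a ≤ centralizer (Q : Set (MulAut V)) := by
    intro a c hac ha hc _ hcR haQ hcQ hgenX hgenV y hy
    refine mem_centralizer_iff.2 fun x hx => (Commute.eq ?_).symm
    refine ward_key (p := p) (q := q) a c hac ha hc (fun v h1 h2 => hV v (hgenV v h1 h2).1 (hgenV v h1 h2).2)
      (cIn R a) (fun h => hpR (h.trans (card_dvd_of_le (cIn_le _ _))))
      (fun z hz => (mem_cIn.1 hz).2) (mem_normalizer_cIn hcR hac.symm) ?_ _ Q rfl hQ hpQ hcop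
      (hcopRQ _ (cIn_le _ _)) haQ hcQ (fun z hz => hRQ z (cIn_le _ _ hz)) ?_ y hy x hx
    · exact fun z hz h => hH z (hRH (cIn_le _ _ hz)) (hgenX z (mem_cIn.1 hz).2 h).1
        (hgenX z (mem_cIn.1 hz).2 h).2
    · exact fun z hz h h' => hH z (hQH hz) (hgenX z h h').1 (hgenX z h h').2
  have hRc : R ≤ centralizer (Q : Set (MulAut V)) := by
    refine le_of_lines hRp hpR hst hs ht hsR htR _ ?_ (fun j _ => ?_)
    · exact hpiece s t hst hs ht hsR htR hsQ htQ (fun x h h' => ⟨h, h'⟩) (fun v h h' => ⟨h, h'⟩)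
    · refine hpiece (t * s ^ j) s (hst.symm.mul_left (Commute.pow_self s j)) (hline j) hs
        (mul_mem htR (pow_mem hsR j)) hsR (mul_mem htQ (pow_mem hsQ j)) hsQ
        (fun x h h' => ⟨h', ?_⟩) (fun v h h' => ⟨h', ?_⟩)
      · have := h.mul_right ((h'.pow_right j).inv_right)
        rwa [mul_inv_cancel_right] at this
      · have e : (s ^ j) v = v := MulAction.mem_stabilizer_iff.1
          (pow_mem (show s ∈ MulAction.stabilizer (MulAut V) v from h') j)
        rw [MulAut.mul_apply, e] at h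
        exact h
  intro y hy x hx
  obtain ⟨g, hg⟩ := MulAction.exists_smul_eq H S₀ S
  rw [← hg, Sylow.coe_subgroup_smul, Subgroup.mem_pointwise_smul_iff_inv_smul_mem] at hy
  have hy0 : (g : MulAut V)⁻¹ * (y : MulAut V) * g ∈ R := by
    refine ⟨g⁻¹ * y * g, ?_, rfl⟩
    show g⁻¹ * y * g ∈ (S₀ : Subgroup H)
    simpa [mul_assoc, MulAut.smul_def] using hy
  have hx' : (g : MulAut V)⁻¹ * x * g ∈ Q := by
    simpa using conj_mem_of_mem_normalizer (inv_mem (hHQ g g.2)) hx
  have h := mem_centralizer_iff.1 (hRc hy0) _ hx'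
  have h' := congrArg (fun z => (g : MulAut V) * z * (g : MulAut V)⁻¹) h
  simp only [mul_assoc, mul_inv_cancel_left, mul_inv_cancel, mul_one] at h'
  exact h'.symm

theorem ward_residual : ∀ (n : ℕ) (G : Type u) [Group G] [Finite G], Nat.card G = n →
    Group.IsSolvable G → ∀ {p : ℕ} [Fact p.Prime] (a c : MulAut G), Commute a c → a ^ p = 1 →
      c ^ p = 1 → (∀ g, a g = g → c g = g → g = 1) → ∀ k : ℕ,
      (⊤ : Subgroup G).lowerCentralSeries k = (⊤ : Subgroup G).lowerCentralSeries (k + 1) →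
      Group.IsNilpotent ((⊤ : Subgroup G).lowerCentralSeries k) := by
  intro n
  induction n using Nat.strong_induction_on with
  | _ n ih =>
  intro G _ _ hn hG p _ a c hac ha hc hfpf k hk
  rcases subsingleton_or_nontrivial G with hS | hN
  · infer_instance
  classical
  obtain ⟨r₀, V, hr₀, hVne, hVaut, hexp, hVc⟩ := exists_char_elementary hG
  have := Fact.mk hr₀
  have hVn : V.Normal := ⟨fun x hx g => hVaut (MulAut.conj g) x hx⟩
  have hVcomm : IsMulCommutative V := ⟨⟨fun x y => Subtype.ext (hVc x x.2 y y.2)⟩⟩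
  have hVσ : ∀ (e : MulAut G) x, e x ∈ V ↔ x ∈ V := fun e => mem_iff_of_mapsTo V e (hVaut e)
  let res : MulAut G →* MulAut V :=
    { toFun := fun e => restrictAut V e (hVσ e)
      map_one' := by ext x; rfl
      map_mul' := fun e f => by ext x; rfl }
  have hmapV : ∀ e : MulAut G, V.map e.toMonoidHom = V := by
    intro e
    ext x
    constructor
    · rintro ⟨y, hy, rfl⟩; exact hVaut e y hy
    · intro hx; exact ⟨e⁻¹ x, hVaut _ x hx, by simp⟩
  let quo : MulAut G →* MulAut (G ⧸ V) :=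
    { toFun := fun e => QuotientGroup.congr V V e (hmapV e)
      map_one' := by
        ext x
        induction x using QuotientGroup.induction_on with
        | H g => rfl
      map_mul' := fun e f => by
        ext x
        induction x using QuotientGroup.induction_on with
        | H g => rfl }
  have hpG : ¬ p ∣ Nat.card G := not_dvd_card_of_fpf_pair a c hac ha hc hfpf
  have hquofpf : ∀ x, quo a x = x → quo c x = x → x = 1 :=
    fpf_pair_of_surjective (p := p) (QuotientGroup.mk' V) (QuotientGroup.mk'_surjective V) a c hac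
      ha hc hpG _ _ (fun g => rfl) (fun g => rfl) hfpf
  set R := (⊤ : Subgroup G).lowerCentralSeries k with hRdef
  have hmapR : ∀ j, ((⊤ : Subgroup G).lowerCentralSeries j).map (QuotientGroup.mk' V) =
      (⊤ : Subgroup (G ⧸ V)).lowerCentralSeries j := fun j => by
    rw [map_lowerCentralSeries, Subgroup.map_top_of_surjective _ (QuotientGroup.mk'_surjective V)]
  have hlt : Nat.card (G ⧸ V) < n := by
    have h1 := V.card_eq_card_quotient_mul_card_subgroup
    have h2 : 1 < Nat.card V := (one_lt_card_iff_ne_bot V).2 hVne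
    rw [← hn, h1]
    exact lt_mul_of_one_lt_right Nat.card_pos h2
  have hRb : Group.IsNilpotent (R.map (QuotientGroup.mk' V)) := by
    rw [hRdef, hmapR]
    refine ih _ hlt (G ⧸ V) rfl inferInstance (p := p) (quo a) (quo c) (hac.map _)
      (by rw [← map_pow, ha, map_one]) (by rw [← map_pow, hc, map_one]) hquofpf k ?_
    rw [← hmapR, ← hmapR, ← hRdef, hk]
  refine isNilpotent_of_action V hexp R hRb ?_
  -- the image of the residual in the automorphism group of `V` is an `r₀`-group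
  let φ : G →* MulAut V := MulAut.conjNormal
  have hφ : ∀ (e : MulAut G) g, φ (e g) = res e * φ g * (res e)⁻¹ := by
    intro e g
    rw [eq_mul_inv_iff_mul_eq]
    ext v
    simp [φ, res, MulAut.mul_apply, MulAut.conjNormal_apply]
  have hφV : V ≤ φ.ker := by
    intro v hv
    rw [MonoidHom.mem_ker]
    ext w
    simp only [φ, MulAut.conjNormal_apply, MulAut.one_apply]
    rw [hVc v hv w w.2, mul_inv_cancel_right]
  have hfinV := finite_mulAut (V := V)
  set M := R.map φ with hM
  set H := φ.range with hH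
  have hMnil : Group.IsNilpotent M := by
    let ψ := QuotientGroup.lift V φ hφV
    have h1 : (R.map (QuotientGroup.mk' V)).map ψ = M := by
      rw [map_map]; rfl
    have h2 : Group.IsNilpotent ((R.map (QuotientGroup.mk' V)).map ψ) :=
      Group.nilpotent_of_surjective (h := hRb) (ψ.subgroupMap _) (ψ.subgroupMap_surjective _)
    rwa [h1] at h2
  have hnormres : ∀ e : MulAut G, res e ∈ normalizer (H : Set (MulAut V)) := fun e =>
    mem_normalizer_of_conj_mem (by rintro _ ⟨g, rfl⟩; exact ⟨e g, hφ e g⟩)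
  have hRaut : ∀ (e : MulAut G), ∀ g ∈ R, e g ∈ R := fun e g hg =>
    characteristic_iff_map_le.1 (lowerCentralSeries_characteristic ⊤ k) e ⟨g, hg, rfl⟩
  have hMres : ∀ e : MulAut G, res e ∈ normalizer (M : Set (MulAut V)) := fun e =>
    mem_normalizer_of_conj_mem (by rintro _ ⟨g, hg, rfl⟩; exact ⟨e g, hRaut e g hg, hφ e g⟩)
  have hMH : M ≤ H := by rintro _ ⟨g, -, rfl⟩; exact ⟨g, rfl⟩
  have hHM : ∀ h ∈ H, h ∈ normalizer (M : Set (MulAut V)) := by
    rintro _ ⟨g, rfl⟩
    refine mem_normalizer_of_conj_mem ?_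
    rintro _ ⟨x, hx, rfl⟩
    exact ⟨g * x * g⁻¹, hRaut (MulAut.conj g) x hx, by simp⟩
  have hMcomm : M ≤ ⁅M, H⁆ := by
    have h1 : ⁅M, H⁆ = ((⊤ : Subgroup G).lowerCentralSeries (k + 1)).map φ := by
      rw [Subgroup.lowerCentralSeries_succ, map_commutator, ← hRdef, hH, MonoidHom.range_eq_map]
    rw [h1, ← hk]
  have hresV : ∀ v, res a v = v → res c v = v → v = 1 := fun v h1 h2 =>
    Subtype.ext (hfpf _ (congrArg Subtype.val h1) (congrArg Subtype.val h2))
  have hHfpf : ∀ x ∈ H, Commute x (res a) → Commute x (res c) → x = 1 := by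
    intro x hx h1 h2
    have h := fpf_pair_of_surjective (p := p) φ.rangeRestrict φ.rangeRestrict_surjective a c hac ha hc
      hpG (fun y : H => conjRestrict H _ (hnormres a) y) (fun y : H => conjRestrict H _ (hnormres c) y)
      (fun g => Subtype.ext (hφ a g)) (fun g => Subtype.ext (hφ c g)) hfpf ⟨x, hx⟩
      ((conjRestrict_fixed _ _).2 h1) ((conjRestrict_fixed _ _).2 h2)
    exact congrArg Subtype.val h
  have hpH : ¬ p ∣ Nat.card H := fun h => hpG (h.trans (card_range_dvd φ))
  have hVp : IsPGroup r₀ V := fun v => ⟨1, Subtype.ext (by simpa using hexp _ v.2)⟩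
  have hkill : ∀ q : ℕ, q.Prime → q ≠ r₀ → ¬ q ∣ Nat.card M := by
    intro q hq hqr hdvd
    have := Fact.mk hq
    obtain ⟨P⟩ : Nonempty (Sylow q M) := inferInstance
    set Q := (P : Subgroup M).map M.subtype with hQdef
    have hQp : IsPGroup q Q := P.isPGroup'.map _
    have hQnorm : ∀ g ∈ normalizer (M : Set (MulAut V)), g ∈ normalizer (Q : Set (MulAut V)) := by
      intro g hg
      refine mem_normalizer_of_conj_mem ?_
      rintro _ ⟨x, hx, rfl⟩
      refine ⟨⟨g * x * g⁻¹, conj_mem_of_mem_normalizer hg x.2⟩, mem_sylow_normal P ?_, rfl⟩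
      obtain ⟨j, hj⟩ := P.isPGroup' ⟨x, hx⟩
      refine ⟨j, Subtype.ext ?_⟩
      rw [SubmonoidClass.coe_pow, conj_pow, show (x : MulAut V) ^ q ^ j = 1 from
        congrArg (fun z : (P : Subgroup M) => ((z : M) : MulAut V)) hj]
      simp
    have hQH : Q ≤ H := (map_subtype_le _).trans hMH
    have hcop : (Nat.card Q).Coprime (Nat.card V) := by
      obtain ⟨i, hi⟩ := IsPGroup.iff_card.1 hQp
      obtain ⟨j, hj⟩ := IsPGroup.iff_card.1 hVp
      rw [hi, hj]
      exact ((Nat.coprime_primes hq hr₀).2 hqr).pow i j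
    have hQbot : Q = ⊥ := by
      refine eq_bot_of_commutator_eq Q H hQp hQH (fun h hh => hQnorm h (hHM h hh)) ?_
        (sylow_le_commutator M H hMnil hHM hMcomm P)
      intro r hr hrq S
      have := Fact.mk hr
      exact commute_of_fpf_pair (p := p) (res a) (res c) (hac.map _) (by rw [← map_pow, ha, map_one])
        (by rw [← map_pow, hc, map_one]) hresV H Q (hnormres a) (hnormres c) hHfpf hpH hQH hQp
        (hQnorm _ (hMres a)) (hQnorm _ (hMres c)) (fun h hh => hQnorm h (hHM h hh)) hrq hcop S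
    have hPbot : (P : Subgroup M) = ⊥ :=
      (map_eq_bot_iff_of_injective _ M.subtype_injective).1 hQbot
    exact P.ne_bot_of_dvd_card hdvd hPbot
  refine IsPGroup.of_card (n := (Nat.card M).primeFactorsList.length)
    (Nat.eq_prime_pow_of_unique_prime_dvd Nat.card_pos.ne' fun {q} hq hqd => ?_)
  by_contra hne
  exact hkill q hq hne hqd

theorem ward {G : Type*} [Group G] [Finite G] (hG : Group.IsSolvable G) {p : ℕ} [Fact p.Prime]
    (a c : MulAut G) (hac : Commute a c) (ha : a ^ p = 1) (hc : c ^ p = 1)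
    (hfpf : ∀ g, a g = g → c g = g → g = 1) :
    ∃ (R : Subgroup G) (k l : ℕ), R.Normal ∧ (⊤ : Subgroup G).lowerCentralSeries k ≤ R ∧
      R.lowerCentralSeries l ≤ ⊥ := by
  obtain ⟨k, hk⟩ : ∃ k, (⊤ : Subgroup G).lowerCentralSeries k =
      (⊤ : Subgroup G).lowerCentralSeries (k + 1) := by
    by_contra h
    push Not at h
    have hlt : ∀ m, Nat.card ((⊤ : Subgroup G).lowerCentralSeries (m + 1)) <
        Nat.card ((⊤ : Subgroup G).lowerCentralSeries m) := fun m =>
      lt_of_not_ge fun hle => h m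
        (eq_of_le_of_card_ge ((⊤ : Subgroup G).lowerCentralSeries_antitone (Nat.le_succ m)) hle).symm
    have : ∀ m, Nat.card ((⊤ : Subgroup G).lowerCentralSeries m) + m ≤
        Nat.card ((⊤ : Subgroup G).lowerCentralSeries 0) := by
      intro m
      induction m with
      | zero => simp
      | succ m ihm => have := hlt m; omega
    have h1 := this (Nat.card ((⊤ : Subgroup G).lowerCentralSeries 0) + 1)
    omega
  have hnil := ward_residual _ G rfl hG a c hac ha hc hfpf k hk
  obtain ⟨l, hl⟩ := (isNilpotent_iff_lowerCentralSeries _).1 hnil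
  exact ⟨_, k, l, inferInstance, le_rfl, hl.le⟩

end Cfsg.Agent.H72
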